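import Cfsg.Agent.H88.SuzEndB
set_option maxRecDepth 1000000
set_option Elab.async false
namespace H88.SuzEnd
open H71 H81
def mT : Md := ([], [], 28)
def MT : List Md := [([], [], 9), ([], [], 13)]
theorem clT_0 : allZ (clsB 1792 LS [459,444,417,0] mT MT) (mapApp [] (prods [A9, A6, A3]) []) [[2],
  [0,41,10,41,6],
  [],
  [0],
  [0,41],
  [0,10,6,15,42],
  [0,6],
  [],
  [0,15,41,6],
  [],
  [],
  [0,41,15,41,6],
  [0,41,41,41],
  [],
  [0,15,41,41],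
  [],
  [],
  [],
  [0,42,41,6,42],
  [],
  [0,10,15,12,0,10],
  [],
  [0,10,41,12,0,10],
  [0,0,10,15,0,10],
  [0,42,6,42],
  [0,38,41,41,6],
  [0,42,15,10],
  [0,42,6,6,10,6],
  [],
  [0,41,41,6],
  [],
  [0,42,15,10,6],
  [],
  [],
  [],
  [],
  [],
  [],
  [],
  [],
  [],
  [0,41,6],
  [0,0,0,41,6],
  [],
  [],
  [0,41,41,41,6],
  [],
  [0,41,41],
  [],
  [],
  [0,10,42,10,42,6],
  [],
  [0,3,15,3,3],
  [],
  [0,41,42,42,42,10],
  [0,42,3,3,42,3],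
  [],
  [],
  [],
  [],
  [],
  [],
  [],
  [],
  [],
  [1,12,38,6,6,0,6],
  [],
  [],
  [1,43,6,41,38,0,6,0],
  [1,43,6,41,0,43,0,38],
  [1,6,43,0,12,41,6,43],
  [],
  [],
  [],
  [],
  [],
  [],
  [],
  [],
  [],
  [],
  [],
  [],
  [],
  [],
  [],
  [],
  [],
  [],
  [],
  [],
  [],
  [],
  [],
  [],
  [],
  [1,12,6,41,0],
  [],
  [],
  [1,0,0,0,6,41,0],
  [],
  [],
  [],
  [],
  [],
  [],
  [],
  [],
  [],
  [],
  [],
  [],
  [],
  [],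
  [],
  [],
  [],
  [],
  [],
  [],
  [],
  [],
  [],
  [],
  [1,38,6,41,0,43,38],
  [],
  [1,15,12,6,41,0],
  [],
  [1,43,43],
  [1,0,0,38,41,38,38],
  [],
  [1,43,38,38,43],
  [1,41,43,38,38,43],
  [1,38,43,38,43,38,43],
  [1,6,38,38,0,6],
  [],
  [1,41,41,38,38,43,43],
  [],
  [],
  [1,6,12,0,0,6],
  [1,6,0,6,41,0,0],
  [],
  [1,41,6,12,0,0,6],
  [],
  [],
  [],
  [1,0,38,0,43,38,0],
  [],
  [1,12,38,0,38,42,0],
  [],
  [1,0,38,15,12,38,42,0],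
  [1,38,12,43,38,6,43],
  [1,38,0,43,6,38,38],
  [1,38,38,43,43],
  [1,41,6,12,6,38,38],
  [1,12,43,38,6,41,38],
  [],
  [1,43,43,38,38],
  [],
  [1,41,6,0,6,41,0,0],
  [],
  [],
  [],
  [],
  [],
  [],
  [],
  [],
  [],
  [1,41,6,38,38,0,6],
  [1,41,38,38,43,43],
  [],
  [],
  [1,6,12,6,38,38],
  [],
  [1,41,41,43,38,38,43],
  [],
  [],
  [1,0,38,12,38,42,0],
  [],
  [1,12,38,12,43,38,0],
  [],
  [1,0,43,38,6,38,38,43],
  [1,43,38,12,43,38,6],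
  [],
  [],
  [],
  [],
  [],
  [],
  [],
  [],
  [1],
  [1,38,43,43,38,0,0],
  [],
  [1,43,43,38,38,43],
  [1,38,0,0,43,38],
  [1,0,41,42,10,42,3,6],
  [1,38,43,0,0,38],
  [],
  [1,42,15,10,38,38],
  [],
  [],
  [1,15,41,38,38],
  [1,6,0,41,0,38,0],
  [],
  [1,41,15,41,38,38],
  [],
  [],
  [],
  [1,42,15,42,10,38,38],
  [],
  [1,38,43,38,43,15,38],
  [],
  [1,6,0,12,41,38,0],
  [1,10,41,15,10,38,38],
  [1,38,43,0,0,43,38],
  [1,12,38,38,0],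
  [1,41,41,38,38],
  [1,38,43,43,0,0,38],
  [],
  [1,38,38],
  [],
  [1,38,43,38,0,0],
  [],
  [],
  [],
  [],
  [],
  [],
  [],
  [],
  [],
  [1,41,38,43,0,0,38],
  [1,41,12,38,38,0],
  [],
  [],
  [1,41,38,38],
  [],
  [1,41,38,0,0,43,38],
  [],
  [],
  [1,38,43,38,43,38],
  [],
  [1,43,12,38,12,43,38,0],
  [],
  [1,6,6,38,38,43,6,38],
  [1,38,43,15,38,43,38],
  [],
  [],
  [],
  [],
  [],
  [],
  [],
  [],
  [],
  [],
  [],
  [],
  [],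
  [],
  [],
  [],
  [],
  [],
  [],
  [],
  [],
  [],
  [],
  [],
  [],
  [],
  [],
  [],
  [],
  [],
  [],
  [],
  [],
  [],
  [],
  [],
  [],
  [],
  [],
  [],
  [],
  [],
  [],
  [],
  [],
  [],
  [],
  [],
  [],
  [],
  [],
  [],
  [],
  [],
  [],
  [],
  [],
  [],
  [],
  [],
  [],
  [],
  [],
  [],
  [],
  [],
  [],
  [],
  [],
  [],
  [],
  [],
  [],
  [1,0,43,12,38,0,6],
  [],
  [],
  [1,38,15,12,6,41,0],
  [1,38,0,6,41,0],
  [1,0,6,41,0,38],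
  [],
  [],
  [],
  [],
  [],
  [],
  [],
  [],
  [],
  [],
  [],
  [],
  [],
  [],
  [],
  [],
  [],
  [],
  [],
  [],
  [],
  [],
  [],
  [],
  [],
  [1,0,3,41,43,3],
  [],
  [],
  [1,0,0,3,41,43,3,0],
  [],
  [],
  [],
  [],
  [],
  [],
  [],
  [],
  [],
  [],
  [],
  [],
  [],
  [],
  [],
  [],
  [],
  [],
  [],
  [],
  [],
  [],
  [],
  [],
  [1,38,0,3,41,43,3],
  [],
  [1,3,41,43,3,0],
  [],
  [],
  [],
  [],
  [],
  [],
  [],
  [],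
  [],
  [],
  [],
  [],
  [],
  [],
  [],
  [],
  [],
  [],
  [],
  [],
  [],
  [],
  [],
  [],
  [],
  [],
  [],
  [],
  [],
  [],
  [],
  [],
  [],
  [],
  [],
  [],
  [],
  [],
  [],
  [],
  [],
  [],
  [],
  [],
  [],
  [],
  [],
  [],
  [],
  [],
  [],
  [],
  [],
  [],
  [],
  [],
  [],
  [],
  [],
  [],
  [],
  [],
  [],
  [],
  [],
  [1,43],
  [1,43,38,43,43,38,0,0],
  [],
  [1,38,38,43],
  [1,41,38,38,43],
  [1,41,42,3,12,3,6],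
  [1,15,41,38,38,43],
  [],
  [1,41,6,6,38,38,0],
  [],
  [],
  [1,6,43,0,38,38],
  [1,6,0,0,6,0],
  [],
  [1,15,41,41,38,38,43],
  [],
  [],
  [],
  [1,38,15,6,0,6,0,0],
  [],
  [1,38,12,43,15,38,6],
  [],
  [1,43,6,0,12,41,38,0],
  [1,41,12,43,3,6,12,3],
  [1,12,38,43,43,12,38,0],
  [1,43,12,38,38,0],
  [1,41,41,43,38,38],
  [1,42,10,3,12,3,6],
  [],
  [1,43,38,38],
  [],
  [1,43,38,43,38,0,0],
  [],
  [],
  [],
  [],
  [],
  [],
  [],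
  [],
  [],
  [1,41,15,41,38,38,43],
  [1,6,6,38,38,0],
  [],
  [],
  [1,41,43,38,38],
  [],
  [1,41,41,38,38,43],
  [],
  [],
  [1,43,38,43,38,43,38],
  [],
  [1,38,6,0,6,0,0],
  [],
  [1,38,10,6,10,3,12,3],
  [1,38,12,43,38,6],
  [],
  [],
  [],
  [],
  [],
  [],
  [],
  []] = true := by decide +kernel
theorem clT_1 : allZ (clsB 1792 LS [459,444,417,0] mT MT) (mapApp [38] (prods [A9, A6, A3]) []) [[],
  [],
  [],
  [],
  [],
  [],
  [],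
  [],
  [],
  [],
  [],
  [],
  [],
  [],
  [],
  [],
  [],
  [],
  [],
  [],
  [],
  [],
  [],
  [],
  [1,12,38,0,38,6,6,43],
  [],
  [],
  [1,0,38,43,0,38,42,6,6],
  [],
  [],
  [],
  [],
  [],
  [],
  [],
  [],
  [],
  [],
  [],
  [],
  [],
  [],
  [],
  [],
  [],
  [],
  [],
  [],
  [],
  [],
  [],
  [],
  [],
  [],
  [],
  [],
  [],
  [],
  [],
  [],
  [],
  [],
  [],
  [],
  [],
  [],
  [1,43,38,6,38,38,6,0],
  [],
  [],
  [],
  [],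
  [1,43,15,38,41,0,0,43],
  [],
  [],
  [],
  [],
  [],
  [],
  [],
  [],
  [],
  [],
  [],
  [],
  [],
  [],
  [],
  [],
  [],
  [],
  [],
  [],
  [1,6,41,38,6,0,6],
  [],
  [1,0,43,38,0,0,6,0,0],
  [],
  [],
  [],
  [],
  [],
  [],
  [],
  [],
  [],
  [],
  [],
  [],
  [],
  [],
  [],
  [],
  [],
  [],
  [],
  [],
  [],
  [],
  [],
  [],
  [],
  [],
  [],
  [],
  [],
  [],
  [],
  [],
  [],
  [],
  [],
  [],
  [],
  [],
  [],
  [],
  [],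
  [],
  [],
  [],
  [],
  [],
  [],
  [],
  [],
  [],
  [],
  [],
  [],
  [],
  [],
  [],
  [],
  [],
  [],
  [],
  [],
  [],
  [],
  [],
  [],
  [],
  [],
  [],
  [],
  [],
  [],
  [],
  [],
  [],
  [],
  [],
  [],
  [],
  [],
  [],
  [],
  [],
  [],
  [],
  [],
  [1,0,38,43,12,38,6,0],
  [],
  [1,6,41,6,6,0,0,6],
  [],
  [],
  [],
  [],
  [],
  [],
  [],
  [],
  [],
  [],
  [],
  [],
  [],
  [],
  [],
  [],
  [],
  [],
  [],
  [],
  [],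
  [],
  [],
  [],
  [],
  [],
  [],
  [],
  [],
  [],
  [],
  [],
  [],
  [],
  [],
  [],
  [],
  [],
  [],
  [],
  [],
  [],
  [],
  [],
  [],
  [],
  [],
  [],
  [],
  [],
  [],
  [],
  [],
  [],
  [],
  [],
  [],
  [],
  [],
  [],
  [],
  [],
  [],
  [],
  [],
  [],
  [],
  [],
  [],
  [1,0,42,42,3,6,6,3],
  [],
  [1,0,38,43,6,0,0,0],
  [],
  [],
  [],
  [],
  [],
  [],
  [],
  [],
  [],
  [],
  [],
  [],
  [],
  [],
  [],
  [],
  [],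
  [],
  [],
  [],
  [],
  [1,43,0,38,0,0,6,0],
  [],
  [1,12,38,43,0,42,6],
  [],
  [],
  [],
  [],
  [],
  [],
  [],
  [],
  [],
  [],
  [],
  [],
  [],
  [],
  [],
  [],
  [],
  [],
  [],
  [],
  [],
  [],
  [],
  [],
  [],
  [],
  [],
  [1,12,43,0,38,0,38,6],
  [],
  [],
  [],
  [],
  [1,6,41,0,41,38,38],
  [],
  [],
  [],
  [],
  [],
  [],
  [],
  [],
  [],
  [],
  [],
  [],
  [],
  [],
  [],
  [],
  [],
  [],
  [],
  [],
  [],
  [],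
  [],
  [],
  [],
  [],
  [],
  [],
  [],
  [],
  [],
  [],
  [],
  [],
  [],
  [],
  [],
  [],
  [],
  [],
  [],
  [1,0,38,41,12,38,0],
  [],
  [],
  [],
  [1,6,15,6,38,6,0],
  [],
  [],
  [],
  [],
  [],
  [],
  [],
  [],
  [],
  [],
  [],
  [],
  [],
  [],
  [],
  [],
  [],
  [],
  [1,12,43,38,6,38,38,0,0],
  [],
  [],
  [1,3,15,0,38,6,0],
  [],
  [],
  [],
  [],
  [],
  [],
  [],
  [],
  [],
  [],
  [],
  [],
  [1,41,12,6,38,38,43,3],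
  [],
  [],
  [1,3,38,43,6,3,3,0,0],
  [],
  [],
  [],
  [],
  [],
  [],
  [],
  [],
  [],
  [],
  [],
  [],
  [],
  [],
  [],
  [],
  [],
  [],
  [],
  [],
  [],
  [],
  [],
  [],
  [],
  [],
  [],
  [],
  [],
  [1,6,0,38,38,41,6],
  [],
  [],
  [],
  [1,41,12,10,3,15,6,0,0],
  [],
  [],
  [],
  [],
  [],
  [],
  [],
  [],
  [],
  [],
  [],
  [],
  [],
  [],
  [],
  [],
  [],
  [],
  [],
  [],
  [],
  [],
  [],
  [],
  [],
  [],
  [],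
  [1,43,38,10,6,0,3],
  [],
  [],
  [],
  [1,6,0,6,6,38,42,0],
  [],
  [],
  [],
  [],
  [],
  [],
  [],
  [],
  [],
  [],
  [],
  [],
  [],
  [],
  [],
  [],
  [],
  [],
  [],
  [],
  [],
  [],
  [],
  [],
  [],
  [],
  [],
  [],
  [],
  [],
  [],
  [],
  [],
  [],
  [],
  [],
  [],
  [],
  [],
  [],
  [],
  [],
  [],
  [],
  [],
  [],
  [],
  [],
  [],
  []] = true := by decide +kernel
theorem clT_2 : allZ (clsB 1792 LS [459,444,417,0] mT MT) (mapApp [37] (prods [A9, A6, A3]) []) [[0,6,41,6],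
  [],
  [0,6,10,42,10],
  [0,6,41,41],
  [0,6,0,0,41,6],
  [],
  [0,6,41,41,41,6],
  [0,42,6,10,42,6],
  [],
  [],
  [],
  [],
  [],
  [],
  [],
  [],
  [],
  [],
  [],
  [],
  [],
  [],
  [],
  [],
  [0,0,38,6],
  [],
  [],
  [0,0,38,41],
  [],
  [],
  [],
  [],
  [],
  [],
  [],
  [],
  [],
  [],
  [],
  [],
  [],
  [],
  [],
  [],
  [],
  [],
  [],
  [],
  [],
  [],
  [],
  [],
  [],
  [],
  [],
  [],
  [],
  [],
  [],
  [],
  [],
  [],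
  [],
  [],
  [1,43,38,43,6,0,6],
  [],
  [1,0,6,41,38,0,6,41,0],
  [1,42,42,38,3,12,42,6],
  [],
  [],
  [],
  [1,43,15,38,43,6,0,6],
  [],
  [],
  [],
  [],
  [],
  [],
  [],
  [],
  [],
  [],
  [],
  [],
  [],
  [],
  [],
  [],
  [],
  [1,12,43,38,6,6,0,6],
  [],
  [],
  [1,6,15,6,38,12,6],
  [1,6,15,6,38,0,6],
  [1,43,38,41,0,38,38,0],
  [],
  [1,3,38,0,6],
  [],
  [1,38,6,41,0,38],
  [1,6,41,0,41,38,38,43],
  [],
  [],
  [],
  [1,38,43,15,12,38,0,6],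
  [],
  [],
  [],
  [],
  [],
  [],
  [],
  [],
  [],
  [],
  [],
  [],
  [],
  [],
  [],
  [],
  [],
  [1,38,43,0,38,12,6],
  [],
  [],
  [1,15,3,38,0,6],
  [1,15,38,6,41,0,38],
  [1,0,43,12,38,43,0,38],
  [],
  [],
  [],
  [],
  [],
  [],
  [],
  [],
  [],
  [],
  [],
  [],
  [],
  [],
  [],
  [],
  [],
  [],
  [],
  [],
  [],
  [],
  [],
  [],
  [],
  [],
  [],
  [],
  [],
  [],
  [],
  [],
  [],
  [],
  [],
  [],
  [],
  [],
  [],
  [],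
  [],
  [],
  [],
  [],
  [],
  [],
  [],
  [],
  [],
  [],
  [],
  [],
  [],
  [],
  [],
  [],
  [],
  [],
  [],
  [],
  [],
  [],
  [],
  [],
  [],
  [],
  [],
  [],
  [],
  [],
  [],
  [],
  [],
  [],
  [],
  [],
  [],
  [],
  [],
  [],
  [],
  [],
  [],
  [],
  [],
  [],
  [],
  [],
  [],
  [],
  [],
  [],
  [],
  [],
  [],
  [],
  [],
  [],
  [],
  [],
  [],
  [],
  [],
  [],
  [],
  [],
  [],
  [],
  [],
  [],
  [],
  [],
  [],
  [],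
  [],
  [],
  [],
  [],
  [],
  [],
  [],
  [],
  [],
  [],
  [],
  [],
  [],
  [],
  [],
  [],
  [],
  [],
  [],
  [],
  [],
  [],
  [],
  [],
  [],
  [],
  [],
  [],
  [],
  [],
  [],
  [],
  [],
  [],
  [],
  [],
  [],
  [],
  [],
  [],
  [],
  [],
  [],
  [],
  [],
  [],
  [],
  [],
  [],
  [],
  [],
  [],
  [],
  [],
  [],
  [],
  [],
  [],
  [],
  [],
  [],
  [],
  [],
  [],
  [],
  [],
  [],
  [],
  [],
  [],
  [],
  [],
  [],
  [],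
  [],
  [],
  [],
  [],
  [],
  [],
  [],
  [],
  [],
  [],
  [],
  [],
  [],
  [],
  [],
  [],
  [],
  [],
  [],
  [],
  [],
  [],
  [],
  [],
  [],
  [],
  [],
  [],
  [],
  [],
  [],
  [],
  [],
  [],
  [],
  [],
  [],
  [],
  [],
  [],
  [],
  [],
  [],
  [],
  [],
  [],
  [],
  [],
  [],
  [],
  [],
  [],
  [],
  [],
  [],
  [],
  [],
  [],
  [],
  [],
  [],
  [],
  [],
  [],
  [],
  [],
  [],
  [],
  [],
  [],
  [],
  [],
  [],
  [],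
  [],
  [],
  [],
  [],
  [],
  [],
  [],
  [],
  [],
  [],
  [],
  [],
  [],
  [],
  [],
  [],
  [],
  [],
  [],
  [],
  [],
  [],
  [],
  [],
  [],
  [],
  [],
  [],
  [],
  [],
  [],
  [],
  [],
  [],
  [],
  [],
  [],
  [],
  [],
  [],
  [],
  [],
  [],
  [],
  [],
  [],
  [],
  [],
  [],
  [],
  [],
  [],
  [],
  [],
  [],
  [],
  [],
  [],
  [],
  [],
  [],
  [],
  [],
  [],
  [],
  [],
  [],
  [],
  [],
  [],
  [],
  [],
  [],
  [],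
  [],
  [],
  [],
  [],
  [],
  [],
  [],
  [],
  [],
  [],
  [],
  [],
  [],
  [],
  [],
  [],
  [],
  [],
  [],
  [],
  [],
  [],
  [],
  [],
  [],
  [],
  [],
  [],
  [],
  [],
  [],
  [],
  [],
  [],
  [],
  [],
  [],
  [],
  [],
  [],
  [],
  [],
  [],
  [],
  [],
  [],
  [],
  [],
  []] = true := by decide +kernel
theorem clT_3 : allZ (clsB 1792 LS [459,444,417,0] mT MT) (mapApp [36] (prods [A9, A6, A3]) []) [[],
  [0,0,38,42,15,10],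
  [],
  [],
  [],
  [0,38,41,10,41,6],
  [],
  [],
  [],
  [],
  [],
  [],
  [],
  [],
  [],
  [],
  [],
  [],
  [],
  [],
  [],
  [],
  [],
  [],
  [0,43,43,38,41],
  [],
  [],
  [0,43,43,38,6],
  [],
  [],
  [],
  [],
  [1,43,38,0,0],
  [],
  [1,43,38],
  [1,43,15,0,0,38],
  [],
  [],
  [],
  [1,38,38,43,15,38],
  [],
  [],
  [],
  [],
  [],
  [],
  [],
  [],
  [],
  [],
  [],
  [],
  [],
  [],
  [],
  [],
  [],
  [1,43,0,0,38],
  [],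
  [],
  [1,38,38,43,38],
  [1,0,0,43,38],
  [1,43,15,38],
  [],
  [],
  [],
  [],
  [],
  [],
  [],
  [],
  [],
  [],
  [],
  [],
  [],
  [],
  [],
  [],
  [],
  [],
  [],
  [],
  [],
  [],
  [],
  [],
  [],
  [],
  [],
  [],
  [],
  [],
  [],
  [],
  [],
  [],
  [],
  [],
  [],
  [],
  [],
  [],
  [],
  [],
  [],
  [],
  [],
  [],
  [],
  [],
  [],
  [],
  [],
  [],
  [],
  [],
  [],
  [],
  [],
  [],
  [],
  [],
  [],
  [],
  [],
  [],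
  [],
  [],
  [],
  [],
  [],
  [],
  [],
  [],
  [],
  [],
  [],
  [1,0,43,38,6],
  [],
  [],
  [],
  [],
  [1,41,41,15,41,38],
  [],
  [],
  [1,43,43,38,0,0,43],
  [],
  [],
  [],
  [],
  [1,12,43,38,6,43],
  [],
  [],
  [],
  [],
  [],
  [],
  [],
  [],
  [],
  [],
  [],
  [],
  [0,38,41,41,41,6],
  [],
  [0,38,41,6],
  [],
  [],
  [],
  [],
  [],
  [1,0,43,0,0,38,6],
  [],
  [1,0,43,15,38,6],
  [],
  [],
  [],
  [],
  [],
  [1,0,6,41,38,6,0,0],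
  [],
  [1,43,43,38,43,0,0],
  [],
  [],
  [],
  [0,38,15,41,6],
  [],
  [],
  [],
  [],
  [0,38,41,15,41,6],
  [],
  [],
  [],
  [],
  [],
  [],
  [],
  [],
  [],
  [1,15,38,43,0,0,43],
  [],
  [],
  [],
  [1,38,43,43,0,0],
  [],
  [],
  [],
  [],
  [],
  [],
  [1,15,38,43],
  [],
  [1,38,43],
  [],
  [],
  [],
  [],
  [],
  [],
  [],
  [],
  [],
  [],
  [0,38,43,38,41,6],
  [],
  [],
  [],
  [0,43,38,41,41],
  [],
  [],
  [1,38,0,6,6,6],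
  [],
  [],
  [1,38,43,0,0,43],
  [],
  [],
  [],
  [],
  [],
  [],
  [1,15,38,43,38,38],
  [],
  [],
  [],
  [],
  [1,38,43,38,38],
  [0,41,6,38,3,3],
  [],
  [],
  [0,43,38,41,41,41],
  [],
  [],
  [],
  [],
  [],
  [],
  [],
  [],
  [],
  [],
  [],
  [],
  [],
  [],
  [],
  [],
  [],
  [],
  [],
  [],
  [],
  [],
  [],
  [],
  [],
  [],
  [],
  [],
  [],
  [],
  [],
  [],
  [],
  [],
  [],
  [],
  [],
  [],
  [],
  [],
  [],
  [],
  [],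
  [],
  [],
  [],
  [],
  [],
  [],
  [],
  [],
  [],
  [],
  [],
  [],
  [],
  [],
  [],
  [],
  [],
  [],
  [],
  [],
  [],
  [],
  [],
  [],
  [],
  [],
  [],
  [],
  [],
  [],
  [],
  [],
  [],
  [],
  [],
  [],
  [],
  [],
  [],
  [],
  [],
  [],
  [],
  [],
  [],
  [],
  [],
  [],
  [],
  [],
  [],
  [],
  [],
  [],
  [],
  [],
  [],
  [],
  [],
  [],
  [],
  [],
  [],
  [],
  [],
  [],
  [],
  [],
  [],
  [],
  [],
  [],
  [],
  [],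
  [],
  [],
  [],
  [],
  [],
  [],
  [],
  [],
  [],
  [],
  [],
  [],
  [],
  [],
  [],
  [],
  [],
  [],
  [],
  [],
  [],
  [],
  [],
  [],
  [],
  [],
  [],
  [],
  [],
  [],
  [],
  [],
  [],
  [],
  [],
  [],
  [],
  [],
  [],
  [],
  [],
  [],
  [],
  [],
  [],
  [],
  [],
  [],
  [],
  [],
  [],
  [],
  [],
  [],
  [],
  [],
  [],
  [],
  [],
  [],
  [],
  [],
  [],
  [],
  [],
  [],
  [],
  [],
  [],
  [],
  [],
  [],
  [],
  [],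
  [],
  [],
  [],
  [],
  [],
  [1,43,38,43,15,38],
  [],
  [1,42,6,15,41,15,3,0],
  [1,43,15,38,43,15,38],
  [1,38,38,43,0,0],
  [],
  [1,43,0,0],
  [1,43,38,43,43,38],
  [1,43,0,43,6,38,38],
  [],
  [],
  [1,6,12,0,6,0,0,0],
  [1,3,38,43,6,3,3],
  [],
  [1,38,43,38,43,43],
  [],
  [1,6,38,38,41,38,0],
  [1,38,0,43,38,6],
  [],
  [1,12,43,38,0,38,42,6],
  [],
  [1,38,41,41,15,41,38],
  [],
  [],
  [],
  [1,43,15,38,43,38],
  [1,0,0,43],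
  [],
  [1,10,6,41,15,3,0],
  [1,43,38,43,38],
  [1,6,41,42,42,3,0],
  [1,43,0,38,38,0],
  [],
  [],
  [],
  [],
  [],
  [],
  [],
  [],
  [],
  [1,43,43,38,43,15,38,43],
  [1,15,38,43,38,43,43],
  [],
  [],
  [1,41,38,0,38,6,0],
  [],
  [1,38,43,15,38,43,43],
  [1,12,43,38,6,38,38],
  [1,38,6,0,6,41,0,0],
  [],
  [1,38,0,43,15,38,6],
  [],
  [1,38,41,6,12,0,0,6],
  [],
  [],
  [],
  [],
  [],
  [],
  [],
  [],
  [],
  []] = true := by decide +kernel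
theorem clT_4 : allZ (clsB 1792 LS [459,444,417,0] mT MT) (mapApp [35] (prods [A9, A6, A3]) []) [[1,38,38,0,0],
  [1,10,3,42,12,41,3],
  [],
  [1,0,38,38,0],
  [1,38,43,38],
  [1,42,12,42,3,6],
  [1,15,38,43,38],
  [],
  [1,43,15,6,0,6,0,0],
  [],
  [],
  [1,0,41,38,38,0,42,0],
  [1,43,38,43,15,38,43],
  [],
  [1,43,38,43,38,43],
  [],
  [],
  [],
  [1,38,43,38,43,38,0,0],
  [],
  [1,43,38,43,43,38,43],
  [],
  [1,38,6,41,42,42,3,0],
  [1,38,41,41,43,38,38],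
  [1,38,43,43,38],
  [1,0,0],
  [1,38,43,15,38],
  [1,43,38,15,41,38,38],
  [],
  [1,38,0,0,38],
  [],
  [1,15,38,43,15,38],
  [],
  [],
  [],
  [],
  [],
  [],
  [],
  [],
  [],
  [1,43,6,0,6,0,0],
  [1,6,0,6,0,0,43],
  [],
  [],
  [1,41,38,0,38,12,6],
  [],
  [1,0,43,6,38,38],
  [],
  [],
  [1,38,42,6,15,41,15,3,0],
  [],
  [1,38,15,41,38,38,43],
  [],
  [1,38,41,38,38,43],
  [1,38,43,38,43,43,38],
  [],
  [],
  [],
  [],
  [],
  [],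
  [],
  [],
  [],
  [1,15,38,12,6,41,0],
  [],
  [],
  [1,38,12,6,41,0],
  [1,6,41,0,43,38],
  [1,0,43,0,38,12,6],
  [],
  [],
  [],
  [],
  [],
  [],
  [],
  [],
  [],
  [],
  [],
  [],
  [],
  [],
  [],
  [],
  [],
  [],
  [],
  [],
  [],
  [],
  [],
  [],
  [],
  [1,6,41,6,41,6],
  [],
  [],
  [1,12,6,41,6,41,0],
  [],
  [],
  [],
  [],
  [],
  [],
  [],
  [],
  [],
  [],
  [],
  [],
  [],
  [],
  [],
  [],
  [],
  [],
  [],
  [],
  [],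
  [],
  [],
  [],
  [1,0,6,41,6,41,0],
  [],
  [1,38,3,41,43,3,0],
  [],
  [],
  [],
  [],
  [],
  [],
  [],
  [],
  [],
  [],
  [1,43,15,38,43,43],
  [],
  [],
  [],
  [1,43,38,43,43,38,38],
  [],
  [],
  [],
  [1,0,0,43,38,43],
  [],
  [],
  [],
  [1,43,38,0,0,43],
  [],
  [],
  [],
  [],
  [],
  [],
  [],
  [],
  [],
  [],
  [0,43,43,38,41,6],
  [],
  [],
  [0,38,42,41,6,42],
  [],
  [],
  [],
  [],
  [1,43,38,43,43],
  [],
  [],
  [1,38,38,43,38,43,43],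
  [],
  [],
  [],
  [],
  [1,43,15,38,43,0,0],
  [],
  [],
  [1,43,38,43,0,0],
  [],
  [],
  [],
  [],
  [],
  [0,38,3,15,3,3],
  [],
  [],
  [],
  [0,41,43,0,12,41,3],
  [],
  [],
  [],
  [],
  [0,43,38,6],
  [],
  [],
  [],
  [],
  [0,43,38,41],
  [],
  [],
  [],
  [],
  [],
  [],
  [],
  [],
  [],
  [],
  [],
  [],
  [],
  [],
  [],
  [],
  [],
  [],
  [],
  [],
  [0,12,38,6,41,6],
  [],
  [0,0,38,6,41,6],
  [],
  [],
  [1,42,15,10,41,38],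
  [],
  [],
  [1,15,0,0,38],
  [1,38],
  [1,38,0,0],
  [],
  [],
  [],
  [],
  [],
  [],
  [],
  [],
  [],
  [],
  [],
  [],
  [],
  [],
  [],
  [],
  [],
  [1,0,0,38,0,0],
  [],
  [1,0,0,38],
  [1,15,38],
  [],
  [],
  [],
  [1,15,38,0,0],
  [],
  [],
  [],
  [],
  [],
  [],
  [],
  [],
  [],
  [],
  [],
  [],
  [],
  [],
  [],
  [],
  [],
  [],
  [],
  [],
  [],
  [],
  [],
  [],
  [],
  [],
  [],
  [],
  [],
  [],
  [],
  [],
  [],
  [],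
  [],
  [],
  [],
  [],
  [],
  [],
  [],
  [],
  [],
  [],
  [],
  [],
  [],
  [],
  [],
  [],
  [],
  [],
  [],
  [],
  [],
  [],
  [],
  [],
  [],
  [],
  [],
  [],
  [],
  [],
  [],
  [],
  [],
  [],
  [],
  [],
  [],
  [],
  [],
  [],
  [],
  [],
  [],
  [],
  [],
  [],
  [],
  [],
  [],
  [],
  [],
  [],
  [],
  [],
  [1,10,6,3,3,15,38,0],
  [],
  [1,15,0,38,6,6,0,6],
  [1,0,38,6,6,0,6],
  [],
  [],
  [],
  [1,38,0,38,6,6,0,6],
  [],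
  [],
  [1,12,0,0,6,41,0],
  [],
  [],
  [],
  [],
  [1,0,6,41,0],
  [],
  [],
  [],
  [],
  [],
  [],
  [],
  [],
  [],
  [],
  [],
  [],
  [],
  [],
  [],
  [],
  [],
  [1,6,41,0,43,0,0],
  [],
  [],
  [],
  [1,15,0,6,41,0],
  [],
  [],
  [],
  [],
  [],
  [],
  [],
  [],
  [],
  [],
  [],
  [],
  [],
  [],
  [],
  [],
  [],
  [],
  [],
  [],
  [],
  [],
  [],
  [],
  [],
  [],
  [],
  [],
  [],
  [],
  [],
  [],
  [],
  [],
  [],
  [],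
  [],
  [],
  [],
  [],
  [],
  [],
  [],
  [],
  [],
  [],
  [],
  [],
  [],
  [],
  [],
  [],
  [],
  [],
  [],
  [],
  [],
  [],
  [],
  [],
  [],
  [],
  [],
  [],
  [],
  [],
  [],
  [],
  [],
  [],
  [],
  [],
  [],
  [],
  [],
  [],
  [1,12,43,15,38,6],
  [],
  [],
  [],
  [],
  [1,12,43,0,0,38,6],
  [1,43,43,38,43],
  [],
  [],
  [1,43,43,15,38,43],
  [],
  [],
  [],
  [],
  [],
  [],
  [],
  [],
  [],
  [],
  [],
  [],
  [],
  [],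
  [0,38,41,41],
  [],
  [],
  [],
  [],
  [0,3,15,0,10,3],
  [],
  [],
  [],
  [],
  [1,12,43,38,6],
  [],
  [1,12,38,38,43,38,6],
  [],
  [],
  [1,6,41,38,42,6,0],
  [],
  [],
  [],
  [1,43,38,38,43,38,43],
  [],
  [],
  [],
  [],
  [],
  [],
  [0,38,15,41,41],
  [],
  [0,38,41,41,41],
  []] = true := by decide +kernel
theorem clT_5 : allZ (clsB 1792 LS [459,444,417,0] mT MT) (mapApp [37,38] (prods [A9, A6, A3]) []) [[],
  [],
  [1,43,43,38,42,42,3],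
  [],
  [],
  [],
  [],
  [1,0,38,43,38,6,6],
  [],
  [],
  [],
  [],
  [],
  [],
  [],
  [],
  [],
  [],
  [],
  [],
  [],
  [],
  [],
  [],
  [],
  [],
  [],
  [],
  [1,3,3,38,41,41,3],
  [],
  [1,6,41,38,41,43,0,0],
  [],
  [],
  [],
  [],
  [],
  [],
  [],
  [],
  [],
  [],
  [],
  [],
  [],
  [],
  [],
  [],
  [],
  [],
  [],
  [],
  [],
  [],
  [],
  [],
  [],
  [],
  [],
  [],
  [],
  [],
  [],
  [],
  [],
  [],
  [],
  [],
  [],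
  [],
  [],
  [],
  [],
  [],
  [],
  [],
  [],
  [],
  [],
  [],
  [],
  [],
  [],
  [],
  [],
  [],
  [],
  [],
  [],
  [1,6,0,0,41,12,6,0,0],
  [],
  [],
  [1,43,12,38,10,6,41,3],
  [],
  [],
  [],
  [],
  [],
  [],
  [],
  [],
  [],
  [],
  [],
  [],
  [],
  [],
  [],
  [],
  [],
  [],
  [],
  [],
  [],
  [],
  [],
  [],
  [],
  [],
  [],
  [],
  [],
  [],
  [],
  [],
  [],
  [],
  [],
  [],
  [],
  [],
  [],
  [],
  [],
  [],
  [],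
  [],
  [],
  [],
  [],
  [],
  [],
  [],
  [],
  [],
  [],
  [],
  [1,15,6,41,43,38,6],
  [],
  [],
  [],
  [],
  [1,38,3,38,0,6,43],
  [],
  [],
  [],
  [],
  [],
  [],
  [],
  [],
  [],
  [],
  [],
  [],
  [],
  [],
  [],
  [],
  [],
  [],
  [],
  [],
  [],
  [],
  [],
  [],
  [],
  [],
  [],
  [],
  [1,43,38,12,38,0,42,6],
  [],
  [1,6,0,12,43,0,41,0],
  [],
  [],
  [],
  [],
  [],
  [],
  [],
  [],
  [],
  [],
  [],
  [],
  [],
  [],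
  [],
  [],
  [],
  [],
  [],
  [],
  [],
  [],
  [],
  [],
  [],
  [],
  [],
  [],
  [],
  [],
  [],
  [],
  [],
  [],
  [],
  [],
  [],
  [],
  [],
  [],
  [],
  [],
  [],
  [],
  [],
  [1,15,0,38,6,0,0],
  [],
  [1,12,38,6,0,0],
  [],
  [],
  [],
  [],
  [],
  [],
  [],
  [],
  [],
  [],
  [],
  [],
  [],
  [],
  [],
  [],
  [],
  [],
  [],
  [1,15,41,41,12,6,38,6,0],
  [],
  [],
  [],
  [],
  [1,41,6,0,6,0,6,3],
  [],
  [],
  [],
  [],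
  [],
  [],
  [],
  [],
  [],
  [],
  [],
  [],
  [],
  [],
  [],
  [],
  [],
  [],
  [],
  [],
  [],
  [],
  [],
  [],
  [],
  [],
  [],
  [],
  [],
  [],
  [],
  [],
  [],
  [],
  [],
  [],
  [],
  [],
  [],
  [],
  [],
  [],
  [],
  [],
  [],
  [],
  [],
  [],
  [],
  [],
  [1,6,41,41,38,38,0,42,0],
  [],
  [],
  [],
  [],
  [1,6,0,43,0,41,12,6],
  [],
  [],
  [],
  [],
  [],
  [],
  [],
  [],
  [],
  [],
  [],
  [],
  [],
  [],
  [],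
  [],
  [],
  [],
  [],
  [],
  [],
  [],
  [],
  [],
  [],
  [],
  [],
  [],
  [],
  [],
  [],
  [],
  [],
  [],
  [],
  [],
  [],
  [],
  [],
  [],
  [],
  [],
  [],
  [],
  [],
  [],
  [],
  [],
  [],
  [],
  [],
  [],
  [],
  [],
  [],
  [],
  [],
  [],
  [],
  [],
  [],
  [],
  [],
  [],
  [],
  [1,41,6,41,38,10,0,6],
  [],
  [],
  [],
  [1,43,0,38,42,42,3],
  [],
  [],
  [],
  [],
  [],
  [],
  [],
  [],
  [],
  [],
  [],
  [],
  [],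
  [],
  [],
  [],
  [],
  [],
  [],
  [],
  [],
  [],
  [],
  [],
  [],
  [],
  [],
  [],
  [],
  [],
  [],
  [],
  [],
  [],
  [],
  [],
  [],
  [],
  [],
  [],
  [],
  [],
  [],
  [],
  [],
  [],
  [1,0,3,38,0,6,43],
  [],
  [1,43,0,38,0,38,6,43],
  [],
  [],
  [],
  [],
  [],
  [],
  [],
  [],
  [],
  [],
  [],
  [],
  [],
  [],
  [],
  [],
  [],
  [],
  [],
  [],
  [],
  [],
  [],
  [],
  [],
  [],
  [],
  [],
  [],
  [1,38,15,12,38,6,41,0],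
  [],
  [1,43,38,41,41,0,0],
  [],
  [],
  [],
  [],
  [],
  [],
  [],
  [],
  [],
  [],
  [],
  [],
  [],
  [],
  [],
  [],
  [],
  [],
  [],
  [],
  [],
  [],
  [],
  [],
  [],
  [],
  [],
  [1,6,41,0,38,43],
  [],
  [],
  [],
  [],
  [1,15,12,38,6,41,0],
  [],
  [],
  [],
  [],
  [],
  [],
  [],
  [],
  [],
  [],
  [],
  [],
  [],
  [],
  [],
  []] = true := by decide +kernel
theorem clT_6 : allZ (clsB 1792 LS [459,444,417,0] mT MT) (mapApp [36,38] (prods [A9, A6, A3]) []) [[],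
  [],
  [],
  [],
  [],
  [],
  [],
  [],
  [],
  [],
  [],
  [],
  [],
  [],
  [],
  [],
  [],
  [],
  [],
  [],
  [],
  [],
  [],
  [],
  [1,12,38,12,38,6,6,43],
  [],
  [],
  [1,43,6,41,15,6,38,38],
  [],
  [],
  [],
  [],
  [],
  [],
  [],
  [],
  [],
  [],
  [],
  [],
  [],
  [],
  [],
  [],
  [],
  [],
  [],
  [],
  [],
  [],
  [],
  [],
  [],
  [],
  [],
  [],
  [],
  [],
  [],
  [],
  [],
  [],
  [],
  [],
  [1,12,43,38,43,6,0,0,0],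
  [],
  [],
  [1,43,38,41,0,0,43],
  [],
  [],
  [],
  [],
  [],
  [],
  [],
  [],
  [],
  [],
  [],
  [],
  [],
  [],
  [],
  [],
  [],
  [],
  [],
  [],
  [],
  [1,0,43,38,15,6,0,0],
  [],
  [],
  [],
  [1,6,0,12,41,0,6],
  [],
  [],
  [],
  [],
  [],
  [],
  [],
  [],
  [],
  [],
  [],
  [],
  [],
  [],
  [],
  [],
  [],
  [],
  [],
  [],
  [],
  [],
  [],
  [],
  [],
  [],
  [],
  [],
  [],
  [],
  [],
  [],
  [],
  [],
  [],
  [],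
  [],
  [],
  [],
  [],
  [],
  [],
  [],
  [],
  [],
  [],
  [],
  [],
  [],
  [],
  [],
  [],
  [],
  [],
  [],
  [],
  [],
  [],
  [],
  [],
  [],
  [],
  [],
  [],
  [],
  [],
  [],
  [],
  [],
  [],
  [],
  [],
  [],
  [],
  [],
  [],
  [],
  [],
  [],
  [],
  [],
  [],
  [],
  [],
  [],
  [],
  [1,6,0,10,15,12,42,3],
  [],
  [1,41,12,38,6,12,0,3],
  [],
  [],
  [],
  [],
  [],
  [],
  [],
  [],
  [],
  [],
  [],
  [],
  [],
  [],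
  [],
  [],
  [],
  [],
  [],
  [],
  [],
  [],
  [],
  [],
  [],
  [],
  [],
  [],
  [],
  [],
  [],
  [],
  [],
  [],
  [],
  [],
  [],
  [],
  [],
  [],
  [],
  [],
  [],
  [1,12,42,42,3,6,6,3],
  [],
  [],
  [],
  [],
  [1,12,38,43,6,0,0,0],
  [],
  [],
  [],
  [],
  [],
  [],
  [],
  [],
  [],
  [],
  [],
  [],
  [],
  [],
  [],
  [],
  [],
  [],
  [],
  [],
  [],
  [],
  [],
  [],
  [],
  [],
  [],
  [],
  [],
  [],
  [],
  [],
  [],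
  [],
  [],
  [],
  [],
  [],
  [],
  [],
  [],
  [1,12,43,0,38,12,38,6],
  [],
  [],
  [],
  [1,3,15,3,0,3,6,3],
  [],
  [],
  [],
  [],
  [],
  [],
  [],
  [],
  [],
  [],
  [],
  [],
  [],
  [],
  [],
  [],
  [],
  [],
  [],
  [],
  [],
  [],
  [],
  [],
  [],
  [],
  [1,43,12,38,0,0,6,0],
  [],
  [],
  [1,12,38,42,6,41,0],
  [],
  [],
  [],
  [],
  [],
  [],
  [],
  [],
  [],
  [],
  [],
  [],
  [],
  [],
  [],
  [],
  [],
  [],
  [],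
  [],
  [],
  [],
  [],
  [],
  [],
  [],
  [],
  [],
  [],
  [],
  [],
  [],
  [],
  [],
  [],
  [],
  [],
  [],
  [],
  [],
  [],
  [],
  [],
  [],
  [],
  [],
  [],
  [],
  [1,41,12,6,43,0,12,3],
  [],
  [1,15,3,15,0,38,6,0],
  [],
  [],
  [],
  [],
  [],
  [],
  [],
  [],
  [],
  [],
  [],
  [],
  [],
  [],
  [],
  [],
  [],
  [],
  [],
  [1,6,0,0,0,41,6],
  [],
  [],
  [],
  [],
  [1,15,0,38,41,12,38,0],
  [],
  [],
  [],
  [],
  [],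
  [],
  [],
  [],
  [],
  [],
  [1,38,3,38,0,12,6,0],
  [],
  [],
  [],
  [],
  [1,3,15,38,6,38,38,0],
  [],
  [],
  [],
  [],
  [],
  [],
  [],
  [],
  [],
  [],
  [],
  [],
  [],
  [],
  [],
  [],
  [],
  [],
  [],
  [],
  [],
  [],
  [],
  [],
  [],
  [],
  [],
  [],
  [1,38,43,15,12,38,6,0],
  [],
  [1,38,43,0,38,6,0],
  [],
  [],
  [],
  [],
  [],
  [],
  [],
  [],
  [],
  [],
  [],
  [],
  [],
  [],
  [],
  [],
  [],
  [],
  [],
  [],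
  [],
  [],
  [],
  [],
  [],
  [],
  [],
  [],
  [],
  [],
  [],
  [],
  [],
  [],
  [],
  [],
  [],
  [],
  [],
  [],
  [],
  [],
  [],
  [],
  [],
  [],
  [],
  [],
  [],
  [],
  [],
  [],
  [],
  [],
  [],
  [],
  [],
  [1,43,15,38,10,6,0,3],
  [],
  [],
  [1,38,43,38,10,6,0,3],
  [],
  [],
  [],
  [],
  [],
  [],
  [],
  [],
  [],
  [],
  [],
  [],
  [],
  [],
  [],
  [],
  [],
  [],
  [],
  []] = true := by decide +kernel
theorem clT_7 : allZ (clsB 1792 LS [459,444,417,0] mT MT) (mapApp [35,38] (prods [A9, A6, A3]) []) [[],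
  [],
  [],
  [],
  [],
  [],
  [],
  [],
  [],
  [],
  [],
  [],
  [],
  [],
  [],
  [],
  [],
  [],
  [],
  [],
  [],
  [],
  [],
  [],
  [],
  [],
  [],
  [],
  [],
  [],
  [],
  [],
  [1,0,38,12,38,6,6,43],
  [],
  [],
  [1,43,15,6,41,6,38,38],
  [],
  [],
  [],
  [],
  [],
  [],
  [],
  [],
  [],
  [],
  [],
  [],
  [],
  [],
  [],
  [],
  [],
  [],
  [],
  [],
  [],
  [],
  [],
  [],
  [],
  [],
  [],
  [],
  [],
  [],
  [],
  [],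
  [],
  [],
  [],
  [],
  [],
  [],
  [],
  [],
  [],
  [],
  [],
  [],
  [],
  [],
  [],
  [],
  [],
  [],
  [],
  [],
  [],
  [],
  [],
  [],
  [],
  [],
  [],
  [],
  [],
  [],
  [],
  [],
  [1,6,43,0,41,0,38,6,0],
  [],
  [1,6,38,38,41,12,6,41,0],
  [],
  [],
  [],
  [],
  [],
  [],
  [],
  [],
  [],
  [],
  [],
  [],
  [],
  [],
  [],
  [],
  [],
  [],
  [],
  [1,3,3,38,42,15,3],
  [],
  [],
  [],
  [],
  [1,0,43,38,6,0,0],
  [],
  [],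
  [],
  [],
  [],
  [],
  [],
  [],
  [],
  [],
  [],
  [],
  [1,6,41,6,0,0,6,6],
  [],
  [1,6,0,41,42,12,42,3],
  [],
  [],
  [],
  [],
  [],
  [],
  [],
  [],
  [],
  [],
  [],
  [],
  [],
  [],
  [],
  [],
  [],
  [],
  [],
  [],
  [],
  [],
  [],
  [],
  [],
  [],
  [],
  [],
  [],
  [],
  [],
  [],
  [],
  [],
  [],
  [],
  [],
  [],
  [],
  [],
  [],
  [],
  [],
  [],
  [],
  [],
  [],
  [],
  [],
  [],
  [],
  [],
  [],
  [1,12,38,41,0,0,42,6],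
  [],
  [1,3,42,0,6,41,38,3,0],
  [],
  [],
  [],
  [],
  [],
  [],
  [],
  [],
  [],
  [],
  [],
  [],
  [],
  [],
  [],
  [],
  [],
  [],
  [],
  [],
  [],
  [],
  [],
  [],
  [],
  [],
  [],
  [],
  [],
  [],
  [],
  [],
  [],
  [],
  [],
  [],
  [],
  [],
  [],
  [],
  [],
  [],
  [],
  [],
  [],
  [],
  [],
  [],
  [],
  [],
  [],
  [],
  [],
  [],
  [],
  [],
  [],
  [],
  [],
  [],
  [],
  [],
  [],
  [],
  [],
  [],
  [],
  [1,43,0,38,6,0],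
  [],
  [],
  [],
  [],
  [1,43,15,12,38,6,0],
  [],
  [],
  [],
  [],
  [],
  [],
  [],
  [],
  [],
  [],
  [],
  [],
  [],
  [],
  [],
  [],
  [],
  [],
  [],
  [],
  [],
  [],
  [],
  [],
  [],
  [],
  [],
  [],
  [1,3,38,0,12,6,0],
  [],
  [1,12,43,12,38,12,38,6],
  [],
  [],
  [],
  [],
  [],
  [],
  [],
  [],
  [],
  [],
  [],
  [],
  [],
  [],
  [],
  [],
  [],
  [1,12,38,15,41,12,38,0],
  [],
  [],
  [1,43,38,41,43,0,0],
  [],
  [],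
  [],
  [],
  [],
  [],
  [],
  [],
  [],
  [],
  [],
  [],
  [],
  [],
  [],
  [],
  [],
  [],
  [],
  [],
  [],
  [1,12,41,41,0,6,12,3],
  [],
  [],
  [],
  [1,10,3,10,41,10,15,12,3],
  [],
  [],
  [],
  [],
  [],
  [],
  [],
  [],
  [],
  [],
  [],
  [],
  [],
  [],
  [],
  [],
  [],
  [],
  [],
  [],
  [],
  [],
  [],
  [],
  [],
  [],
  [],
  [],
  [],
  [],
  [],
  [],
  [],
  [],
  [],
  [],
  [],
  [],
  [],
  [],
  [],
  [],
  [],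
  [],
  [],
  [],
  [],
  [],
  [],
  [],
  [],
  [1,6,41,43,15,38,6,43],
  [],
  [],
  [],
  [1,0,6,41,43,38,6],
  [],
  [],
  [],
  [],
  [],
  [],
  [],
  [],
  [],
  [],
  [],
  [],
  [],
  [],
  [],
  [],
  [],
  [],
  [],
  [],
  [],
  [],
  [],
  [],
  [],
  [],
  [1,38,43,12,38,6,0],
  [],
  [],
  [1,38,43,15,0,38,6,0],
  [],
  [],
  [],
  [],
  [],
  [],
  [],
  [],
  [],
  [],
  [],
  [],
  [],
  [],
  [],
  [],
  [],
  [],
  [],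
  [],
  [],
  [],
  [],
  [],
  [],
  [],
  [],
  [],
  [],
  [],
  [],
  [],
  [],
  [],
  [],
  [],
  [],
  [],
  [],
  [],
  [],
  [],
  [],
  [],
  [],
  [],
  [],
  [],
  [],
  [],
  [],
  [],
  [],
  [],
  [],
  [],
  [],
  [],
  [],
  [],
  [],
  [1,6,12,41,0,41,38,38],
  [],
  [],
  [],
  [1,6,10,42,10,38,38,0],
  [],
  [],
  [],
  [],
  [],
  [],
  [],
  [],
  [],
  []] = true := by decide +kernel
theorem clT_8 : allZ (clsB 1792 LS [459,444,417,0] mT MT) (mapApp [34,38] (prods [A9, A6, A3]) []) [[],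
  [],
  [1,41,0,12,42,3,15,3],
  [],
  [],
  [],
  [],
  [1,3,42,42,38,42,6,38],
  [],
  [],
  [],
  [],
  [],
  [],
  [],
  [],
  [],
  [],
  [],
  [],
  [],
  [],
  [],
  [],
  [],
  [],
  [],
  [],
  [1,12,43,38,6,0,0],
  [],
  [1,0,43,15,38,6,0,0],
  [],
  [],
  [],
  [],
  [],
  [],
  [],
  [],
  [],
  [],
  [],
  [],
  [],
  [],
  [],
  [],
  [],
  [],
  [],
  [],
  [],
  [],
  [],
  [],
  [],
  [],
  [],
  [],
  [],
  [],
  [],
  [],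
  [],
  [],
  [],
  [],
  [],
  [],
  [],
  [],
  [],
  [],
  [],
  [],
  [],
  [],
  [],
  [],
  [],
  [],
  [],
  [],
  [],
  [],
  [],
  [],
  [],
  [1,43,6,41,6,38,38],
  [],
  [],
  [1,0,38,0,38,6,6,43],
  [],
  [],
  [],
  [],
  [],
  [],
  [],
  [],
  [],
  [],
  [],
  [],
  [],
  [],
  [],
  [],
  [],
  [],
  [],
  [],
  [],
  [],
  [],
  [],
  [],
  [],
  [],
  [],
  [],
  [],
  [],
  [],
  [],
  [],
  [],
  [],
  [],
  [],
  [],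
  [],
  [],
  [],
  [],
  [],
  [1,0,38,3,38,0,6,43],
  [],
  [],
  [1,42,3,0,12,6,38],
  [],
  [],
  [],
  [],
  [],
  [],
  [],
  [],
  [],
  [],
  [],
  [],
  [],
  [],
  [],
  [],
  [],
  [],
  [],
  [],
  [],
  [],
  [],
  [],
  [],
  [],
  [],
  [],
  [],
  [1,15,38,43,12,38,6,0],
  [],
  [],
  [],
  [1,43,38,41,15,41,0,0],
  [],
  [],
  [],
  [],
  [],
  [],
  [],
  [],
  [],
  [],
  [],
  [],
  [],
  [],
  [],
  [],
  [],
  [],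
  [],
  [],
  [],
  [],
  [],
  [],
  [],
  [],
  [],
  [],
  [],
  [],
  [],
  [],
  [],
  [],
  [],
  [],
  [],
  [],
  [],
  [],
  [],
  [],
  [],
  [],
  [],
  [],
  [],
  [],
  [],
  [],
  [],
  [1,0,43,38,6,38,43,38],
  [],
  [],
  [],
  [1,38,3,15,0,38,6,0],
  [],
  [],
  [],
  [],
  [],
  [],
  [],
  [],
  [],
  [],
  [],
  [],
  [],
  [],
  [],
  [],
  [],
  [],
  [1,12,38,41,12,38,0],
  [],
  [],
  [1,12,38,6,0,0,43],
  [],
  [],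
  [],
  [],
  [],
  [],
  [],
  [],
  [],
  [],
  [],
  [],
  [],
  [1,42,42,3,6,15,10,3],
  [],
  [],
  [],
  [1,43,38,15,10,6,0,3],
  [],
  [],
  [],
  [],
  [],
  [],
  [],
  [],
  [],
  [],
  [],
  [],
  [],
  [],
  [],
  [],
  [],
  [],
  [],
  [],
  [],
  [],
  [],
  [],
  [],
  [],
  [],
  [],
  [],
  [],
  [],
  [],
  [],
  [],
  [],
  [],
  [],
  [],
  [],
  [],
  [],
  [],
  [],
  [],
  [],
  [],
  [],
  [],
  [],
  [],
  [],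
  [],
  [],
  [],
  [],
  [],
  [],
  [],
  [],
  [],
  [],
  [],
  [],
  [],
  [],
  [],
  [],
  [],
  [],
  [],
  [],
  [],
  [],
  [],
  [],
  [],
  [],
  [],
  [],
  [],
  [],
  [],
  [],
  [],
  [1,0,38,41,0,0,42,6],
  [],
  [],
  [],
  [],
  [1,12,42,12,42,3,6,6,3],
  [],
  [],
  [],
  [],
  [],
  [],
  [],
  [],
  [],
  [],
  [],
  [],
  [],
  [],
  [],
  [],
  [],
  [],
  [],
  [],
  [],
  [],
  [],
  [],
  [],
  [],
  [],
  [],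
  [],
  [],
  [],
  [],
  [],
  [],
  [],
  [],
  [],
  [],
  [],
  [],
  [],
  [],
  [1,10,38,38,42,6,3,0,0],
  [],
  [],
  [],
  [],
  [1,3,38,12,42,6,3,0],
  [],
  [],
  [],
  [],
  [],
  [],
  [],
  [],
  [],
  [],
  [],
  [],
  [],
  [],
  [],
  [],
  [],
  [],
  [],
  [],
  [],
  [],
  [],
  [],
  [],
  [],
  [],
  [],
  [],
  [],
  [],
  [],
  [],
  [],
  [],
  [],
  [],
  [],
  [],
  [],
  [],
  [],
  [],
  [],
  [],
  [],
  [],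
  [],
  [],
  [],
  [],
  [],
  [],
  [],
  [],
  [],
  [],
  [],
  [],
  [],
  [1,3,38,3,0,38,38],
  [],
  [1,15,3,38,0,12,6,0],
  [],
  [],
  [],
  [],
  [],
  [],
  [],
  [],
  [],
  [],
  [],
  [],
  [],
  [],
  [],
  [],
  [],
  [],
  [],
  [],
  [],
  [],
  [],
  [],
  [],
  [],
  [],
  [1,43,12,38,6,0],
  [],
  [],
  [],
  [],
  [1,43,15,0,38,6,0],
  [],
  [],
  [],
  [],
  [],
  [],
  [],
  []] = true := by decide +kernel
theorem clT_9 : allZ (clsB 1792 LS [459,444,417,0] mT MT) (mapApp [38,37] (prods [A9, A6, A3]) []) [[],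
  [],
  [1,0,38,43,15,38,6,6],
  [],
  [],
  [],
  [],
  [1,12,38,43,38,6,6],
  [],
  [],
  [],
  [],
  [],
  [],
  [],
  [],
  [],
  [],
  [],
  [],
  [],
  [],
  [],
  [],
  [],
  [],
  [],
  [],
  [1,41,43,0,6,43,3,3],
  [],
  [1,0,43,38,41,12,38,0],
  [],
  [],
  [],
  [],
  [],
  [],
  [],
  [],
  [],
  [],
  [],
  [],
  [],
  [],
  [],
  [],
  [],
  [],
  [],
  [],
  [],
  [],
  [],
  [],
  [],
  [],
  [],
  [],
  [],
  [],
  [],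
  [],
  [],
  [],
  [],
  [],
  [],
  [],
  [],
  [],
  [],
  [],
  [],
  [],
  [],
  [],
  [],
  [],
  [],
  [],
  [],
  [],
  [],
  [],
  [],
  [],
  [],
  [],
  [],
  [1,6,43,0,0,41,6,0,0],
  [],
  [],
  [],
  [],
  [1,43,0,6,0,0,41,6],
  [],
  [],
  [],
  [],
  [],
  [],
  [],
  [],
  [],
  [],
  [],
  [],
  [],
  [],
  [],
  [],
  [],
  [],
  [],
  [],
  [],
  [],
  [],
  [],
  [],
  [],
  [],
  [],
  [],
  [],
  [],
  [],
  [],
  [],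
  [],
  [],
  [],
  [],
  [],
  [],
  [],
  [],
  [],
  [],
  [],
  [],
  [],
  [],
  [],
  [],
  [1,41,12,38,6,0,3],
  [],
  [],
  [],
  [],
  [1,38,6,41,43,38,6],
  [],
  [],
  [],
  [],
  [],
  [],
  [],
  [],
  [],
  [],
  [],
  [],
  [],
  [],
  [],
  [],
  [],
  [],
  [],
  [],
  [],
  [],
  [],
  [],
  [],
  [],
  [],
  [],
  [1,6,41,43,0,0,38,6],
  [],
  [1,6,41,43,15,38,6],
  [],
  [],
  [],
  [],
  [],
  [],
  [],
  [],
  [],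
  [],
  [],
  [],
  [],
  [],
  [],
  [],
  [],
  [],
  [],
  [],
  [],
  [],
  [],
  [],
  [],
  [],
  [],
  [],
  [],
  [],
  [],
  [],
  [],
  [],
  [],
  [],
  [],
  [],
  [],
  [],
  [],
  [],
  [],
  [],
  [],
  [1,43,38,41,38,43,38,43],
  [],
  [1,12,43,38,10,6,42,3],
  [],
  [],
  [],
  [],
  [],
  [],
  [],
  [],
  [],
  [],
  [],
  [],
  [],
  [],
  [],
  [],
  [],
  [],
  [],
  [1,12,38,15,6,0,0],
  [],
  [],
  [],
  [],
  [1,0,38,0,0,6,0,0],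
  [],
  [],
  [],
  [],
  [],
  [],
  [],
  [],
  [],
  [],
  [],
  [],
  [],
  [],
  [],
  [],
  [],
  [],
  [],
  [],
  [],
  [],
  [],
  [],
  [],
  [],
  [],
  [],
  [],
  [],
  [],
  [],
  [],
  [],
  [],
  [],
  [],
  [],
  [],
  [],
  [],
  [],
  [],
  [],
  [],
  [],
  [],
  [],
  [1,38,6,41,38,0,43,38,0],
  [],
  [],
  [1,43,12,10,3,0,38,0],
  [],
  [],
  [],
  [],
  [],
  [],
  [],
  [],
  [],
  [],
  [],
  [],
  [],
  [],
  [],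
  [],
  [],
  [],
  [],
  [],
  [],
  [],
  [],
  [],
  [],
  [],
  [],
  [],
  [],
  [],
  [],
  [],
  [],
  [],
  [],
  [],
  [],
  [],
  [],
  [],
  [],
  [],
  [],
  [],
  [],
  [],
  [1,12,38,6,6,43,0,0,0],
  [],
  [],
  [],
  [],
  [1,38,43,0,38,42,42,3],
  [],
  [],
  [],
  [],
  [],
  [],
  [],
  [],
  [],
  [],
  [],
  [],
  [],
  [],
  [],
  [],
  [],
  [],
  [],
  [],
  [],
  [],
  [],
  [],
  [],
  [],
  [],
  [],
  [],
  [],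
  [],
  [],
  [1,41,43,6,3,6,15,3,0],
  [],
  [],
  [1,6,41,38,0,43,38,0],
  [],
  [],
  [],
  [],
  [],
  [],
  [],
  [],
  [],
  [],
  [],
  [],
  [],
  [],
  [],
  [],
  [],
  [],
  [],
  [],
  [],
  [],
  [],
  [],
  [],
  [],
  [],
  [],
  [],
  [],
  [],
  [],
  [],
  [],
  [],
  [],
  [],
  [],
  [],
  [],
  [],
  [],
  [],
  [],
  [],
  [],
  [],
  [],
  [],
  [],
  [],
  [],
  [],
  [],
  [],
  [],
  [],
  [],
  [],
  [],
  [],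
  [],
  [],
  [],
  [1,38,0,38,6,41,0],
  [],
  [1,6,0,41,43,6,0,0],
  [],
  [],
  [],
  [],
  [],
  [],
  [],
  [],
  [],
  [],
  [],
  [],
  [],
  [],
  [],
  [],
  [],
  [],
  [],
  [],
  [],
  [],
  [],
  [],
  [],
  [],
  [],
  [1,0,38,6,41,0],
  [],
  [],
  [],
  [],
  [1,43,12,38,0,6,43],
  [],
  [],
  [],
  [],
  [],
  [],
  [],
  [],
  [],
  [],
  [],
  [],
  [],
  [],
  [],
  []] = true := by decide +kernel
theorem clT_10 : allZ (clsB 1792 LS [459,444,417,0] mT MT) (mapApp [36,37] (prods [A9, A6, A3]) []) [[],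
  [],
  [0,43,0,38,6],
  [],
  [],
  [],
  [],
  [0,43,0,38,41],
  [],
  [],
  [],
  [],
  [],
  [],
  [],
  [],
  [],
  [],
  [],
  [],
  [],
  [],
  [],
  [],
  [0,0,42,6,42],
  [0,0,38,41,41,6],
  [0,42,0,42,6],
  [0,42,15,0,6,10],
  [],
  [0,0,41,41,6],
  [],
  [0,43,6,41,6],
  [],
  [],
  [],
  [],
  [],
  [],
  [],
  [],
  [],
  [],
  [],
  [],
  [],
  [],
  [],
  [],
  [],
  [],
  [],
  [],
  [],
  [],
  [],
  [],
  [],
  [],
  [],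
  [],
  [],
  [],
  [],
  [],
  [],
  [],
  [],
  [],
  [],
  [],
  [],
  [],
  [],
  [],
  [],
  [],
  [],
  [],
  [],
  [],
  [],
  [],
  [],
  [],
  [],
  [],
  [],
  [],
  [],
  [],
  [],
  [],
  [],
  [],
  [],
  [],
  [],
  [],
  [],
  [],
  [],
  [],
  [],
  [],
  [],
  [],
  [],
  [],
  [],
  [],
  [],
  [],
  [],
  [],
  [],
  [],
  [],
  [],
  [],
  [],
  [],
  [],
  [],
  [],
  [],
  [],
  [],
  [],
  [],
  [],
  [],
  [],
  [],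
  [],
  [],
  [],
  [],
  [],
  [],
  [],
  [],
  [],
  [],
  [],
  [],
  [],
  [],
  [],
  [],
  [],
  [],
  [],
  [],
  [],
  [],
  [],
  [],
  [],
  [],
  [],
  [],
  [],
  [],
  [],
  [],
  [],
  [],
  [],
  [],
  [],
  [],
  [],
  [],
  [],
  [],
  [],
  [],
  [],
  [],
  [],
  [],
  [],
  [],
  [],
  [],
  [],
  [],
  [],
  [],
  [],
  [],
  [],
  [],
  [],
  [],
  [],
  [],
  [],
  [],
  [],
  [],
  [],
  [],
  [],
  [],
  [],
  [],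
  [],
  [],
  [],
  [],
  [],
  [],
  [],
  [],
  [],
  [],
  [],
  [],
  [],
  [],
  [],
  [],
  [],
  [],
  [],
  [],
  [],
  [],
  [],
  [],
  [],
  [],
  [],
  [],
  [],
  [],
  [],
  [],
  [],
  [],
  [],
  [],
  [],
  [],
  [],
  [],
  [],
  [],
  [],
  [],
  [],
  [],
  [],
  [],
  [],
  [],
  [],
  [],
  [],
  [],
  [],
  [],
  [],
  [],
  [],
  [],
  [],
  [],
  [],
  [],
  [],
  [],
  [],
  [],
  [],
  [],
  [],
  [],
  [],
  [],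
  [],
  [],
  [],
  [],
  [],
  [],
  [],
  [],
  [],
  [],
  [],
  [],
  [],
  [],
  [],
  [],
  [],
  [],
  [],
  [],
  [],
  [],
  [],
  [],
  [],
  [],
  [],
  [],
  [],
  [],
  [],
  [],
  [],
  [],
  [],
  [],
  [],
  [],
  [],
  [],
  [1,43,12,38,0,6],
  [],
  [],
  [1,43,15,12,38,0,6],
  [1,15,6,41,0,38],
  [1,6,41,0,38],
  [],
  [],
  [],
  [],
  [],
  [],
  [],
  [],
  [],
  [],
  [],
  [],
  [],
  [],
  [],
  [],
  [],
  [1,0,38,3,38,0,6],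
  [],
  [1,41,12,6,38,38,3],
  [1,38,3,38,0,6],
  [],
  [],
  [],
  [1,0,41,12,6,38,38,3],
  [],
  [1,38,3,15,0,38,12,6],
  [],
  [],
  [1,43,38,41,0,0],
  [1,43,38,6,12,43,0,6],
  [1,43,38,41,38,43,38],
  [],
  [],
  [],
  [],
  [],
  [],
  [],
  [],
  [],
  [],
  [],
  [],
  [],
  [],
  [],
  [],
  [],
  [1,43,15,38,41,0,0],
  [],
  [1,12,43,38,6,43,43,0,0],
  [1,43,15,38,41,38,43,38],
  [],
  [],
  [],
  [1,41,12,6,38,38,42,3],
  [],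
  [],
  [],
  [],
  [],
  [],
  [],
  [],
  [],
  [],
  [],
  [],
  [],
  [],
  [],
  [],
  [],
  [],
  [],
  [],
  [],
  [],
  [],
  [],
  [],
  [],
  [],
  [],
  [],
  [],
  [],
  [],
  [],
  [],
  [],
  [],
  [],
  [],
  [],
  [],
  [],
  [],
  [],
  [],
  [],
  [],
  [],
  [],
  [],
  [],
  [],
  [],
  [],
  [],
  [],
  [],
  [],
  [],
  [],
  [],
  [],
  [],
  [],
  [],
  [],
  [],
  [],
  [],
  [],
  [],
  [],
  [],
  [],
  [],
  [],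
  [],
  [],
  [],
  [],
  [],
  [],
  [],
  [],
  [],
  [],
  [],
  [],
  [],
  [],
  [],
  [],
  [],
  [],
  [],
  [],
  [],
  [],
  [],
  [],
  [],
  [],
  [],
  [],
  [],
  [],
  [],
  [],
  [],
  [],
  [],
  [],
  [],
  [],
  [],
  [],
  [],
  [],
  [],
  [],
  [],
  [],
  [],
  [],
  [],
  [],
  [],
  [],
  []] = true := by decide +kernel
theorem clT_11 : allZ (clsB 1792 LS [459,444,417,0] mT MT) (mapApp [33,37] (prods [A9, A6, A3]) []) [[],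
  [],
  [],
  [],
  [],
  [],
  [],
  [],
  [],
  [],
  [],
  [],
  [],
  [],
  [],
  [],
  [],
  [],
  [],
  [],
  [],
  [],
  [],
  [],
  [],
  [],
  [],
  [],
  [],
  [],
  [],
  [],
  [],
  [],
  [],
  [],
  [],
  [],
  [],
  [],
  [],
  [],
  [],
  [],
  [],
  [],
  [],
  [],
  [],
  [],
  [],
  [],
  [],
  [],
  [],
  [],
  [],
  [],
  [],
  [],
  [],
  [],
  [],
  [],
  [],
  [],
  [],
  [],
  [],
  [],
  [],
  [],
  [],
  [],
  [],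
  [],
  [],
  [],
  [],
  [],
  [],
  [],
  [],
  [],
  [],
  [],
  [],
  [],
  [],
  [],
  [],
  [],
  [],
  [],
  [],
  [],
  [],
  [],
  [],
  [],
  [],
  [],
  [],
  [],
  [],
  [],
  [],
  [],
  [],
  [],
  [],
  [],
  [],
  [],
  [],
  [],
  [],
  [],
  [],
  [],
  [],
  [],
  [],
  [],
  [],
  [],
  [],
  [],
  [0,6,6,15,41,41],
  [],
  [0,3,41,3,10],
  [0,41,41,15,41,3],
  [0,3,3,12,0,3],
  [],
  [0,38,0,6,41,6],
  [0,0,3,41,3,10],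
  [],
  [],
  [],
  [],
  [],
  [],
  [],
  [],
  [],
  [],
  [],
  [],
  [],
  [],
  [],
  [],
  [0,38,6,41,6],
  [],
  [],
  [0,38,6,41,41],
  [],
  [],
  [],
  [],
  [],
  [],
  [],
  [],
  [],
  [],
  [],
  [],
  [],
  [],
  [],
  [],
  [],
  [],
  [],
  [],
  [],
  [],
  [],
  [],
  [],
  [],
  [],
  [],
  [],
  [],
  [],
  [],
  [],
  [],
  [],
  [],
  [],
  [],
  [],
  [],
  [],
  [],
  [],
  [],
  [],
  [],
  [],
  [],
  [],
  [],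
  [],
  [],
  [],
  [],
  [],
  [],
  [],
  [],
  [],
  [],
  [],
  [],
  [],
  [],
  [],
  [],
  [],
  [],
  [],
  [],
  [],
  [],
  [],
  [],
  [],
  [],
  [],
  [],
  [],
  [],
  [],
  [],
  [],
  [],
  [],
  [],
  [],
  [],
  [],
  [],
  [],
  [],
  [],
  [],
  [],
  [],
  [],
  [],
  [],
  [],
  [],
  [],
  [],
  [],
  [],
  [],
  [],
  [],
  [],
  [],
  [],
  [],
  [],
  [],
  [],
  [],
  [],
  [],
  [],
  [],
  [],
  [],
  [],
  [],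
  [],
  [],
  [],
  [],
  [],
  [],
  [],
  [],
  [],
  [],
  [],
  [],
  [],
  [],
  [],
  [],
  [],
  [],
  [],
  [],
  [],
  [],
  [],
  [],
  [],
  [],
  [],
  [],
  [],
  [],
  [],
  [],
  [],
  [],
  [],
  [],
  [],
  [],
  [],
  [],
  [],
  [],
  [],
  [],
  [],
  [],
  [],
  [],
  [],
  [],
  [],
  [],
  [],
  [],
  [],
  [],
  [],
  [],
  [],
  [],
  [],
  [],
  [],
  [],
  [],
  [],
  [],
  [],
  [],
  [],
  [],
  [],
  [],
  [],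
  [],
  [],
  [],
  [],
  [],
  [],
  [],
  [],
  [],
  [],
  [],
  [],
  [],
  [],
  [],
  [],
  [],
  [],
  [],
  [],
  [],
  [],
  [],
  [],
  [],
  [],
  [],
  [],
  [],
  [],
  [1,43,0,38,0,6],
  [],
  [1,43,0,38,12,6],
  [1,43,15,0,38,12,6],
  [],
  [],
  [],
  [1,12,38,12,6,41,0],
  [],
  [],
  [],
  [],
  [],
  [],
  [],
  [],
  [],
  [],
  [],
  [],
  [],
  [],
  [],
  [],
  [],
  [1,38,15,3,38,0,6],
  [],
  [],
  [1,6,41,6,6,6,38],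
  [1,42,42,15,3,42,0],
  [1,15,42,42,15,3,42,0],
  [],
  [1,43,15,38,15,41,0,0],
  [],
  [1,15,3,15,0,38,12,6],
  [1,38,43,38,15,41,0,0],
  [],
  [],
  [],
  [1,10,3,3,41,3,42,6,0],
  [],
  [],
  [],
  [],
  [],
  [],
  [],
  [],
  [],
  [],
  [],
  [],
  [],
  [],
  [],
  [],
  [],
  [1,43,38,41,15,38,43,38],
  [],
  [],
  [1,43,38,15,41,0,0],
  [1,3,15,0,38,12,6],
  [1,6,38,38,41,6,41,0],
  [],
  [],
  [],
  [],
  [],
  [],
  [],
  [],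
  [],
  [],
  [],
  [],
  [],
  [],
  [],
  [],
  [],
  [],
  [],
  [],
  [],
  [],
  [],
  [],
  [],
  [],
  [],
  [],
  [],
  [],
  [],
  [],
  [],
  [],
  [],
  [],
  [],
  [],
  [],
  [],
  [],
  [],
  [],
  [],
  [],
  [],
  [],
  [],
  [],
  [],
  [],
  [],
  [],
  [],
  [],
  [],
  [],
  [],
  [],
  [],
  [],
  [],
  [],
  [],
  []] = true := by decide +kernel
theorem clT_12 : allZ (clsB 1792 LS [459,444,417,0] mT MT) (mapApp [13,37] (prods [A9, A6, A3]) []) [[],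
  [],
  [],
  [],
  [],
  [],
  [],
  [],
  [],
  [],
  [],
  [],
  [],
  [],
  [],
  [],
  [],
  [],
  [],
  [],
  [],
  [],
  [],
  [],
  [],
  [],
  [],
  [],
  [],
  [],
  [],
  [],
  [],
  [],
  [],
  [],
  [],
  [],
  [],
  [],
  [],
  [],
  [],
  [],
  [],
  [],
  [],
  [],
  [],
  [],
  [],
  [],
  [],
  [],
  [],
  [],
  [],
  [],
  [],
  [],
  [],
  [],
  [],
  [],
  [],
  [],
  [],
  [],
  [],
  [],
  [],
  [],
  [],
  [],
  [],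
  [],
  [],
  [],
  [],
  [],
  [],
  [],
  [],
  [],
  [],
  [],
  [],
  [],
  [],
  [],
  [],
  [],
  [],
  [],
  [],
  [],
  [],
  [],
  [],
  [],
  [],
  [],
  [],
  [],
  [],
  [],
  [],
  [],
  [],
  [],
  [],
  [],
  [],
  [],
  [],
  [],
  [],
  [],
  [],
  [],
  [],
  [],
  [],
  [],
  [],
  [],
  [],
  [],
  [],
  [],
  [],
  [],
  [],
  [],
  [],
  [],
  [],
  [],
  [],
  [],
  [],
  [],
  [],
  [],
  [],
  [],
  [],
  [],
  [],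
  [],
  [],
  [],
  [],
  [],
  [],
  [],
  [],
  [],
  [],
  [],
  [],
  [],
  [],
  [],
  [],
  [],
  [],
  [],
  [],
  [],
  [],
  [],
  [],
  [],
  [],
  [],
  [],
  [],
  [],
  [],
  [],
  [],
  [],
  [],
  [],
  [],
  [],
  [],
  [],
  [],
  [],
  [],
  [0,6,0,41,6],
  [],
  [0,12,6,10,42,10],
  [0,0,6,41,6],
  [0,38,0,38,41],
  [],
  [0,38,0,38,6],
  [0,38,0,41,41,6],
  [],
  [],
  [],
  [],
  [],
  [],
  [],
  [],
  [],
  [],
  [],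
  [],
  [],
  [],
  [],
  [],
  [0,6,41,38,41],
  [],
  [],
  [0,6,41,38,6],
  [],
  [],
  [],
  [],
  [],
  [],
  [],
  [],
  [],
  [],
  [],
  [],
  [],
  [],
  [],
  [],
  [],
  [],
  [],
  [],
  [],
  [],
  [],
  [],
  [],
  [],
  [],
  [],
  [],
  [],
  [],
  [],
  [],
  [],
  [],
  [],
  [],
  [],
  [],
  [],
  [],
  [],
  [],
  [],
  [],
  [],
  [],
  [],
  [],
  [],
  [],
  [],
  [],
  [],
  [],
  [],
  [],
  [],
  [],
  [],
  [],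
  [],
  [],
  [],
  [],
  [],
  [],
  [],
  [],
  [],
  [],
  [],
  [],
  [],
  [],
  [],
  [],
  [],
  [],
  [],
  [],
  [],
  [],
  [],
  [],
  [],
  [],
  [],
  [],
  [],
  [],
  [],
  [],
  [],
  [],
  [],
  [],
  [],
  [],
  [],
  [1,12,38,0,6,0,0,0],
  [],
  [1,43,38,6,0,6,43],
  [1,0,43,38,6,6,0,6],
  [],
  [],
  [],
  [1,41,12,6,6,3,0,6],
  [],
  [],
  [],
  [],
  [],
  [],
  [],
  [],
  [],
  [],
  [],
  [],
  [],
  [],
  [],
  [],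
  [],
  [1,43,38,41,38,38,0,0],
  [],
  [],
  [1,41,43,0,6,10,42,3],
  [1,38,43,38,43,6,0,6],
  [1,43,6,41,6,41,38],
  [],
  [1,38,43,0,38,0,6],
  [],
  [1,0,0,3,38,0,6],
  [1,43,0,41,41,0,6,3],
  [],
  [],
  [],
  [1,38,0,38,3,38,0,6],
  [],
  [],
  [],
  [],
  [],
  [],
  [],
  [],
  [],
  [],
  [],
  [],
  [],
  [],
  [],
  [],
  [],
  [1,38,42,42,15,3,42,0],
  [],
  [],
  [1,38,15,6,41,0,38],
  [1,6,38,38,6,6,38,0],
  [1,38,43,12,38,0,6],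
  [],
  [],
  [],
  [],
  [],
  [],
  [],
  [],
  [],
  [],
  [],
  [],
  [],
  [],
  [],
  [],
  [],
  [],
  [],
  [],
  [],
  [],
  [],
  [],
  [],
  [],
  [],
  [],
  [],
  [],
  [],
  [],
  [],
  [],
  [],
  [],
  [],
  [],
  [],
  [],
  [],
  [],
  [],
  [],
  [],
  [],
  [],
  [],
  [],
  [],
  [],
  [],
  [],
  [],
  [],
  [],
  [],
  [],
  [],
  [],
  [],
  [],
  [],
  [],
  [],
  [],
  [],
  [],
  [],
  [],
  [],
  [],
  [],
  [],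
  [],
  [],
  [],
  [],
  [],
  [],
  [],
  [],
  [],
  [],
  [],
  [],
  [],
  [],
  [],
  [],
  [],
  [],
  [],
  [],
  [],
  [],
  [],
  [],
  [],
  [],
  [],
  [],
  [],
  [],
  [],
  [],
  [],
  [],
  [],
  [],
  [],
  [],
  [],
  [],
  [],
  [],
  [],
  [],
  [],
  [],
  [],
  [],
  [],
  [],
  [],
  [],
  [],
  [],
  []] = true := by decide +kernel
theorem clT_13 : allZ (clsB 1792 LS [459,444,417,0] mT MT) (mapApp [35,36] (prods [A9, A6, A3]) []) [[],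
  [],
  [],
  [],
  [],
  [],
  [],
  [],
  [],
  [],
  [1,15,38,43,43],
  [],
  [],
  [],
  [],
  [1,38,43,43,38,38],
  [],
  [],
  [1,38,43,0,0],
  [],
  [],
  [],
  [],
  [1,15,38,43,0,0],
  [],
  [],
  [],
  [],
  [],
  [],
  [],
  [],
  [],
  [],
  [],
  [],
  [0,43,38,15,41,6],
  [],
  [0,41,0,12,41,3],
  [],
  [],
  [],
  [],
  [],
  [1,38,43,38,38,43],
  [],
  [1,38,43,43],
  [],
  [],
  [],
  [],
  [],
  [1,15,38,0,0,43],
  [],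
  [1,38,0,0,43],
  [],
  [],
  [],
  [0,38,43,38,41,41],
  [],
  [],
  [],
  [],
  [0,43,38,41,6],
  [],
  [],
  [],
  [],
  [],
  [],
  [],
  [],
  [],
  [],
  [],
  [],
  [],
  [],
  [],
  [],
  [],
  [],
  [],
  [],
  [],
  [],
  [],
  [],
  [],
  [],
  [],
  [],
  [],
  [],
  [],
  [],
  [],
  [],
  [],
  [],
  [],
  [],
  [],
  [],
  [],
  [],
  [],
  [],
  [],
  [],
  [],
  [],
  [],
  [],
  [],
  [],
  [],
  [],
  [],
  [],
  [],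
  [],
  [],
  [],
  [],
  [],
  [],
  [],
  [],
  [],
  [],
  [],
  [],
  [],
  [],
  [],
  [],
  [1,38,6,0,0,6,0],
  [],
  [],
  [],
  [1,43,38,43,0,0,43],
  [],
  [],
  [],
  [],
  [],
  [],
  [1,38,38,43,38,43],
  [],
  [1,38,38,43,15,38,43],
  [],
  [],
  [],
  [],
  [],
  [],
  [],
  [],
  [],
  [],
  [0,41,6,12,3,38,3],
  [],
  [],
  [],
  [0,41,43,6,38,3,3],
  [],
  [],
  [1,38,6,6,38,38,0],
  [],
  [],
  [1,43,38,43,43,0,0],
  [],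
  [],
  [],
  [],
  [],
  [],
  [1,43,38,43],
  [],
  [],
  [],
  [],
  [1,43,15,38,43],
  [0,43,43,38,41,41],
  [],
  [],
  [0,42,3,42,38,42],
  [],
  [],
  [],
  [],
  [],
  [0,38,6],
  [],
  [],
  [],
  [0,38,41],
  [],
  [],
  [],
  [],
  [],
  [],
  [],
  [],
  [],
  [],
  [],
  [],
  [],
  [],
  [],
  [],
  [],
  [],
  [0,38,42,15,10,6],
  [],
  [],
  [0,38,42,15,10],
  [],
  [],
  [],
  [],
  [1,43,0,0,43,38],
  [],
  [1,43,38,38,43,38],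
  [1,43,43,0,0,38],
  [],
  [],
  [],
  [1,43,43,15,38],
  [],
  [],
  [],
  [],
  [],
  [],
  [],
  [],
  [],
  [],
  [],
  [],
  [],
  [],
  [],
  [],
  [],
  [1,43,43,15,0,0,38],
  [],
  [],
  [1,43,43,38],
  [1,43,43,38,0,0],
  [1,6,41,38,42,12,6],
  [],
  [],
  [],
  [],
  [],
  [],
  [],
  [],
  [],
  [],
  [],
  [],
  [],
  [],
  [],
  [],
  [],
  [],
  [],
  [],
  [],
  [],
  [],
  [],
  [],
  [],
  [],
  [],
  [],
  [],
  [],
  [],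
  [],
  [],
  [],
  [],
  [],
  [],
  [],
  [],
  [],
  [],
  [],
  [],
  [],
  [],
  [],
  [],
  [],
  [],
  [],
  [],
  [],
  [],
  [],
  [],
  [],
  [],
  [],
  [],
  [],
  [],
  [],
  [],
  [],
  [],
  [],
  [],
  [],
  [],
  [],
  [],
  [],
  [],
  [],
  [],
  [],
  [],
  [],
  [],
  [],
  [],
  [],
  [],
  [],
  [],
  [],
  [],
  [],
  [],
  [],
  [],
  [],
  [],
  [],
  [],
  [],
  [],
  [],
  [],
  [],
  [],
  [],
  [],
  [],
  [],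
  [],
  [],
  [],
  [],
  [],
  [],
  [],
  [],
  [],
  [],
  [],
  [],
  [],
  [],
  [],
  [],
  [],
  [],
  [],
  [],
  [],
  [],
  [],
  [],
  [],
  [],
  [],
  [],
  [],
  [],
  [],
  [],
  [],
  [],
  [],
  [],
  [],
  [],
  [],
  [],
  [],
  [],
  [],
  [],
  [],
  [],
  [],
  [],
  [],
  [],
  [],
  [],
  [],
  [],
  [],
  [],
  [],
  [],
  [],
  [],
  [],
  [],
  [],
  [],
  [],
  [],
  [],
  [],
  [],
  [],
  [],
  [],
  [],
  [],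
  [],
  [],
  [],
  [],
  [],
  [],
  [],
  [],
  [],
  [],
  [],
  [],
  [],
  [1,43,43,38,43,38],
  [],
  [1,43,10,6,41,15,3,0],
  [1,43,43,15,38,43,38],
  [1,43,0,0,43],
  [],
  [1,0,6,6,6],
  [1,38,41,38,38],
  [1,38,43,15,38,43],
  [],
  [],
  [1,38,43,38,43],
  [1,15,6,0,6,0,0],
  [],
  [1,0,43,12,6,38,38,0],
  [],
  [1,38,6,41,38,42,6,0],
  [1,0,38,15,0,38,42,0],
  [],
  [1,0,38,12,43,38,0],
  [],
  [1,12,38,12,38,42,0],
  [],
  [],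
  [],
  [1,6,0,0,0,6,0,0],
  [1,41,3,6,6,0,0],
  [],
  [1,38,15,41,38,38],
  [1,43,43,38,43,15,38],
  [1,43,43,38,43,43,38],
  [1,43,43,0,0],
  [],
  [],
  [],
  [],
  [],
  [],
  [],
  [],
  [],
  [1,15,38,43,38,43],
  [1,10,6,10,3,12,3],
  [],
  [],
  [1,3,6,0,6,6,3],
  [],
  [1,6,0,6,0,0],
  [1,43,38,0,43,38,6],
  [1,38,43,43,15,38,43],
  [],
  [1,0,38,0,38,42,0],
  [],
  [1,38,43,43,38,43],
  [],
  [],
  [],
  [],
  [],
  [],
  [],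
  [],
  [],
  []] = true := by decide +kernel
theorem clT_14 : allZ (clsB 1792 LS [459,444,417,0] mT MT) (mapApp [36,37,38] (prods [A9, A6, A3]) []) [[],
  [],
  [1,3,0,38,6,15,6,3],
  [],
  [],
  [],
  [],
  [1,43,43,38,3,15,3,3],
  [],
  [],
  [],
  [],
  [],
  [],
  [],
  [],
  [],
  [],
  [],
  [],
  [],
  [],
  [],
  [],
  [],
  [],
  [],
  [],
  [1,6,0,12,41,6,0],
  [],
  [1,12,6,41,38,6,41,0],
  [],
  [],
  [],
  [],
  [],
  [],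
  [],
  [],
  [],
  [],
  [],
  [],
  [],
  [],
  [],
  [],
  [],
  [],
  [],
  [],
  [],
  [],
  [],
  [],
  [],
  [],
  [],
  [],
  [],
  [],
  [],
  [],
  [],
  [],
  [],
  [],
  [],
  [],
  [],
  [],
  [],
  [],
  [],
  [],
  [],
  [],
  [],
  [],
  [],
  [],
  [],
  [],
  [],
  [],
  [],
  [],
  [],
  [],
  [],
  [1,6,0,0,41,0,6,0,0],
  [],
  [],
  [],
  [],
  [1,43,12,6,0,0,41,6],
  [],
  [],
  [],
  [],
  [],
  [],
  [],
  [],
  [],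
  [],
  [],
  [],
  [],
  [],
  [],
  [],
  [],
  [],
  [],
  [],
  [],
  [],
  [],
  [],
  [],
  [],
  [],
  [],
  [],
  [],
  [],
  [],
  [],
  [],
  [],
  [],
  [],
  [],
  [],
  [],
  [],
  [],
  [],
  [],
  [],
  [],
  [],
  [],
  [],
  [],
  [1,38,38,6,41,43,38,6],
  [],
  [],
  [],
  [],
  [1,6,41,43,38,6],
  [],
  [],
  [],
  [],
  [],
  [],
  [],
  [],
  [],
  [],
  [],
  [],
  [],
  [],
  [],
  [],
  [],
  [],
  [],
  [],
  [],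
  [],
  [],
  [],
  [],
  [],
  [],
  [],
  [1,3,38,3,0,38,38,43],
  [],
  [1,43,38,0,38,12,42,6],
  [],
  [],
  [],
  [],
  [],
  [],
  [],
  [],
  [],
  [],
  [],
  [],
  [],
  [],
  [],
  [],
  [],
  [],
  [],
  [],
  [],
  [],
  [],
  [],
  [],
  [],
  [],
  [],
  [],
  [],
  [],
  [],
  [],
  [],
  [],
  [],
  [],
  [],
  [],
  [],
  [],
  [],
  [],
  [],
  [],
  [1,0,43,38,43,0,6,0,0],
  [],
  [1,41,41,12,6,38,6,0],
  [],
  [],
  [],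
  [],
  [],
  [],
  [],
  [],
  [],
  [],
  [],
  [],
  [],
  [],
  [],
  [],
  [],
  [],
  [],
  [1,15,12,38,6,0,0],
  [],
  [],
  [],
  [],
  [1,0,38,6,0,0],
  [],
  [],
  [],
  [],
  [],
  [],
  [],
  [],
  [],
  [],
  [],
  [],
  [],
  [],
  [],
  [],
  [],
  [1,42,6,42,0,0,41,3],
  [],
  [],
  [],
  [1,6,12,0,41,43,6,0,0],
  [],
  [],
  [],
  [],
  [],
  [],
  [],
  [],
  [],
  [],
  [],
  [],
  [],
  [],
  [],
  [],
  [],
  [],
  [],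
  [],
  [],
  [],
  [],
  [],
  [],
  [],
  [],
  [],
  [],
  [],
  [],
  [],
  [],
  [],
  [],
  [],
  [],
  [],
  [],
  [],
  [],
  [],
  [],
  [],
  [],
  [],
  [],
  [],
  [],
  [],
  [],
  [],
  [],
  [],
  [],
  [],
  [],
  [],
  [],
  [],
  [],
  [],
  [],
  [],
  [],
  [],
  [],
  [],
  [],
  [],
  [],
  [],
  [],
  [],
  [],
  [],
  [1,6,0,6,0,6,42,0],
  [],
  [],
  [],
  [],
  [1,43,0,38,3,15,3,3],
  [],
  [],
  [],
  [],
  [],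
  [],
  [],
  [],
  [],
  [],
  [],
  [],
  [],
  [],
  [],
  [],
  [],
  [],
  [],
  [],
  [],
  [],
  [],
  [],
  [],
  [],
  [],
  [],
  [],
  [],
  [],
  [],
  [],
  [],
  [],
  [],
  [],
  [],
  [],
  [],
  [],
  [],
  [],
  [],
  [],
  [],
  [],
  [],
  [],
  [],
  [],
  [],
  [],
  [],
  [],
  [],
  [],
  [],
  [],
  [],
  [],
  [],
  [],
  [],
  [],
  [1,0,41,12,38,6,0,3],
  [],
  [],
  [],
  [1,0,38,6,41,43,38,6],
  [],
  [],
  [],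
  [],
  [],
  [],
  [],
  [],
  [],
  [],
  [],
  [],
  [],
  [],
  [],
  [],
  [],
  [],
  [],
  [],
  [],
  [],
  [],
  [],
  [],
  [],
  [],
  [],
  [],
  [],
  [1,12,38,6,41,0],
  [],
  [1,15,6,41,0,38,43],
  [],
  [],
  [],
  [],
  [],
  [],
  [],
  [],
  [],
  [],
  [],
  [],
  [],
  [],
  [],
  [],
  [],
  [],
  [],
  [],
  [],
  [],
  [],
  [],
  [],
  [],
  [],
  [1,38,12,38,6,41,0],
  [],
  [],
  [],
  [],
  [1,41,0,43,6,0,6,3],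
  [],
  [],
  [],
  [],
  [],
  [],
  [],
  [],
  [],
  [],
  [],
  [],
  [],
  [],
  [],
  []] = true := by decide +kernel
theorem clT_15 : allZ (clsB 1792 LS [459,444,417,0] mT MT) (mapApp [35,37,38] (prods [A9, A6, A3]) []) [[],
  [],
  [],
  [],
  [],
  [],
  [],
  [],
  [],
  [],
  [],
  [],
  [],
  [],
  [],
  [],
  [],
  [],
  [],
  [],
  [],
  [],
  [],
  [],
  [],
  [],
  [],
  [],
  [],
  [],
  [],
  [],
  [],
  [1,12,38,43,38,0,6,6],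
  [],
  [],
  [],
  [1,41,43,12,38,38,6,0,3],
  [],
  [],
  [],
  [],
  [],
  [],
  [],
  [],
  [],
  [],
  [],
  [],
  [],
  [],
  [],
  [],
  [],
  [],
  [1,43,38,41,43,43,0,0],
  [],
  [],
  [1,0,0,6,0,12,41,6,0],
  [],
  [],
  [],
  [],
  [],
  [],
  [],
  [],
  [],
  [],
  [],
  [],
  [],
  [],
  [],
  [],
  [],
  [],
  [],
  [],
  [],
  [],
  [],
  [],
  [],
  [],
  [],
  [],
  [],
  [],
  [],
  [],
  [],
  [],
  [],
  [],
  [],
  [],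
  [1,43,0,38,10,6,41,3],
  [],
  [],
  [],
  [],
  [1,43,6,0,41,38,6,0,6],
  [],
  [],
  [],
  [],
  [],
  [],
  [],
  [],
  [],
  [],
  [],
  [],
  [],
  [],
  [],
  [],
  [],
  [],
  [],
  [],
  [],
  [],
  [],
  [],
  [],
  [],
  [],
  [],
  [],
  [],
  [],
  [],
  [],
  [1,15,38,6,41,43,38,6],
  [],
  [],
  [],
  [1,3,38,0,6,43],
  [],
  [],
  [],
  [],
  [],
  [],
  [],
  [],
  [],
  [],
  [],
  [],
  [],
  [],
  [],
  [],
  [],
  [],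
  [],
  [],
  [],
  [],
  [],
  [],
  [],
  [],
  [1,43,6,6,6,38,6,0],
  [],
  [],
  [1,6,41,43,38,12,0,6],
  [],
  [],
  [],
  [],
  [],
  [],
  [],
  [],
  [],
  [],
  [],
  [],
  [],
  [],
  [],
  [],
  [],
  [],
  [],
  [],
  [1,0,38,15,6,0,0],
  [],
  [],
  [1,38,0,38,6,0,0],
  [],
  [],
  [],
  [],
  [],
  [],
  [],
  [],
  [],
  [],
  [],
  [],
  [],
  [],
  [],
  [],
  [],
  [],
  [],
  [],
  [],
  [1,6,38,38,15,6,42,0],
  [],
  [],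
  [],
  [1,43,38,41,41,41,0,0],
  [],
  [],
  [],
  [],
  [],
  [],
  [],
  [],
  [],
  [],
  [],
  [],
  [],
  [],
  [],
  [],
  [],
  [],
  [],
  [],
  [],
  [],
  [],
  [],
  [],
  [],
  [],
  [],
  [],
  [],
  [],
  [],
  [],
  [],
  [],
  [],
  [],
  [],
  [],
  [],
  [],
  [],
  [],
  [],
  [],
  [],
  [],
  [],
  [],
  [],
  [],
  [],
  [],
  [],
  [],
  [],
  [],
  [],
  [],
  [],
  [],
  [],
  [],
  [],
  [],
  [],
  [],
  [],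
  [],
  [],
  [],
  [],
  [],
  [],
  [],
  [1,43,0,10,3,0,38,0],
  [],
  [],
  [],
  [1,38,0,3,38,0,6,43],
  [],
  [],
  [],
  [],
  [],
  [],
  [],
  [],
  [],
  [],
  [],
  [],
  [],
  [],
  [],
  [],
  [],
  [],
  [],
  [],
  [],
  [],
  [1,12,38,43,6,0,43,0,0],
  [],
  [1,43,38,43,38,3,41,3,0],
  [],
  [],
  [],
  [],
  [],
  [],
  [],
  [],
  [],
  [],
  [],
  [],
  [],
  [],
  [],
  [],
  [],
  [],
  [],
  [],
  [],
  [],
  [],
  [],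
  [],
  [],
  [],
  [],
  [],
  [],
  [],
  [],
  [],
  [],
  [],
  [],
  [],
  [],
  [],
  [],
  [],
  [],
  [],
  [],
  [],
  [],
  [],
  [],
  [],
  [],
  [],
  [],
  [],
  [],
  [],
  [],
  [],
  [],
  [],
  [],
  [],
  [],
  [],
  [],
  [],
  [],
  [],
  [],
  [],
  [],
  [],
  [],
  [],
  [],
  [],
  [],
  [],
  [],
  [],
  [],
  [],
  [],
  [],
  [],
  [],
  [],
  [],
  [],
  [],
  [],
  [],
  [],
  [],
  [],
  [],
  [],
  [],
  [],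
  [],
  [],
  [],
  [],
  [],
  [],
  [],
  [1,43,6,0,0,41,6,6],
  [],
  [],
  [1,38,43,0,10,3,0,38,0],
  [],
  [],
  [],
  [],
  [],
  [],
  [],
  [],
  [],
  [],
  [],
  [],
  [],
  [],
  [],
  [],
  [],
  [],
  [],
  [],
  [],
  [],
  [],
  [],
  [],
  [],
  [],
  [],
  [1,15,0,38,6,41,0],
  [],
  [],
  [1,12,38,15,6,41,0],
  [],
  [],
  [],
  [],
  [],
  [],
  [],
  [],
  [],
  [],
  [],
  [],
  [],
  [],
  [],
  [],
  [],
  [],
  [],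
  [],
  [],
  [],
  [],
  [],
  [],
  [],
  [],
  [],
  [],
  [1,38,15,0,38,6,41,0],
  [],
  [],
  [],
  [1,38,12,38,15,6,41,0],
  [],
  [],
  [],
  [],
  [],
  [],
  [],
  [],
  [],
  []] = true := by decide +kernel
theorem clsT : ∀ x ∈ gen (vL LS) ST, Cls (H71.Suz.ρ).range (vL LS) (mT :: MT) x :=
  all_of_chunks rCT oCT (List.forall_mem_cons.2 ⟨of_clsB base hLS clT_0, (List.forall_mem_cons.2 ⟨of_clsB base hLS clT_1, (List.forall_mem_cons.2 ⟨of_clsB base hLS clT_2, (List.forall_mem_cons.2 ⟨of_clsB base hLS clT_3, (List.forall_mem_cons.2 ⟨of_clsB base hLS clT_4, (List.forall_mem_cons.2 ⟨of_clsB base hLS clT_5, (List.forall_mem_cons.2 ⟨of_clsB base hLS clT_6, (List.forall_mem_cons.2 ⟨of_clsB base hLS clT_7, (List.forall_mem_cons.2 ⟨of_clsB base hLS clT_8, (List.forall_mem_cons.2 ⟨of_clsB base hLS clT_9, (List.forall_mem_cons.2 ⟨of_clsB base hLS clT_10, (List.forall_mem_cons.2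 ⟨of_clsB base hLS clT_11, (List.forall_mem_cons.2 ⟨of_clsB base hLS clT_12, (List.forall_mem_cons.2 ⟨of_clsB base hLS clT_13, (List.forall_mem_cons.2 ⟨of_clsB base hLS clT_14, (List.forall_mem_cons.2 ⟨of_clsB base hLS clT_15, fun _ h => absurd h List.not_mem_nil⟩)⟩)⟩)⟩)⟩)⟩)⟩)⟩)⟩)⟩)⟩)⟩)⟩)⟩)⟩)⟩)
end H88.SuzEnd
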