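/- Point tables for bit-parallel permutations: a search tree of bit-sliced chunks, checked against
a permutation network plane by plane; words of letters acting on single points. -/
import Cfsg.Agent.H81.Nets
import Cfsg.Agent.H74.SC

set_option autoImplicit false

namespace H88

open H71 H81

noncomputable section

/-- a search tree whose leaves hold 128 entries, sliced into 20 bit planes. -/
inductive Tr : Type
  | leaf : ℕ → ℕ → Tr
  | node : ℕ → Tr → Tr → Tr

/-- the mask with one bit in every lane of 128 bits. -/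
def msk (m : ℕ) : ℕ := Nat.rec (motive := fun _ => ℕ) 0 (fun _ r => 1 + 2 ^ 128 * r) m

/-- gathered bits. -/
def gat (m : ℕ) : ℕ → ℕ :=
  Nat.rec (motive := fun _ => ℕ → ℕ) (fun _ => 0) (fun _ r x => x % 2 + 2 * r (x / 2 ^ 128)) m

theorem gat_succ (m x : ℕ) : gat (m + 1) x = x % 2 + 2 * gat m (x / 2 ^ 128) := rfl

theorem gat_lt (m x : ℕ) : gat m x < 2 ^ m := by
  induction m generalizing x with
  | zero => exact Nat.one_pos
  | succ m ih => have := ih (x / 2 ^ 128); rw [gat_succ, pow_succ 2 m]; omega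

theorem testBit_gat (m x k : ℕ) (hk : k < m) : (gat m x).testBit k = x.testBit (128 * k) := by
  induction m generalizing x k with
  | zero => omega
  | succ m ih =>
    rw [gat_succ]
    rcases k with _ | k
    · simp [Nat.testBit_zero]
    · rw [Nat.testBit_succ, show (x % 2 + 2 * gat m (x / 2 ^ 128)) / 2 = gat m (x / 2 ^ 128) by omega,
        ih _ _ (by omega), Nat.testBit_div_two_pow]
      congr 1

theorem land_msk (m x : ℕ) : x &&& msk (m + 1) = x % 2 + 2 ^ 128 * ((x / 2 ^ 128) &&& msk m) := by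
  have e : msk (m + 1) = 2 ^ 128 * msk m + 1 := Nat.add_comm 1 _
  have h1 : (x &&& msk (m + 1)) % 2 ^ 128 = x % 2 := by
    rw [Nat.and_mod_two_pow, e, Nat.mul_add_mod, Nat.mod_eq_of_lt (show 1 < 2 ^ 128 by norm_num),
      Nat.and_one_is_mod, Nat.mod_mod_of_dvd _ (by norm_num)]
  have h2 : (x &&& msk (m + 1)) / 2 ^ 128 = (x / 2 ^ 128) &&& msk m := by
    rw [Nat.and_div_two_pow, e, show (2 ^ 128 * msk m + 1) / 2 ^ 128 = msk m by omega]
  rw [← h1, ← h2, Nat.mod_add_div]

theorem land_msk_mod (m x : ℕ) : (x &&& msk m) ≡ gat m x [MOD (2 ^ 127 - 1)] := by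
  induction m generalizing x with
  | zero => simp [msk, gat, Nat.ModEq]
  | succ m ih =>
    rw [land_msk, gat_succ]
    exact Nat.ModEq.add_left _ (Nat.ModEq.mul (by decide) (ih _))

/-- `msk 20`. -/
def MM : ℕ := nat_lit 0x100000000000000000000000000000001000000000000000000000000000000010000000000000000000000000000000100000000000000000000000000000001000000000000000000000000000000010000000000000000000000000000000100000000000000000000000000000001000000000000000000000000000000010000000000000000000000000000000100000000000000000000000000000001000000000000000000000000000000010000000000000000000000000000000100000000000000000000000000000001000000000000000000000000000000010000000000000000000000000000000100000000000000000000000000000001000000000000000000000000000000010000000000000000000000000000000100000000000000000000000000000001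

theorem MM_eq : MM = msk 20 := by decide +kernel

/-- table lookup. -/
def look (T : Tr) (i : ℕ) : ℕ :=
  Tr.rec (motive := fun _ => ℕ)
    (fun o n => Nat.mod (Nat.land (Nat.shiftRight n (Nat.sub i o)) MM)
      (nat_lit 170141183460469231731687303715884105727))
    (fun h _ _ l r => Bool.rec (motive := fun _ => ℕ) l r (Nat.ble h i)) T

theorem look_leaf (o n i : ℕ) : look (.leaf o n) i = gat 20 (n >>> (i - o)) := by
  have e : look (.leaf o n) i = ((n >>> (i - o)) &&& MM) % (2 ^ 127 - 1) := rfl
  rw [e, MM_eq, land_msk_mod, Nat.mod_eq_of_lt]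
  exact (gat_lt _ _).trans (by norm_num)

theorem look_node (h : ℕ) (l r : Tr) (i : ℕ) :
    look (.node h l r) i = if h ≤ i then look r i else look l i := by
  have e : look (.node h l r) i = Bool.rec (motive := fun _ => ℕ) (look l i) (look r i)
    (Nat.ble h i) := rfl
  rw [e]
  by_cases hi : h ≤ i
  · rw [Nat.ble_eq_true_of_le hi, if_pos hi]
  · rw [if_neg hi]
    cases hb : Nat.ble h i
    · rfl
    · exact absurd (Nat.le_of_ble_eq_true hb) hi

theorem look_lt (T : Tr) (i : ℕ) : look T i < 2 ^ 20 := by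
  induction T with
  | leaf o n => rw [look_leaf]; exact gat_lt _ _
  | node h l r a b => rw [look_node]; split_ifs <;> assumption

/-- one plane of the table, as a bit set. -/
def join (k : ℕ) (T : Tr) : ℕ → ℕ :=
  Tr.rec (motive := fun _ => ℕ → ℕ)
    (fun _ n _ => Nat.land (Nat.shiftRight n k) (nat_lit 340282366920938463463374607431768211455))
    (fun h _ _ l r lo => Nat.lor (l lo) (Nat.shiftLeft (r h) (Nat.sub h lo))) T

/-- the leaves tile the interval. -/
def wf (T : Tr) : ℕ → ℕ → Bool :=
  Tr.rec (motive := fun _ => ℕ → ℕ → Bool)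
    (fun o _ lo hi => band (Nat.beq o lo) (Nat.beq hi (Nat.add lo 128)))
    (fun h _ _ l r lo hi => band (l lo h) (r h hi)) T

theorem join_spec (T : Tr) : ∀ lo hi, wf T lo hi = true → lo < hi ∧ ∀ k < 20, ∀ j,
    (join (128 * k) T lo).testBit j = (decide (lo + j < hi) && (look T (lo + j)).testBit k) := by
  induction T with
  | leaf o n =>
    intro lo hi h
    obtain ⟨h1, h2⟩ := band_iff.1 (show band (Nat.beq o lo) (Nat.beq hi (lo + 128)) = true from h)
    have h1 := Nat.eq_of_beq_eq_true h1
    have h2 := Nat.eq_of_beq_eq_true h2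
    subst h1 h2
    refine ⟨by omega, fun k hk j => ?_⟩
    have e : join (128 * k) (.leaf o n) o = (n >>> (128 * k)) &&& (2 ^ 128 - 1) := rfl
    rw [e, look_leaf, testBit_gat _ _ _ hk, Nat.testBit_and, Nat.testBit_two_pow_sub_one,
      Nat.testBit_shiftRight, Nat.testBit_shiftRight, Nat.add_sub_cancel_left, add_comm j, Bool.and_comm]
    simp
  | node h l r a b =>
    intro lo hi hw
    obtain ⟨h1, h2⟩ := band_iff.1 (show band (wf l lo h) (wf r h hi) = true from hw)
    obtain ⟨a1, a2⟩ := a _ _ h1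
    obtain ⟨b1, b2⟩ := b _ _ h2
    refine ⟨by omega, fun k hk j => ?_⟩
    have e : join (128 * k) (.node h l r) lo =
      join (128 * k) l lo ||| (join (128 * k) r h <<< (h - lo)) := rfl
    rw [e, Nat.testBit_or, Nat.testBit_shiftLeft, a2 k hk, b2 k hk, look_node]
    by_cases hj : h ≤ lo + j
    · have e1 : h + (j - (h - lo)) = lo + j := by omega
      have e2 : ¬ lo + j < h := by omega
      have e3 : j ≥ h - lo := by omega
      simp [hj, e1, e2, e3]
    · have e2 : lo + j < h := by omega
      have e3 : ¬ j ≥ h - lo := by omega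
      have e4 : lo + j < hi := by omega
      simp [hj, e2, e3, e4]

/-- a letter: a table and a network. -/
structure Lt : Type where
  T : Tr
  r : Net

/-- the permutation of a letter. -/
def Lt.p (a : Lt) : Equiv.Perm ℕ := a.r.perm

/-- the table agrees with the network, whose permutation lies in `B`. -/
def OK (N : ℕ) (B : Subgroup (Equiv.Perm ℕ)) (a : Lt) : Prop :=
  a.r.valid N = true ∧ a.p ∈ B ∧ ∀ i < N, look a.T i = a.p i

theorem lt_of_supp {N : ℕ} {g : Equiv.Perm ℕ} (hg : g ∈ supp N) {i : ℕ} (hi : i < N) : g i < N := by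
  by_contra hc
  have h1 : g (g i) = g i := hg _ (not_lt.1 hc)
  have := g.injective h1
  omega

theorem supp_of_valid {N : ℕ} {r : Net} (h : r.valid N = true) : r.perm ∈ supp N :=
  fun _ hi => Net.perm_of_le h hi

/-- the check of a table against a network. -/
def tabChk (m N H : ℕ) (T : Tr) (r : Net) : Bool :=
  band (wf T 0 H) (band (Nat.ble N H) (band (Nat.ble m 20)
    (band (allN (fun k => Nat.beq (join (Nat.mul 128 k) T 0) (r.rapp (planeN m N k))) m)
      (allN (fun k => Nat.beq (join (Nat.mul 128 (Nat.add m k)) T 0) 0) (Nat.sub 20 m)))))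

theorem look_eq {m N H : ℕ} (hN : N ≤ 2 ^ m) {T : Tr} {r : Net} (hv : r.valid N = true)
    (h : tabChk m N H T r = true) : ∀ i < N, look T i = r.perm i := by
  intro i hi
  simp only [tabChk, band_iff, Nat.ble_eq] at h
  obtain ⟨h1, h2, h3, h4, h5⟩ := h
  obtain ⟨-, h6⟩ := join_spec T 0 H h1
  have hp : r.perm i < N := lt_of_supp (supp_of_valid hv) hi
  have hH : decide (0 + i < H) = true := by simp; omega
  apply Nat.eq_of_testBit_eq
  intro k
  rcases Nat.lt_or_ge k m with hk | hk
  · have := h6 k (by omega) i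
    rw [hH, Bool.true_and, zero_add] at this
    rw [← this]
    have e : join (128 * k) T 0 = r.rapp (planeN m N k) := Nat.eq_of_beq_eq_true (of_allN h4 k hk)
    rw [e, Net.testBit_rapp hv, testBit_planeN hN hk hp]
  · have h7 : (r.perm i).testBit k = false :=
      Nat.testBit_lt_two_pow (lt_of_lt_of_le hp (hN.trans (Nat.pow_le_pow_right (by norm_num) hk)))
    rw [h7]
    rcases Nat.lt_or_ge k 20 with hk' | hk'
    · have := h6 k hk' i
      rw [hH, Bool.true_and, zero_add] at this
      rw [← this]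
      have e : join (128 * (m + (k - m))) T 0 = 0 :=
        Nat.eq_of_beq_eq_true (of_allN h5 (k - m) (show k - m < 20 - m by omega))
      rw [show m + (k - m) = k by omega] at e
      rw [e, Nat.zero_testBit]
    · exact Nat.testBit_lt_two_pow
        (lt_of_lt_of_le (look_lt _ _) (Nat.pow_le_pow_right (by norm_num) hk'))

theorem OK.of {m N H : ℕ} (hN : N ≤ 2 ^ m) {B : Subgroup (Equiv.Perm ℕ)} {T : Tr} {r : Net}
    {L : List Net} (hg : Good N B (r :: L)) (h : tabChk m N H T r = true) : OK N B ⟨T, r⟩ :=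
  ⟨(hg r (by simp)).1, (hg r (by simp)).2, look_eq hN (hg r (by simp)).1 h⟩

theorem OK.mono {N : ℕ} {B B' : Subgroup (Equiv.Perm ℕ)} {a : Lt} (h : OK N B a) (hB : a.p ∈ B') :
    OK N B' a := ⟨h.1, hB, h.2.2⟩

theorem OK.supp {N : ℕ} {B : Subgroup (Equiv.Perm ℕ)} {a : Lt} (h : OK N B a) : a.p ∈ supp N :=
  supp_of_valid h.1

/-- all letters of a word are good. -/
def AOK (N : ℕ) (B : Subgroup (Equiv.Perm ℕ)) (t : List Lt) : Prop := ∀ a ∈ t, OK N B a

theorem AOK.nil {N : ℕ} {B : Subgroup (Equiv.Perm ℕ)} : AOK N B [] := fun _ h => absurd h (by simp)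

theorem AOK.cons {N : ℕ} {B : Subgroup (Equiv.Perm ℕ)} {a : Lt} {t : List Lt} (h : OK N B a)
    (ht : AOK N B t) : AOK N B (a :: t) := by
  intro b hb
  rcases List.mem_cons.1 hb with rfl | hb
  exacts [h, ht b hb]

theorem AOK.tail {N : ℕ} {B : Subgroup (Equiv.Perm ℕ)} {a : Lt} {t : List Lt}
    (h : AOK N B (a :: t)) : AOK N B t := fun b hb => h b (List.mem_cons_of_mem _ hb)

theorem AOK.head {N : ℕ} {B : Subgroup (Equiv.Perm ℕ)} {a : Lt} {t : List Lt}
    (h : AOK N B (a :: t)) : OK N B a := h a (by simp)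

theorem AOK.mono {N : ℕ} {B B' : Subgroup (Equiv.Perm ℕ)} {t : List Lt} (h : AOK N B t)
    (hB : B ≤ B') : AOK N B' t := fun a ha => (h a ha).mono (hB (h a ha).2.1)

theorem AOK.append {N : ℕ} {B : Subgroup (Equiv.Perm ℕ)} {s t : List Lt} (hs : AOK N B s)
    (ht : AOK N B t) : AOK N B (s ++ t) := fun a ha => (List.mem_append.1 ha).elim (hs a) (ht a)

theorem AOK.rep {N : ℕ} {B : Subgroup (Equiv.Perm ℕ)} {a : Lt} (h : OK N B a) (k : ℕ) :
    AOK N B (List.replicate k a) := fun _ hb => List.eq_of_mem_replicate hb ▸ h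

/-- the value of a word. -/
def ev (t : List Lt) : Equiv.Perm ℕ := (t.map Lt.p).prod

@[simp] theorem ev_nil : ev [] = 1 := rfl
@[simp] theorem ev_cons (a : Lt) (t : List Lt) : ev (a :: t) = a.p * ev t := by simp [ev]
@[simp] theorem ev_append (s t : List Lt) : ev (s ++ t) = ev s * ev t := by simp [ev]
@[simp] theorem ev_rep (a : Lt) (k : ℕ) : ev (List.replicate k a) = a.p ^ k := by simp [ev]

theorem AOK.mem {N : ℕ} {B : Subgroup (Equiv.Perm ℕ)} {t : List Lt} (h : AOK N B t) : ev t ∈ B := by
  induction t with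
  | nil => exact B.one_mem
  | cons a t ih => rw [ev_cons]; exact B.mul_mem h.head.2.1 (ih h.tail)

theorem AOK.supp {N : ℕ} {B : Subgroup (Equiv.Perm ℕ)} {t : List Lt} (h : AOK N B t) :
    ev t ∈ supp N := AOK.mem (N := N) fun a ha => (h a ha).mono (h a ha).supp

/-- image of a point under a word. -/
def wl (t : List Lt) (y : ℕ) : (ℕ → Bool) → Bool :=
  List.rec (motive := fun _ => (ℕ → Bool) → Bool) (fun k => k y)
    (fun a _ ih k => ih fun z => frc (look a.T z) k) t

theorem wl_eq {N : ℕ} {B : Subgroup (Equiv.Perm ℕ)} {t : List Lt} (h : AOK N B t) {y : ℕ}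
    (hy : y < N) (k : ℕ → Bool) : wl t y k = k (ev t y) := by
  induction t generalizing k with
  | nil => rfl
  | cons a t ih =>
    have e : wl (a :: t) y k = wl t y fun z => k (look a.T z) := rfl
    rw [e, ih h.tail, h.head.2.2 _ (lt_of_supp h.tail.supp hy), ev_cons, Equiv.Perm.mul_apply]

/-- image of a point under a power of a letter. -/
def pw (T : Tr) (j : ℕ) (k : ℕ → Bool) : ℕ → Bool :=
  Nat.rec (motive := fun _ => ℕ → Bool) k (fun _ ih y => frc (look T y) ih) j

theorem pw_eq {N : ℕ} {B : Subgroup (Equiv.Perm ℕ)} {a : Lt} (h : OK N B a) (j : ℕ) (k : ℕ → Bool) :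
    ∀ {y : ℕ}, y < N → pw a.T j k y = k ((a.p ^ j) y) := by
  induction j with
  | zero => intro y _; rfl
  | succ j ih =>
    intro y hy
    have e : pw a.T (j + 1) k y = pw a.T j k (look a.T y) := rfl
    rw [e, h.2.2 y hy, ih (lt_of_supp h.supp hy), pow_succ, Equiv.Perm.mul_apply]

/-- preimage of a bit set under a word. -/
def tinv (t : List Lt) (k : ℕ → Bool) : ℕ → Bool :=
  List.rec (motive := fun _ => ℕ → Bool) k (fun a _ ih D => frc (a.r.rapp D) ih) t

theorem tinv_spec {N : ℕ} {t : List Lt} (h : ∀ a ∈ t, a.r.valid N = true) (k : ℕ → Bool) :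
    ∀ D, ∃ Y, tinv t k D = k Y ∧ ∀ y, Y.testBit y = D.testBit (ev t y) := by
  induction t with
  | nil => intro D; exact ⟨D, rfl, fun _ => rfl⟩
  | cons a t ih =>
    intro D
    obtain ⟨Y, h1, h2⟩ := ih (fun b hb => h b (List.mem_cons_of_mem _ hb)) (a.r.rapp D)
    refine ⟨Y, h1, fun y => ?_⟩
    rw [h2, Net.testBit_rapp (h a (by simp)), ev_cons, Equiv.Perm.mul_apply]; rfl

/-- two words agree on all planes. -/
def eqN (m N : ℕ) (s t : List Lt) : Bool :=
  allN (fun k => frc (planeN m N k) fun P => tinv s (fun Y => tinv t (fun Z => Nat.beq Y Z) P) P) m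

theorem ev_supp {N : ℕ} {t : List Lt} (h : ∀ a ∈ t, a.r.valid N = true) : ev t ∈ supp N := by
  induction t with
  | nil => exact (supp N).one_mem
  | cons a t ih =>
    rw [ev_cons]
    exact (supp N).mul_mem (supp_of_valid (h a (by simp)))
      (ih fun b hb => h b (List.mem_cons_of_mem _ hb))

theorem eq_of_eqN {m N : ℕ} (hN : N ≤ 2 ^ m) {s t : List Lt} (hs : ∀ a ∈ s, a.r.valid N = true)
    (ht : ∀ a ∈ t, a.r.valid N = true) (h : eqN m N s t = true) : ev s = ev t := by
  rw [← mul_inv_eq_one]
  refine perm_eq_one_of_planes hN _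
    (fun i hi => (supp N).mul_mem (ev_supp hs) ((supp N).inv_mem (ev_supp ht)) i hi) fun k hk i => ?_
  have h1 := of_allN h k hk
  rw [frc_eq] at h1
  obtain ⟨Y, a1, a2⟩ := tinv_spec hs (fun Y => tinv t (fun Z => Nat.beq Y Z) (planeN m N k))
    (planeN m N k)
  obtain ⟨Z, b1, b2⟩ := tinv_spec ht (fun Z => Nat.beq Y Z) (planeN m N k)
  rw [a1, b1] at h1
  rw [Equiv.Perm.mul_apply, ← a2, Nat.eq_of_beq_eq_true h1, b2]
  simp

/-- image of a bit set under a power of a network. -/
def appN (r : Net) (j : ℕ) (k : ℕ → Bool) : ℕ → Bool :=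
  Nat.rec (motive := fun _ => ℕ → Bool) k (fun _ ih x => frc (r.app x) ih) j

theorem appN_spec {N : ℕ} {r : Net} (h : r.valid N = true) (j : ℕ) (k : ℕ → Bool) :
    ∀ x, ∃ y, appN r j k x = k y ∧ ∀ i, y.testBit ((r.perm ^ j) i) = x.testBit i := by
  induction j with
  | zero => intro x; exact ⟨x, rfl, fun _ => rfl⟩
  | succ j ih =>
    intro x
    obtain ⟨y, h1, h2⟩ := ih (r.app x)
    refine ⟨y, h1, fun i => ?_⟩
    rw [pow_succ, Equiv.Perm.mul_apply, h2, Net.testBit_app h]
    simp

/-- `f (o + i)` for all bits `i < 2 ^ d` of `x`. -/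
def allB (f : ℕ → Bool) (d : ℕ) : ℕ → ℕ → Bool :=
  Nat.rec (motive := fun _ => ℕ → ℕ → Bool)
    (fun o x => Bool.rec (motive := fun _ => Bool) (f o) true (Nat.beq (Nat.land x 1) 0))
    (fun d ih o x => Bool.rec (motive := fun _ => Bool)
      (frc (Nat.land x (Nat.sub (Nat.shiftLeft 1 (Nat.shiftLeft 1 d)) 1)) fun x1 =>
        band (ih o x1) (frc (Nat.shiftRight x (Nat.shiftLeft 1 d)) fun x2 =>
          frc (Nat.add o (Nat.shiftLeft 1 d)) fun o2 => ih o2 x2))
      true (Nat.beq x 0)) d

theorem of_allB {f : ℕ → Bool} {d : ℕ} : ∀ {o x : ℕ}, allB f d o x = true →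
    ∀ i < 2 ^ d, x.testBit i = true → f (o + i) = true := by
  induction d with
  | zero =>
    intro o x h i hi hx
    have : i = 0 := by simpa using hi
    subst this
    rcases brec_true (show Bool.rec (motive := fun _ => Bool) (f o) true
      (Nat.beq (x &&& 1) 0) = true from h) with ⟨-, h⟩ | ⟨h, -⟩
    · exact h
    · have := Nat.eq_of_beq_eq_true h
      rw [Nat.and_one_is_mod] at this
      simp [Nat.testBit_zero, this] at hx
  | succ d ih =>
    intro o x h i hi hx
    rcases brec_true (show Bool.rec (motive := fun _ => Bool)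
      (band (allB f d o (x &&& ((1 <<< (1 <<< d)) - 1)))
        (allB f d (o + 1 <<< d) (x >>> (1 <<< d)))) true (Nat.beq x 0) = true from h)
      with ⟨-, h⟩ | ⟨h, -⟩
    · obtain ⟨h1, h2⟩ := band_iff.1 h
      rw [Nat.one_shiftLeft, Nat.one_shiftLeft] at h1
      rw [Nat.one_shiftLeft] at h2
      rcases Nat.lt_or_ge i (2 ^ d) with hd | hd
      · refine ih h1 i hd ?_
        rw [Nat.testBit_and, hx, Nat.testBit_two_pow_sub_one]; simpa using hd
      · have := ih h2 (i - 2 ^ d) (by rw [pow_succ] at hi; omega)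
          (by rw [Nat.testBit_shiftRight, show 2 ^ d + (i - 2 ^ d) = i by omega, hx])
        rwa [show o + 2 ^ d + (i - 2 ^ d) = o + i by omega] at this
    · rw [Nat.eq_of_beq_eq_true h] at hx; simp at hx

/-- some member of the list passes. -/
def anyM {α : Type} (f : α → Bool) (l : List α) : Bool :=
  List.rec (motive := fun _ => Bool) false
    (fun a _ ih => Bool.rec (motive := fun _ => Bool) ih true (f a)) l

theorem of_anyM {α : Type} {f : α → Bool} {l : List α} (h : anyM f l = true) :
    ∃ a ∈ l, f a = true := by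
  induction l with
  | nil => exact absurd h Bool.false_ne_true
  | cons a l ih =>
    rcases brec_true (show Bool.rec (motive := fun _ => Bool) (anyM f l) true (f a) = true from h)
      with ⟨-, h⟩ | ⟨h, -⟩
    · obtain ⟨b, hb, e⟩ := ih h; exact ⟨b, List.mem_cons_of_mem _ hb, e⟩
    · exact ⟨a, by simp, h⟩

/-- bit `i` of `x` is clear. -/
def nb (x i : ℕ) : Bool := Nat.beq (Nat.land (Nat.shiftRight x i) 1) 0

theorem nb_eq (x i : ℕ) : nb x i = !x.testBit i := by
  have e : nb x i = Nat.beq ((x >>> i) &&& 1) 0 := rfl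
  rw [e, Nat.and_one_is_mod, ← Nat.add_zero i, ← Nat.testBit_shiftRight, Nat.testBit_zero,
    Nat.add_zero]
  rcases Nat.mod_two_eq_zero_or_one (x >>> i) with h | h <;> rw [h] <;> rfl

/-- the numbers differ. -/
def nq (x y : ℕ) : Bool := Bool.rec (motive := fun _ => Bool) true false (Nat.beq x y)

theorem ne_of_nq {x y : ℕ} (h : nq x y = true) : x ≠ y := by
  rintro rfl
  rw [nq, Nat.beq_refl] at h
  exact Bool.false_ne_true h

end

end H88
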