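/- Quasithin tower: eight sporadic groups contain a large elementary abelian subgroup of odd order. -/
import Cfsg.Agent.H97.QTBig
import Cfsg.Agent.H68.QTChev
import Cfsg.Agent.H81.McLP3
import Cfsg.Agent.H81.J3P3
import Cfsg.Agent.H81.ONP3
import Cfsg.Agent.H72.Cent2
import Cfsg.Agent.H88.SuzLoc
import Cfsg.Agent.S1710

set_option autoImplicit false
set_option maxRecDepth 100000

namespace H88.BigSp

open Cfsg H71 H81 H97.QT Subgroup

noncomputable section

/-- `x` is a power of the central element `z` -/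
def inZ (mul : ℕ → ℕ → ℕ) (one z x : ℕ) : Bool := frc (mul x one) fun y =>
  Nat.beq y (mul one one) || Nat.beq y (mul z one) || Nat.beq y (mul z z)

/-- the word `w` is central -/
def relZ (mul : ℕ → ℕ → ℕ) (one z : ℕ) (tab : ℕ → ℕ) (w : List ℕ) : Bool :=
  mw mul tab w (inZ mul one z) one

/-- no non-trivial product of powers is central -/
def indep (mul : ℕ → ℕ → ℕ) (bad : ℕ → Bool) (tab : ℕ → ℕ) : List (List ℕ) → ℕ → Bool → Bool
  | [], x, f => !f || !(bad x)
  | w :: l, x, f => indep mul bad tab l x f &&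
      mw mul tab w (fun y => indep mul bad tab l y true &&
        mw mul tab w (fun y' => indep mul bad tab l y' true) y) x

variable {M : Type} [Monoid M] {C : Cd M} {Δ : Type*} [Group Δ] {ι : Δ →* M} {G : Type*} [Group G]
  {σ : Δ →* G} {z : ℕ} {tab : ℕ → ℕ} {v : ℕ → Δ}

/-- a model of a central extension with kernel of order 1 or 3 -/
structure Md (C : Cd M) (ι : Δ →* M) (σ : Δ →* G) (z : ℕ) (tab : ℕ → ℕ) (v : ℕ → Δ) : Prop where
  can : C.Can
  inj : Function.Injective ι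
  ker : ∃ ζ, ι ζ = C.dec z ∧ ∀ g, σ g = 1 ↔ g = 1 ∨ g = ζ ∨ g = ζ * ζ
  val : ∀ l, ι (v l) = C.dec (tab l)

theorem ker_three {ζ : Δ} (h : Nat.card σ.ker = 3) (hζ : ζ ∈ σ.ker) (h1 : ζ ≠ 1) (g : Δ) :
    σ g = 1 ↔ g = 1 ∨ g = ζ ∨ g = ζ * ζ := by
  have : Fact (Nat.Prime 3) := ⟨Nat.prime_three⟩
  have hz : σ ζ = 1 := hζ
  refine ⟨fun hg => ?_, by rintro (rfl | rfl | rfl) <;> simp [hz]⟩
  have : Finite σ.ker := Nat.finite_of_card_ne_zero (by rw [h]; decide)
  have o : orderOf ζ = 3 := orderOf_eq_prime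
    (congrArg Subtype.val (h ▸ pow_card_eq_one' (x := (⟨ζ, hζ⟩ : σ.ker)))) h1
  have e : zpowers ζ = σ.ker :=
    eq_of_le_of_card_ge (zpowers_le.2 hζ) (by rw [h, Nat.card_zpowers, o])
  classical
  have : Finite (zpowers ζ) := e ▸ this
  have m : g ∈ zpowers ζ := e ▸ hg
  rw [(isOfFinOrder_iff_pow_eq_one.2 ⟨3, by decide, o ▸ pow_orderOf_eq_one ζ⟩).mem_zpowers_iff_mem_range_orderOf,
    o, Finset.mem_image] at m
  obtain ⟨i, hi, rfl⟩ := m
  rw [Finset.mem_range] at hi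
  interval_cases i <;> simp [pow_two]

namespace Md

variable (h : Md C ι σ z tab v)
include h

theorem inZ_iff {x : ℕ} {g : Δ} (e : ι g = C.dec x) : inZ C.mul C.one z x = true ↔ σ g = 1 := by
  obtain ⟨ζ, h1, h2⟩ := h.ker
  have k : ∀ {a b : ℕ} {u : Δ}, ι u = C.dec (C.mul a b) →
      (Nat.beq (C.mul x C.one) (C.mul a b) = true ↔ g = u) := fun {a b u} hu => by
    have e' : ι g = C.dec (C.mul x C.one) := by rw [C.dec_mul, C.dec_one, mul_one, e]
    rw [Nat.beq_eq]
    exact ⟨fun q => h.inj (by rw [e', q, hu]), fun q => h.can _ _ _ _ (by rw [← e', ← hu, q])⟩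
  rw [inZ, frc_eq, Bool.or_eq_true, Bool.or_eq_true, h2, or_assoc,
    k (u := 1) (by simp [C.dec_mul, C.dec_one]), k (u := ζ) (by simp [C.dec_mul, C.dec_one, h1]),
    k (u := ζ * ζ) (by simp [C.dec_mul, h1])]

theorem mw_ex {k : ℕ → Bool} {w : List ℕ} {x : ℕ} {g : Δ} (e : ι g = C.dec x)
    (hk : mw C.mul tab w k x = true) : ∃ y, k y = true ∧ ι (g * evw v w) = C.dec y := by
  obtain ⟨y, h1, h2⟩ := mw_sound C w x hk
  refine ⟨y, h1, ?_⟩
  rw [h2, map_mul, e, evw, map_list_prod, List.map_map]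
  congr 2
  exact List.map_congr_left fun l _ => h.val l

theorem rel {w : List ℕ} (hw : relZ C.mul C.one z tab w = true) : evw (fun l => σ (v l)) w = 1 := by
  obtain ⟨y, h1, h2⟩ := h.mw_ex (g := 1) (by rw [map_one, C.dec_one]) hw
  rw [← map_evw, ← one_mul (evw v w)]
  exact (h.inZ_iff h2).1 h1

theorem rels {R : List (List ℕ)} (hR : R.all (relZ C.mul C.one z tab) = true) :
    ∀ w ∈ R, evw (fun l => σ (v l)) w = 1 := fun w hw => h.rel (List.all_eq_true.1 hR w hw)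

theorem indep_spec {n : ℕ} (w : Fin n → List ℕ) (h3 : ∀ i, σ (evw v (w i)) ^ 3 = 1) (k : Fin n → ℕ)
    {x : ℕ} {g : Δ} (e : ι g = C.dec x) {f : Bool}
    (hi : indep C.mul (inZ C.mul C.one z) tab (List.ofFn w) x f = true)
    (hp : σ g * (List.ofFn fun i => σ (evw v (w i)) ^ k i).prod = 1) :
    f = false ∧ ∀ i, 3 ∣ k i := by
  induction n generalizing x g f with
  | zero =>
    rw [List.ofFn_zero, indep, (h.inZ_iff e).2 (by simpa using hp)] at hi
    exact ⟨by simpa using hi, fun i => i.elim0⟩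
  | succ n ih =>
    rw [List.ofFn_succ, indep, Bool.and_eq_true] at hi
    rw [List.ofFn_succ, List.prod_cons, pow_eq_pow_mod _ (h3 0), ← mul_assoc] at hp
    obtain ⟨y, h1, e1⟩ := h.mw_ex e hi.2
    rw [Bool.and_eq_true] at h1
    obtain ⟨y', h2, e2⟩ := h.mw_ex e1 h1.2
    have ih' := fun {x g} e {f} => @ih (fun i => w i.succ) (fun i => h3 _) (fun i => k i.succ) x g e f
    rcases (by omega : k 0 % 3 = 0 ∨ k 0 % 3 = 1 ∨ k 0 % 3 = 2) with q | q | q <;> rw [q] at hp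
    · obtain ⟨a, b⟩ := ih' e hi.1 (by rwa [pow_zero, mul_one] at hp)
      exact ⟨a, Fin.cases (Nat.dvd_of_mod_eq_zero q) b⟩
    · exact absurd (ih' e1 h1.1 (by rwa [pow_one, ← map_mul] at hp)).1 (by decide)
    · exact absurd (ih' e2 h2 (by rwa [pow_two, ← mul_assoc, ← map_mul, ← map_mul] at hp)).1
        (by decide)

theorem ea [Finite G] {n : ℕ} (w : Fin n → List ℕ)
    (hc : ∀ i j, Commute (evw (fun l => σ (v l)) (w i)) (evw (fun l => σ (v l)) (w j)))
    (h3 : ∀ i, evw (fun l => σ (v l)) (w i) ^ 3 = 1)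
    (hi : indep C.mul (inZ C.mul C.one z) tab (List.ofFn w) C.one false = true) :
    IsElementaryAbelian 3 (closure (Set.range fun i => evw (fun l => σ (v l)) (w i))) ∧
      3 ^ n ≤ Nat.card (closure (Set.range fun i => evw (fun l => σ (v l)) (w i))) := by
  refine ⟨ea_closure _ hc h3, le_card_closure Nat.prime_three _ hc h3 fun k hk => ?_⟩
  simp only [← map_evw] at h3 hk
  exact (h.indep_spec w h3 k (g := 1) (by rw [map_one, C.dec_one]) hi
    (by rwa [map_one, one_mul])).2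

end Md

theorem comm_of {a b : G} (ha : a ^ 3 = 1) (hb : b ^ 3 = 1) (h : a * b * (a * a) * (b * b) = 1) :
    Commute a b := by
  have e1 : a * a = a⁻¹ := by rw [eq_inv_iff_mul_eq_one, ← ha, pow_three']
  have e2 : b * b = b⁻¹ := by rw [eq_inv_iff_mul_eq_one, ← hb, pow_three']
  rw [e1, e2] at h
  exact commutatorElement_eq_one_iff_commute.1 h

/-- the relators of an elementary abelian 3-group -/
def eaR (W : List (List ℕ)) : List (List ℕ) :=
  W.map (fun a => a ++ a ++ a) ++ (W.sublistsLen 2).map fun p =>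
    p.getD 0 [] ++ p.getD 1 [] ++ (p.getD 0 [] ++ p.getD 0 []) ++ (p.getD 1 [] ++ p.getD 1 [])

theorem big4 [Finite G] (h : Md C ι σ z tab v) (a b c d : List ℕ)
    (hR : (eaR [a, b, c, d]).all (relZ C.mul C.one z tab) = true)
    (hi : indep C.mul (inZ C.mul C.one z) tab [a, b, c, d] C.one false = true) : Big G := by
  have r := h.rels hR
  simp only [eaR, List.sublistsLen_succ_cons, List.sublistsLen_zero, List.sublistsLen_succ_nil,
    List.map_cons, List.map_nil, List.cons_append, List.nil_append, List.append_nil,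
    List.getD_cons_zero, List.getD_cons_succ, List.forall_mem_cons, evw_append, ← pow_three'] at r
  obtain ⟨a3, b3, c3, d3, h1, h2, h3, h4, h5, h6, -⟩ := r
  have := h.ea ![a, b, c, d] (by
    have := comm_of c3 d3 h1
    have := comm_of b3 d3 h2
    have := comm_of b3 c3 h3
    have := comm_of a3 d3 h4
    have := comm_of a3 c3 h5
    have := comm_of a3 b3 h6
    intro i j
    fin_cases i <;> fin_cases j <;> first | exact Commute.refl _ | assumption | (symm; assumption))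
    (by intro i; fin_cases i <;> assumption) hi
  exact ⟨3, Nat.prime_three, by decide, _, this.1, Or.inl this.2⟩

theorem md_of {L : List ℕ} (hC : C.Can) (hι : Function.Injective ι) (hL : GoodM C ι ⊤ L)
    (hk : ∃ ζ, ι ζ = C.dec z ∧ ∀ g, σ g = 1 ↔ g = 1 ∨ g = ζ ∨ g = ζ * ζ) :
    ∃ v, Md C ι σ z (nthD L C.one) v := by
  choose v _ hv using hL.nth
  exact ⟨v, hC, hι, hk, hv⟩

theorem hk3 (h : Nat.card σ.ker = 3) (hz : ∃ ζ ∈ σ.ker, ι ζ = C.dec z) (k : ℕ)
    (h1 : Nat.beq (C.ent z k) (C.ent C.one k) = false) :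
    ∃ ζ, ι ζ = C.dec z ∧ ∀ g, σ g = 1 ↔ g = 1 ∨ g = ζ ∨ g = ζ * ζ := by
  obtain ⟨ζ, a, b⟩ := hz
  refine ⟨ζ, b, ker_three h a ?_⟩
  rintro rfl
  rw [map_one, ← C.dec_one] at b
  simp [C.ent_eq _ _ k b] at h1

/-! ### the groups -/

theorem big_st2 : Big (H77.St2 H77.vV H77.vU) := by
  have : Finite (H77.St2 H77.vV H77.vU) := Nat.finite_of_card_ne_zero (by rw [H77.card_mcl]; decide)
  obtain ⟨v, h⟩ := md_of (σ := MonoidHom.id _) (z := CoM.C.one) CoM.can (CoM.ιK_inj _) McLP3.good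
    ⟨1, by rw [map_one, Cd.dec_one], by simp⟩
  exact big4 h [6] [10] [14] [8, 8, 12, 16] (by decide +kernel) (by decide +kernel)

theorem big_McL : Big Spor.McL := big_st2.of_equiv H77.mclEquiv.symm

theorem big_Co3 : Big Spor.Co3 :=
  big_McL.of_injective (inclusion inf_le_left) (inclusion_injective _)

theorem big_Co2 : Big Spor.Co2 :=
  big_McL.of_injective (inclusion (inf_le_inf_right _ inf_le_left)) (inclusion_injective _)

theorem big_Co1 : Big Spor.Co1 := by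
  refine (big_st2.of_subgroup _).of_ker (QuotientGroup.mk' (center Co0)) fun a ha p hp h2 e => ?_
  have h1 : a ∈ center Co0 := (QuotientGroup.eq_one_iff a).1 ha
  have h3 : a ^ 2 = 1 := congrArg Subtype.val
    (H79.card_center ▸ pow_card_eq_one' (x := (⟨a, h1⟩ : center Co0)))
  rw [← pow_one a, ← (Nat.coprime_primes hp Nat.prime_two).2 h2, pow_gcd_eq_one]
  exact ⟨e, h3⟩

theorem big_ON : Big Spor.ON := by
  obtain ⟨v, h⟩ := md_of ONM.can ONM.X.inj ONP3.good (hk3 ONM.hz0 ONM.hz 0 (by decide +kernel))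
  exact big4 h [4] [6] [8] [10] (by decide +kernel) (by decide +kernel)

theorem big_Suz : Big Spor.Suz := by
  have : Fact (Nat.Prime 3) := ⟨Nat.prime_three⟩
  obtain ⟨A, -, h1, h2, -⟩ := SuzLoc.three (MulEquiv.refl Spor.Suz) default
  exact ⟨3, Nat.prime_three, by decide, A, h1, Or.inl (by rw [h2]; decide)⟩

theorem big_Ly : Big Spor.Ly := by
  obtain ⟨K, _, _, hK, ⟨e⟩⟩ := Cfsg.Agent.S1710.result
  have : CharP K 5 := charP_of_card_eq_prime (hp := ⟨by norm_num⟩) hK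
  exact ((H68.QT.big_G2 K (p := 5) (by decide)).of_equiv e).of_subgroup _

def tw : List ℕ := [13, 9, 1, 1, 15]
def ti : List ℕ := [14, 0, 0, 8, 12]
def k1 : List ℕ := [2] ++ tw ++ [3] ++ ti
def k2 : List ℕ := [4] ++ tw ++ [5] ++ ti
def k3 : List ℕ := [6] ++ tw ++ [7] ++ ti

theorem big_J3 (F : Type) [Field F] [Fintype F] (ω : F) [Fact (Fintype.card F = 4)]
    [Fact (ω ^ 2 + ω + 1 = 0)] : Big (Spor.J3 F ω) := by
  obtain ⟨v, h⟩ := md_of J3M.can J3M.ι_inj (J3P3.good (F := F) (ω := ω))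
    (hk3 J3M.hz0 J3M.hz 0 (by decide +kernel))
  have r := h.rels (R := eaR [[2], [4], [6]] ++ [[2, 3], [4, 5], [6, 7], tw ++ ti,
    tw ++ [2] ++ ti ++ [2, 4, 4], tw ++ [4] ++ ti ++ [2, 4], tw ++ [6] ++ ti ++ [2, 2, 4, 4, 6],
    k2 ++ k1 ++ k2 ++ [3], k1 ++ k2 ++ [5], k3 ++ k1 ++ k1 ++ [6]]) (by decide +kernel)
  generalize hx : (fun l => QuotientGroup.mk' (center (Spor.threeJ3 F ω)) (v l)) = x at r
  simp only [eaR, List.sublistsLen_succ_cons, List.sublistsLen_zero, List.sublistsLen_succ_nil,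
    List.map_cons, List.map_nil, List.cons_append, List.nil_append, List.append_nil,
    List.getD_cons_zero, List.getD_cons_succ, List.forall_mem_cons, evw_append, evw_cons, evw_nil,
    mul_one, k1, k2, k3, ← mul_assoc] at r
  obtain ⟨a3, b3, c3, h1, h2, h3, ia, ib, ic, it, ta, tb, tc, ka, kb, kc, -⟩ := r
  rw [← eq_inv_iff_mul_eq_one, ← inv_eq_iff_eq_inv] at ia ib ic it
  rw [← pow_three'] at a3 b3 c3
  rw [← ia, ← ib, ← ic, ← it] at *
  generalize evw x tw = t at *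
  have E := h.ea ![[2], [4], [6]] (by
    rw [hx]
    have := comm_of b3 c3 (by simpa only [mul_assoc] using h1)
    have := comm_of a3 c3 (by simpa only [mul_assoc] using h2)
    have := comm_of a3 b3 (by simpa only [mul_assoc] using h3)
    intro i j
    fin_cases i <;> fin_cases j <;> simp only [Fin.zero_eta, Fin.mk_one, Fin.reduceFinMk,
      Matrix.cons_val, evw_cons, evw_nil, mul_one] <;>
      first | exact Commute.refl _ | assumption | (symm; assumption))
    (by rw [hx]; intro i; fin_cases i <;> simpa) (by decide +kernel)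
  rw [hx] at E
  generalize hA : closure (Set.range fun i => evw x (![[2], [4], [6]] i)) = A at E
  have ma : x 2 ∈ A := hA ▸ subset_closure ⟨0, by simp⟩
  have mb : x 4 ∈ A := hA ▸ subset_closure ⟨1, by simp⟩
  have mc : x 6 ∈ A := hA ▸ subset_closure ⟨2, by simp⟩
  have S : ∀ K : Subgroup (Spor.J3 F ω), x 2 ∈ K → x 4 ∈ K → x 6 ∈ K →
      ∀ y ∈ Set.range fun i => evw x (![[2], [4], [6]] i), y ∈ K := by
    rintro K a b c _ ⟨i, rfl⟩
    fin_cases i <;> simpa
  have q : ∀ {K : Subgroup (Spor.J3 F ω)} {a b : Spor.J3 F ω}, a * b ∈ K → b ∈ K → a ∈ K :=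
    fun e hb => (mul_mem_cancel_right hb).1 e
  have tN : t ∈ normalizer (A : Set (Spor.J3 F ω)) :=
    H72.mem_normalizer_of_closure hA.symm (S (A.comap (MulAut.conj t).toMonoidHom)
      (show t * x 2 * t⁻¹ ∈ A from q (q (q (ta ▸ A.one_mem) mb) mb) ma)
      (show t * x 4 * t⁻¹ ∈ A from q (q (tb ▸ A.one_mem) mb) ma)
      (show t * x 6 * t⁻¹ ∈ A from q (q (q (q (q (tc ▸ A.one_mem) mc) mb) mb) ma) ma))
  refine ⟨3, Nat.prime_three, by decide, A, E.1, Or.inr ⟨E.2, ?_⟩⟩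
  have c1 := commutator_mem_commutator ma tN
  have c2 := commutator_mem_commutator mb tN
  have c3' := commutator_mem_commutator mc tN
  rw [commutatorElement_def] at c1 c2 c3'
  generalize ⁅A, normalizer (A : Set (Spor.J3 F ω))⁆ = K at *
  rw [← hA, closure_le]
  refine S K ?_ ?_ ?_
  · rw [mul_inv_eq_one] at ka
    rw [← ka]
    simpa only [mul_assoc] using mul_mem (mul_mem c2 c1) c2
  · rw [mul_inv_eq_one] at kb
    rw [← kb]
    simpa only [mul_assoc] using mul_mem c1 c2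
  · rw [← inv_mem_iff, ← eq_inv_iff_mul_eq_one.2 kc]
    simpa only [mul_assoc] using mul_mem (mul_mem c3' c1) c1

universe u

theorem jobSpA : JobSpA.{u} := by
  rintro K _ _ (⟨F, _, _, ω, h1, h2, ⟨e⟩⟩ | ⟨⟨e⟩⟩ | ⟨⟨e⟩⟩ | ⟨⟨e⟩⟩ | ⟨⟨e⟩⟩ | ⟨⟨e⟩⟩ | ⟨⟨e⟩⟩ | ⟨⟨e⟩⟩)
  · exact (@big_J3 F _ _ ω ⟨h1⟩ ⟨h2⟩).of_equiv e
  exacts [big_Co1.of_equiv e, big_Co2.of_equiv e, big_Co3.of_equiv e, big_McL.of_equiv e,
    big_Suz.of_equiv e, big_ON.of_equiv e, big_Ly.of_equiv e]

end

end H88.BigSp
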