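/- TE2 (blueprints/TE2.md): a standard subgroup of type `L₃(4)` with centre of odd order. -/
import Cfsg.Agent.H88.ASBase
import Cfsg.Agent.H86.L34B
import Cfsg.Agent.H6.U6a

set_option autoImplicit false

namespace H88.TE

open Subgroup Cfsg H98 H1.Gold H86.L34 H6 H88.AS

universe u
variable {G : Type u} [Group G]

/-- Elementary abelian of exponent two. -/
def El (E : Subgroup G) : Prop := ∀ e ∈ E, e * e = 1

/-- The subgroup generated by the squares. -/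
def sqs (X : Subgroup G) : Subgroup G := closure {x | ∃ y ∈ X, y * y = x}

def fr (σ : Bool) (x : F4) : F4 := if σ then x ^ 2 else x

/-- The standard subgroup with its unitriangular group, a torus element and two reflections. -/
structure Dt (G : Type u) [Group G] where
  A : Subgroup G
  u : F4 → F4 → F4 → G
  h : G
  n : G
  m : G

namespace Dt
variable (d : Dt G)

abbrev K : Subgroup G := cen d.A
abbrev N : Subgroup G := nor d.A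
abbrev z (e : F4) : G := d.u 0 0 e
def U : Subgroup G := closure {x | ∃ a b c, d.u a b c = x}
def V₁ : Subgroup G := closure {x | ∃ a c, d.u a 0 c = x}
def V₂ : Subgroup G := closure {x | ∃ b c, d.u 0 b c = x}
def Z : Subgroup G := closure {x | ∃ e, d.z e = x}

/-- `g` acts on `U` as a diagonal (`l`, `k`), field (`σ`), graph (`τ`) automorphism. -/
def Ac (g : G) (l k : F4) (σ τ : Bool) : Prop := ∀ a b c, g * d.u a b c * g⁻¹ =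
  if τ then d.u (l * fr σ b) (k * fr σ a) (l * k * fr σ (c + a * b))
  else d.u (l * fr σ a) (k * fr σ b) (l * k * fr σ c)

/-- The two parabolics interchanged. -/
def swap : Dt G := ⟨d.A, fun a b c => d.u b a (c + a * b), d.h, d.m, d.n⟩

end Dt

/-- What is read off the matrices. -/
structure Fr0 (d : Dt G) : Prop where
  std : IsStandardSubgroup d.A
  zodd : ∀ a ∈ d.A, a ∈ d.K → Odd (orderOf a)
  hm : HM d.u
  uA : ∀ a b c, d.u a b c ∈ d.A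
  syl : IsSyl 2 d.U d.A
  hA : d.h ∈ d.A
  h3 : d.h ^ 3 = 1
  hu : ∀ a b c, d.h * d.u a b c * d.h⁻¹ = d.u (F4.v * a) (F4.v * b) (F4.w * c)
  nA : d.n ∈ d.A
  nn : d.n * d.n = 1
  nu : ∀ a c, d.n * d.u a 0 c * d.n⁻¹ = d.u c 0 a
  mA : d.m ∈ d.A
  mm : d.m * d.m = 1
  mu : ∀ b c, d.m * d.u 0 b c * d.m⁻¹ = d.u 0 c b
  nh : d.n * d.h * d.n * d.h ∈ d.K
  mh : d.m * d.h * d.m * d.h ∈ d.K
  nv : (d.n * d.u 0 1 0) ^ 3 ∈ d.K
  mv : (d.m * d.u 1 0 0) ^ 3 ∈ d.K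
  nm : (d.n * d.m) ^ 3 ∈ d.K
  br₁ : ∀ x, (d.n * d.m * d.u 0 x x) ^ 3 ∈ d.K → x = 0
  br₂ : ∀ x, (d.m * d.n * d.u x 0 x) ^ 3 ∈ d.K → x = 0
  gen : ∀ B : Subgroup G, d.U ≤ B → d.n ∈ B → d.m ∈ B → d.A ≤ B
  cenz : ∀ x ∈ d.A, Commute x (d.z 1) → ∃ k ∈ d.K, ∃ a b c, x = k * d.u a b c

/-- The action of `N` on `A`. -/
structure Fr (d : Dt G) : Prop extends Fr0 d where
  cls : ∀ a ∈ d.A, orderOf a = 2 → ∃ b ∈ d.A, b * d.z 1 * b⁻¹ = a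
  dec : ∀ s ∈ d.K ⊔ d.A, s * s = 1 → ∃ k ∈ d.K, ∃ a ∈ d.A, k * k = 1 ∧ a * a = 1 ∧ s = k * a
  norU : ∀ g ∈ d.N, ∀ e ≠ 0, ∀ e', g * d.z e * g⁻¹ = d.z e' → g ∈ nor d.U
  aut : ∀ g ∈ d.N, g ∈ nor d.U → ∃ a b l k σ τ, l ≠ 0 ∧ k ≠ 0 ∧ d.Ac (d.u a b 0 * g) l k σ τ
  ker : ∀ g ∈ d.N, (∀ a b c, Commute g (d.u a b c)) → ∃ k ∈ d.K, ∃ e, g = k * d.z e
  inn : ∀ g ∈ d.K ⊔ d.A, ∀ l k σ τ, d.Ac g l k σ τ → l = k ∧ σ = false ∧ τ = false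
  tri₁ : ∀ g ∈ d.N, (∀ e, Commute g (d.z e)) → (∀ a, ∃ e, g * d.u a 0 0 * g⁻¹ = d.u a 0 e) →
    ∃ k ∈ d.K, ∃ a b c, g = k * d.u a b c
  tri₂ : ∀ g ∈ d.N, (∀ e, Commute g (d.z e)) → (∀ b, ∃ e, g * d.u 0 b 0 * g⁻¹ = d.u 0 b e) →
    ∃ k ∈ d.K, ∃ a b c, g = k * d.u a b c
  rkin : ∀ E ≤ d.K ⊔ d.A, El E → ∃ a ∈ d.A, cj a E ≤ d.K ⊔ d.V₁ ∨ cj a E ≤ d.K ⊔ d.V₂
  rkout : ∀ E ≤ d.N, El E → ¬ E ≤ d.K ⊔ d.A → Nat.card E ≤ 8 * Nat.card ↥(E ⊓ d.K)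
  rk : ∀ E ≤ d.N, El E → Nat.card E ≤ 16 * Nat.card ↥(E ⊓ d.K)
  out4 : ∀ T ≤ d.N, IsPGroup 2 T → Nat.card T ≤ 4 * Nat.card ↥(T ⊓ (d.K ⊔ d.A))
  osq : ∀ x ∈ sqs d.N, x ^ 3 ∈ d.K ⊔ d.A
  oc : ∀ s ∈ d.N, s * s = 1 → s ∉ d.K ⊔ d.A → ∀ x ∈ d.A, x * x = 1 → Commute s x →
    ∃ a ∈ d.A, a * s * a⁻¹ = s * x
  sqd : ∀ s ∈ d.N, s * s = 1 → s ∉ d.K ⊔ d.A → ∃ x ∈ sqs (d.A ⊓ cen1 s), orderOf x = 2
  two : ∀ s ∈ d.N, ∀ t ∈ d.N, s * s = 1 → t * t = 1 → Commute s t → s ∉ d.K ⊔ d.A →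
    t ∉ d.K ⊔ d.A → s * t ∉ d.K ⊔ d.A → ∀ D ≤ (d.K ⊔ d.A) ⊓ cen1 s ⊓ cen1 t, IsPGroup 2 D →
    Nat.card D ≤ 2 * Nat.card ↥(D ⊓ d.K)

/-- The index set of a Sylow 2-subgroup of `K`: all of `F₄`, or the prime field. -/
def Ph (big : Bool) (c : F4) : Prop := big = true ∨ c = 0 ∨ c = 1

/-- The pair analysis. -/
structure Pr (d : Dt G) (big : Bool) (R : Subgroup G) (r : F4 → G) : Prop where
  syl : IsSyl 2 R d.K
  mem : ∀ x, x ∈ R ↔ ∃ c, Ph big c ∧ r c = x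
  add : ∀ c c', Ph big c → Ph big c' → r (c + c') = r c * r c'
  inj : ∀ c, Ph big c → r c = 1 → c = 0
  noKI : ∀ a ∈ d.A, ¬ KI d.K a
  tw : ∃ g ∉ d.N, ∀ c, Ph big c → r c * d.z c ∈ cj g d.K

/-- The odd core `O` of `C_K(R)`. -/
structure Od (d : Dt G) (R O : Subgroup G) : Prop where
  le : O ≤ d.K ⊓ cen R
  odd : Odd (Nat.card O)
  mem : ∀ k ∈ d.K ⊓ cen R, Odd (orderOf k) → k ∈ O
  dec : ∀ k ∈ d.K ⊓ cen R, ∃ o ∈ O, ∃ x ∈ R, k = o * x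

/-- The elements permuting the four conjugates of `R` in `R Z`, modulo `Z`. -/
structure Pre (d : Dt G) (big : Bool) (R : Subgroup G) (r : F4 → G) (O : Subgroup G)
    (b : F4 → G) : Prop where
  od : Od d R O
  zero : b 0 = 1
  add : ∀ x y, ∃ e, b x * b y = b (x + y) * d.z e
  com : ∀ x y, Commute (b x) (b y)
  bu : ∀ x a a' c, Commute (b x) (d.u a a' c)
  bO : ∀ x, ∀ o ∈ O, Commute (b x) o
  br : ∀ x c, Ph big c → b x * r c * (b x)⁻¹ = r c * d.z (c * x)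
  hb : ∀ x, ∃ e, d.h * b x * d.h⁻¹ = b (F4.w * x) * d.z e

/-- The relations on one side; `w y = n * β y * n⁻¹`. -/
structure Sd (d : Dt G) (big : Bool) (r β : F4 → G) (γ : F4) : Prop where
  ph : ∀ c, Ph big (γ * c)
  wβ : ∀ y x, d.n * β y * d.n⁻¹ * β x * (d.n * β y * d.n⁻¹)⁻¹ =
    β x * d.u (γ * y ^ 2 * x) 0 (γ * y * x ^ 2)
  vw : ∀ y b, d.u 0 b 0 * (d.n * β y * d.n⁻¹) * (d.u 0 b 0)⁻¹ =
    d.n * β y * d.n⁻¹ * β (y * b) * r (γ * y ^ 2 * b) * d.u (γ * y ^ 3 * b) 0 0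

/-- The local relations. -/
structure Loc (d : Dt G) (big : Bool) (R : Subgroup G) (r : F4 → G) (O : Subgroup G)
    (β : F4 → G) (γ₁ γ₂ : F4) : Prop where
  od : Od d R O
  add : ∀ x y, β (x + y) = β x * β y
  βu : ∀ x a b c, Commute (β x) (d.u a b c)
  βO : ∀ x, ∀ o ∈ O, Commute (β x) o
  βr : ∀ x c, Ph big c → β x * r c * (β x)⁻¹ = r c * d.z (c * x)
  hβ : ∀ x, d.h * β x * d.h⁻¹ = β (F4.w * x)
  s₁ : Sd d big r β γ₁
  s₂ : Sd d.swap big r β γ₂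

/-! ### A Sylow 2-subgroup of order two -/

def Gd (K V : Subgroup G) : Prop := El V ∧ Nat.card V = 16 ∧ ∀ x ∈ V, ¬ KI K x

/-- Centralizers of involutions of conjugates of `K`. -/
structure C0 (K : Subgroup G) (z : G) : Prop where
  rk5 : ∀ s, KI K s → ∀ E ≤ cen1 s, El E → Nat.card E ≤ 32
  e16 : ∀ s, KI K s → ∀ D ≤ cen1 s, IsPGroup 2 D → ∀ V ≤ D, ∀ V' ≤ D, Gd K V → Gd K V' →
    V = V' ∨ (Nat.card ↥(V ⊓ V') = 4 ∧ ∀ V'' ≤ D, Gd K V'' → V'' = V ∨ V'' = V')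
  le : ∀ s, KI K s → ∀ V ≤ cen1 s, Gd K V → ∀ D ≤ nor (V ⊔ zpowers s) ⊓ cen V, IsPGroup 2 D →
    ∃ D₀ ≤ D, El D₀ ∧ Nat.card D ≤ 2 * Nat.card D₀
  sq : ∀ s, KI K s → ∀ x ∈ cen1 s, orderOf (x * x) = 2 → KI K (x * x) ∨ IsConj z (x * x)
  two : ∀ s, KI K s → ∀ Y ≤ cen1 s, El Y → Nat.card Y = 4 → (∀ x ∈ Y, ¬ KI K x ∧ ¬ IsConj z x) →
    ∀ D ≤ cen1 s ⊓ cen Y, IsPGroup 2 D → (∀ x ∈ D, ¬ KI K x) → Nat.card D ≤ 8

/-- The group `P` of order `2 ^ 12` with centre `B`. -/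
structure CP (K : Subgroup G) (t : G) (P B : Subgroup G) : Prop where
  ki : KI K t
  noP : ∀ x ∈ P, ¬ KI K x
  faith : ∀ S : Subgroup G, IsPGroup 2 S → P ≤ S → t ∈ S → S ≤ nor P → ∀ s ∈ S,
    (∀ p ∈ P, s * p * s⁻¹ * p⁻¹ ∈ B) → s ∈ P

/-- `P` is unitriangular over the field with sixteen elements. -/
def CF (K : Subgroup G) (t : G) : Prop :=
  ∃ (F : Type) (_ : Field F) (_ : Fintype F) (p : F → F → F → G) (hp : HM p), Fintype.card F = 16 ∧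
    (∀ a b c, t * p a b c * t⁻¹ = p (a ^ 4) (b ^ 4) (c ^ 4)) ∧ CP K t hp.S (hp.A ⊓ hp.B)

/-- `P` is a product of two unitriangular groups over the field with four elements. -/
def CS (K : Subgroup G) (t z : G) : Prop :=
  ∃ (p q : F4 → F4 → F4 → G) (hp : HM p) (hq : HM q),
    (∀ a b c a' b' c', Commute (p a b c) (q a' b' c')) ∧ hp.S ⊓ hq.S = ⊥ ∧
    (∀ a b c, t * p a b c * t⁻¹ = q a b c) ∧ z = p 0 0 1 * q 0 0 1 ∧
    CP K t (hp.S ⊔ hq.S) ((hp.A ⊓ hp.B) ⊔ (hq.A ⊓ hq.B))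

/-! ### Jobs -/

def JobF1 : Prop := ∀ (G : Type u) [Group G] [Finite G] (A : Subgroup G),
  IsStandardSubgroup A → Odd (Nat.card (center A)) →
  Nonempty ((A ⧸ center A) ≃* Matrix.ProjectiveSpecialLinearGroup (Fin 3) F4) →
  ∃ d : Dt G, d.A = A ∧ Fr0 d

def JobF2 : Prop := ∀ (G : Type u) [Group G] [Finite G] (d : Dt G), Fr0 d → Fr d

def JobP : Prop := ∀ (G : Type u) [Group G] [Finite G] (d : Dt G), Fr d →
  (∃ g ∉ d.N, ∃ s ∈ cj g d.K ⊓ d.N, orderOf s = 2) → ∃ big R r, Pr d big R r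

def JobL1 : Prop := ∀ (G : Type u) [Group G] [Finite G] (d : Dt G) (big : Bool) (R : Subgroup G)
  (r : F4 → G), Fr d → Pr d big R r → ∃ O b, Pre d big R r O b

/-- One side: the squares of the `b x` vanish, and the relations hold for every additive choice. -/
def JobL2 : Prop := ∀ (G : Type u) [Group G] [Finite G] (d : Dt G) (big : Bool) (R : Subgroup G)
  (r : F4 → G) (O : Subgroup G) (b : F4 → G), Fr d → Pr d big R r → Pre d big R r O b →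
  (∀ x, b x * b x = 1) ∧ ((∀ x y, b (x + y) = b x * b y) →
    (∀ x, d.h * b x * d.h⁻¹ = b (F4.w * x)) → ∃ γ, Sd d big r b γ)

def JobC0 : Prop := ∀ (G : Type u) [Group G] [Finite G] (d : Dt G) (R : Subgroup G) (r : F4 → G)
  (O : Subgroup G) (β : F4 → G), Fr d → Pr d false R r → Loc d false R r O β 0 0 → C0 d.K (d.z 1)

def JobC1 : Prop := ∀ (G : Type u) [Group G] [Finite G] (d : Dt G) (R : Subgroup G) (r : F4 → G)
  (O : Subgroup G) (β : F4 → G), Fr d → Pr d false R r → Loc d false R r O β 0 0 →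
  C0 d.K (d.z 1) → CF d.K (r 1) ∨ CS d.K (r 1) (d.z 1)

def JobC2 : Prop := ∀ (G : Type u) [Group G] [Finite G] [IsSimpleGroup G] (K : Subgroup G)
  (t z : G), ¬ IsMulCommutative G → C0 K z → ¬ CF K t

def JobC3 : Prop := ∀ (G : Type u) [Group G] [Finite G] [IsSimpleGroup G] (K : Subgroup G)
  (t z : G), ¬ IsMulCommutative G → C0 K z → ¬ CS K t z

end H88.TE
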