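/- TE2: shared lemmas on the frame (blueprints/TE2.md). -/
import Cfsg.Agent.H88.TESpec

set_option autoImplicit false

namespace H88.TE

open Subgroup Cfsg H98 H1.Gold H86.L34 H88.AS H14
open H6 (F4)

universe u
variable {G : Type u} [Group G] {d : Dt G} {a g k s t x y : G} {E V : Subgroup G}

theorem mc1 : g ∈ cen1 x ↔ Commute g x := mem_centralizer_singleton_iff

theorem El.comm (h : El E) (hx : x ∈ E) (hy : y ∈ E) : Commute x y := by
  have := h _ (mul_mem hx hy)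
  rw [Commute, SemiconjBy, ← inv_eq_of_mul_eq_one_right this, mul_inv_rev,
    inv_eq_of_mul_eq_one_right (h x hx), inv_eq_of_mul_eq_one_right (h y hy)]

theorem El.two (h : El E) : IsPGroup 2 E :=
  fun v => ⟨1, Subtype.ext (by simpa [pow_two] using h v v.2)⟩

theorem El.cj (h : El E) (g : G) : El (cj g E) := by
  rintro _ ⟨e, he, rfl⟩
  rw [← map_mul, h e he, map_one]

theorem KI.cj {K : Subgroup G} (h : KI K x) (g : G) : KI K (g * x * g⁻¹) := by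
  obtain ⟨h1, k, h2⟩ := h
  exact ⟨by rwa [orderOf_conj'], g * k, cj_cj g k K ▸ conj_mem_cj h2⟩

theorem ki_cj {K : Subgroup G} : KI K (g * x * g⁻¹) ↔ KI K x :=
  ⟨fun h => by simpa [mul_assoc] using KI.cj h g⁻¹, fun h => KI.cj h g⟩

theorem KI.sq {K : Subgroup G} (h : KI K x) : x * x = 1 := by
  rw [← pow_two, ← h.1, pow_orderOf_eq_one]

theorem KI.ne {K : Subgroup G} (h : KI K x) : x ≠ 1 := fun e => by simpa [e] using h.1

theorem Gd.cj {K : Subgroup G} (h : Gd K V) (g : G) : Gd K (cj g V) :=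
  ⟨h.1.cj g, by rw [card_cj, h.2.1], by
    rintro _ ⟨e, he, rfl⟩ hk
    exact h.2.2 e he (ki_cj.1 hk)⟩

/-- An element of odd order and of `2`-power order is trivial. -/
theorem eq_one_of_odd {n : ℕ} (h : Odd (orderOf x)) (h2 : x ^ 2 ^ n = 1) : x = 1 := by
  have := Nat.Coprime.eq_one_of_dvd ((Nat.coprime_two_right.2 h).pow_right n)
    (orderOf_dvd_of_pow_eq_one h2)
  exact orderOf_eq_one_iff.1 this

@[simp] theorem swap_u (a b c : F4) : d.swap.u a b c = d.u b a (c + a * b) := rfl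
@[simp] theorem swap_A : d.swap.A = d.A := rfl
@[simp] theorem swap_h : d.swap.h = d.h := rfl
@[simp] theorem swap_n : d.swap.n = d.m := rfl
@[simp] theorem swap_m : d.swap.m = d.n := rfl
@[simp] theorem swap_K : d.swap.K = d.K := rfl
@[simp] theorem swap_N : d.swap.N = d.N := rfl
theorem swap_z (e : F4) : d.swap.z e = d.z e := by simp [Dt.z]

namespace Fr0
variable (f : Fr0 d)
include f

theorem U_eq : d.U = f.hm.S := closure_eq f.hm.S
theorem V₁_eq : d.V₁ = f.hm.A := closure_eq f.hm.A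
theorem V₂_eq : d.V₂ = f.hm.B := closure_eq f.hm.B
theorem Z_eq : d.Z = f.hm.A ⊓ f.hm.B := by
  rw [← closure_eq (f.hm.A ⊓ f.hm.B)]
  exact congrArg Subgroup.closure (Set.ext fun x => f.hm.mem_Z.symm)

theorem mem_U : x ∈ d.U ↔ ∃ a b c, d.u a b c = x := by rw [f.U_eq]; rfl
theorem mem_V₁ : x ∈ d.V₁ ↔ ∃ a c, d.u a 0 c = x := by rw [f.V₁_eq]; rfl
theorem mem_V₂ : x ∈ d.V₂ ↔ ∃ b c, d.u 0 b c = x := by rw [f.V₂_eq]; rfl
theorem mem_Z : x ∈ d.Z ↔ ∃ e, d.z e = x := by rw [f.Z_eq]; exact f.hm.mem_Z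
theorem uU (a b c : F4) : d.u a b c ∈ d.U := f.mem_U.2 ⟨_, _, _, rfl⟩
theorem uV₁ (a c : F4) : d.u a 0 c ∈ d.V₁ := f.mem_V₁.2 ⟨_, _, rfl⟩
theorem uV₂ (b c : F4) : d.u 0 b c ∈ d.V₂ := f.mem_V₂.2 ⟨_, _, rfl⟩
theorem zZ (e : F4) : d.z e ∈ d.Z := f.mem_Z.2 ⟨_, rfl⟩
theorem V₁_le : d.V₁ ≤ d.U := f.V₁_eq ▸ f.U_eq ▸ f.hm.A_le
theorem V₂_le : d.V₂ ≤ d.U := f.V₂_eq ▸ f.U_eq ▸ f.hm.B_le
theorem Z_le₁ : d.Z ≤ d.V₁ := f.Z_eq ▸ f.V₁_eq ▸ inf_le_left
theorem Z_le₂ : d.Z ≤ d.V₂ := f.Z_eq ▸ f.V₂_eq ▸ inf_le_right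
theorem inf_eq : d.V₁ ⊓ d.V₂ = d.Z := by rw [f.Z_eq, f.V₁_eq, f.V₂_eq]
theorem sup_eq : d.V₁ ⊔ d.V₂ = d.U := by rw [f.U_eq, f.V₁_eq, f.V₂_eq, f.hm.sup]
theorem U_le : d.U ≤ d.A := f.syl.le
theorem card_U : Nat.card d.U = 64 := by
  have := Nat.card_range_of_injective (f := fun p : F4 × F4 × F4 => d.u p.1 p.2.1 p.2.2)
    (fun p q e => by obtain ⟨h1, h2, h3⟩ := f.hm.ext e; ext <;> assumption)
  rw [show Nat.card (F4 × F4 × F4) = 64 by simp; rfl] at this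
  rw [← this]
  exact Nat.card_congr (Equiv.setCongr (Set.ext fun x => f.mem_U.trans (by simp)))
theorem card_V₁ : Nat.card d.V₁ = 16 := by rw [f.V₁_eq, f.hm.card_A]; simp; rfl
theorem card_V₂ : Nat.card d.V₂ = 16 := by rw [f.V₂_eq, ← f.hm.swap_A, f.hm.swap.card_A]; simp; rfl
theorem card_Z : Nat.card d.Z = 4 := by rw [f.Z_eq, f.hm.card_Z]; simp; rfl

theorem uu (a b c : F4) : d.u a b c * d.u a b c = d.z (a * b) := by rw [← pow_two, f.hm.sq]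
theorem zz (e e' : F4) : d.z e * d.z e' = d.z (e + e') := by rw [f.hm.mul]; simp
theorem z0 : d.z 0 = 1 := f.hm.one
theorem z_sq (e : F4) : d.z e * d.z e = 1 := by rw [f.zz, F4.add_self, f.z0]
theorem z_inj {e e' : F4} (h : d.z e = d.z e') : e = e' := (f.hm.ext h).2.2
theorem z_ord {e : F4} (h : e ≠ 0) : orderOf (d.z e) = 2 :=
  orderOf_two_of_mul_self (f.z_sq e) fun e' => h (f.hm.inj e').2.2
theorem zu (e a b c : F4) : Commute (d.z e) (d.u a b c) := by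
  rw [Commute, SemiconjBy, f.hm.mul, f.hm.mul]; congr 1 <;> ring
theorem uz (e a b c : F4) : d.u a b c * d.z e = d.u a b (c + e) := by rw [f.hm.mul]; simp
theorem el₁ : El d.V₁ := fun x hx => by
  obtain ⟨a, c, rfl⟩ := f.mem_V₁.1 hx; rw [f.uu, mul_zero, f.z0]
theorem el₂ : El d.V₂ := fun x hx => by
  obtain ⟨a, c, rfl⟩ := f.mem_V₂.1 hx; rw [f.uu, zero_mul, f.z0]
theorem hz (e : F4) : d.h * d.z e * d.h⁻¹ = d.z (F4.w * e) := by rw [f.hu, mul_zero]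

theorem nK : d.N = nor d.K := f.std.2.2.2
theorem te : IsTightlyEmbedded d.K := f.std.2.1
omit f in
theorem comm (hk : k ∈ d.K) (ha : a ∈ d.A) : Commute k a := (hk a ha).symm
omit f in
theorem K_le : d.K ≤ d.N := centralizer_le_normalizer _
omit f in
theorem A_le : d.A ≤ d.N := le_normalizer
omit f in
theorem cjK (hg : g ∈ d.N) (hk : k ∈ d.K) : g * k * g⁻¹ ∈ d.K :=
  conj_mem_of_mem_normalizer (normalizer_le_normalizer_centralizer _ hg) hk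
omit f in
theorem mem_KA : x ∈ d.K ⊔ d.A ↔ ∃ k ∈ d.K, ∃ a ∈ d.A, k * a = x :=
  ⟨mem_sup_of_commutator_eq_bot (commutator_eq_bot_iff_le_centralizer.2 le_rfl),
    by rintro ⟨k, hk, a, ha, rfl⟩; exact mul_mem_sup hk ha⟩

theorem eq_one {n : ℕ} (ha : a ∈ d.A) (hk : a ∈ d.K) (h : a ^ 2 ^ n = 1) : a = 1 :=
  eq_one_of_odd (f.zodd a ha hk) h

theorem u_of_K {a b c : F4} (h : d.u a b c ∈ d.K) : a = 0 ∧ b = 0 ∧ c = 0 :=
  f.hm.inj (f.eq_one (n := 2) (f.uA ..) h (by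
    rw [show 2 ^ 2 = 2 * 2 from rfl, pow_mul, f.hm.sq, pow_two, f.z_sq]))

variable [Finite G]

theorem nor_of (hk : k ∈ d.K) (h2 : orderOf k = 2) (h : g * k * g⁻¹ ∈ d.K) : g ∈ d.N :=
  std_mem_normalizer' f.std h2 hk h

theorem cen_le (hk : k ∈ d.K) (h2 : orderOf k = 2) : cen1 k ≤ d.N := std_centralizer_le f.std h2 hk

omit [Finite G] in
/-- Conjugates of `K` and of `A` correspond. -/
theorem cjA (h : cj g d.K = cj k d.K) : cj g d.A = cj k d.A := by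
  have h1 : k⁻¹ * g ∈ d.N := f.nK ▸ cj_eq_self_iff.1 (by rw [← cj_cj, h, cj_inv_cj])
  rw [← cj_inj (g := k⁻¹), cj_cj, cj_eq_self h1, cj_inv_cj]

omit [Finite G] in
theorem el_le (h : E ≤ d.U) (he : El E) : E ≤ d.V₁ ∨ E ≤ d.V₂ := by
  by_contra hn
  rw [not_or, SetLike.not_le_iff_exists, SetLike.not_le_iff_exists] at hn
  obtain ⟨⟨x, hx, h1⟩, y, hy, h2⟩ := hn
  obtain ⟨a, b, c, rfl⟩ := f.mem_U.1 (h hx)
  obtain ⟨a', b', c', rfl⟩ := f.mem_U.1 (h hy)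
  have hb : b ≠ 0 := fun e => h1 (e ▸ f.uV₁ a c)
  have ha : a' ≠ 0 := fun e => h2 (e ▸ f.uV₂ b' c')
  have e1 := (f.hm.inj (f.uu .. ▸ he _ hx)).2.2
  have e2 := (f.hm.inj (f.uu .. ▸ he _ hy)).2.2
  have e3 := he _ (mul_mem hx hy)
  rw [f.hm.mul, f.uu] at e3
  have e4 := (f.hm.inj e3).2.2
  rw [(mul_eq_zero.1 e1).resolve_right hb, (mul_eq_zero.1 e2).resolve_left ha] at e4
  simp [ha, hb] at e4

theorem eq_V (h : E ≤ d.U) (he : El E) (hc : Nat.card E = 16) : E = d.V₁ ∨ E = d.V₂ :=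
  (f.el_le h he).imp (fun h => eq_of_le_of_card_ge h (by rw [hc, f.card_V₁]))
    fun h => eq_of_le_of_card_ge h (by rw [hc, f.card_V₂])

omit [Finite G] in
theorem V_ne : d.V₁ ≠ d.V₂ := fun e => f.hm.not_le (f.V₁_eq ▸ f.V₂_eq ▸ e.le)

theorem perm (hy : y ∈ nor d.U) :
    (cj y d.V₁ = d.V₁ ∧ cj y d.V₂ = d.V₂) ∨ (cj y d.V₁ = d.V₂ ∧ cj y d.V₂ = d.V₁) := by
  have h1 := f.eq_V (cj_le_of_le f.V₁_le hy) (f.el₁.cj y) (by rw [card_cj, f.card_V₁])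
  have h2 := f.eq_V (cj_le_of_le f.V₂_le hy) (f.el₂.cj y) (by rw [card_cj, f.card_V₂])
  have h3 : cj y d.V₁ ≠ cj y d.V₂ := mt cj_inj.1 f.V_ne
  rcases h1 with h1 | h1 <;> rcases h2 with h2 | h2
  exacts [absurd (h1.trans h2.symm) h3, .inl ⟨h1, h2⟩, .inr ⟨h1, h2⟩, absurd (h1.trans h2.symm) h3]

theorem norU_le : nor d.U ≤ nor d.Z := fun y hy => cj_eq_self_iff.1 (by
  rw [← f.inf_eq, cj_inf]
  rcases f.perm hy with h | h <;> rw [h.1, h.2]
  exact inf_comm ..)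

/-- A `2`-subgroup of `A` is conjugate into `U`. -/
theorem cj_le (h : E ≤ d.A) (h2 : IsPGroup 2 E) : ∃ a ∈ d.A, cj a E ≤ d.U :=
  haveI := Fact.mk Nat.prime_two
  f.syl.exists_cj_le h2 h

omit [Finite G]

theorem swap_U : d.swap.U = d.U := by
  rw [f.U_eq, ← f.hm.swap_S]; exact closure_eq f.hm.swap.S
theorem swap_V₁ : d.swap.V₁ = d.V₂ := by
  rw [f.V₂_eq, ← f.hm.swap_A]; exact closure_eq f.hm.swap.A
theorem swap_V₂ : d.swap.V₂ = d.V₁ := by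
  rw [f.V₁_eq, ← f.hm.swap_B]; exact closure_eq f.hm.swap.B
omit f in
theorem swap_Z : d.swap.Z = d.Z := by simp only [Dt.Z, swap_z]

theorem swap : Fr0 d.swap where
  std := f.std
  zodd := f.zodd
  hm := f.hm.swap
  uA _ _ _ := f.uA ..
  syl := f.swap_U ▸ f.syl
  hA := f.hA
  h3 := f.h3
  hu a b c := by
    simp only [swap_u, swap_h, f.hu]; congr 1; revert a b c; decide
  nA := f.mA
  nn := f.mm
  nu a c := by simp [f.mu]
  mA := f.nA
  mm := f.nn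
  mu a c := by simp [f.nu]
  nh := f.mh
  mh := f.nh
  nv := by simpa only [swap_u, swap_n, swap_K, zero_mul, add_zero] using f.mv
  mv := by simpa only [swap_u, swap_m, swap_K, mul_zero, add_zero] using f.nv
  nm := by
    have := cjK (A_le f.mA) f.nm
    rwa [← conj_pow, ← mul_assoc, inv_eq_of_mul_eq_one_right f.mm, mul_assoc (_ * _), f.mm,
      mul_one] at this
  br₁ x := by simpa only [swap_u, swap_n, swap_m, swap_K, zero_mul, add_zero] using f.br₂ x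
  br₂ x := by simpa only [swap_u, swap_n, swap_m, swap_K, mul_zero, add_zero] using f.br₁ x
  gen B h1 h2 h3 := f.gen B (f.swap_U ▸ h1) h3 h2
  cenz x hx h := by
    obtain ⟨k, hk, a, b, c, e⟩ := f.cenz x hx (by simpa only [swap_z] using h)
    exact ⟨k, hk, b, a, c + b * a, by simpa [add_assoc] using e⟩

omit f in
theorem ac_swap {l k : F4} {σ τ : Bool} (h : d.Ac g k l σ τ) : d.swap.Ac g l k σ τ := fun a b c => by
  rw [swap_u, h]
  clear h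
  cases τ <;> simp only [swap_u, if_true, if_false, Bool.false_eq_true] <;> congr 1 <;>
    revert a b c l k σ <;> decide

omit f in
theorem ac_swap' {l k : F4} {σ τ : Bool} (h : d.swap.Ac g l k σ τ) : d.Ac g k l σ τ := by
  have := ac_swap (d := d.swap) h
  intro a b c
  have e := this a b c
  simp only [swap_u] at e
  rw [show c + a * b + b * a = c by clear e; revert a b c; decide] at e
  rw [e]
  clear e this h
  cases τ <;> simp only [if_true, if_false, Bool.false_eq_true] <;> congr 1 <;>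
    revert a b c l k σ <;> decide

theorem ac_z {l k : F4} {σ τ : Bool} (e : F4) (h : d.Ac g l k σ τ) : d.Ac (d.z e * g) l k σ τ :=
  fun a b c => by
  rw [show d.z e * g * d.u a b c * (d.z e * g)⁻¹ = d.z e * (g * d.u a b c * g⁻¹) * (d.z e)⁻¹ by group,
    h]
  split_ifs <;> rw [(f.zu ..).eq, mul_inv_cancel_right]

end Fr0

theorem Fr.swap (f : Fr d) : Fr d.swap where
  toFr0 := f.toFr0.swap
  cls := swap_z (d := d) 1 ▸ f.cls
  dec := f.dec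
  norU g hg e he e' h := f.swap_U ▸ f.norU g hg e he e' (by simpa only [swap_z] using h)
  aut g hg h := by
    obtain ⟨a, b, l, k, σ, τ, h1, h2, h3⟩ := f.aut g hg (f.swap_U ▸ h)
    refine ⟨b, a, k, l, σ, τ, h2, h1, Fr0.ac_swap ?_⟩
    have := f.ac_z (b * a) h3
    rwa [← mul_assoc, (f.zu ..).eq, f.uz] at this
  ker g hg h := by
    simp only [swap_z]
    exact f.ker g hg fun a b c => by simpa [add_assoc] using h b a (c + b * a)
  inn g hg l k σ τ h := by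
    obtain ⟨h1, h2⟩ := f.inn g hg _ _ _ _ (Fr0.ac_swap' h)
    exact ⟨h1.symm, h2⟩
  tri₁ g hg h1 h2 := by
    obtain ⟨k, hk, a, b, c, e⟩ := f.tri₂ g hg (by simpa only [swap_z] using h1) (by simpa using h2)
    exact ⟨k, hk, b, a, c + b * a, by simpa [add_assoc] using e⟩
  tri₂ g hg h1 h2 := by
    obtain ⟨k, hk, a, b, c, e⟩ := f.tri₁ g hg (by simpa only [swap_z] using h1) (by simpa using h2)
    exact ⟨k, hk, b, a, c + b * a, by simpa [add_assoc] using e⟩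
  rkin E h1 h2 := by
    obtain ⟨a, ha, h⟩ := f.rkin E h1 h2
    exact ⟨a, ha, by rw [f.swap_V₁, f.swap_V₂]; exact h.symm⟩
  rkout := f.rkout
  rk := f.rk
  out4 := f.out4
  osq := f.osq
  oc := f.oc
  sqd := f.sqd
  two := f.two

/-- An element of `K A` normalizing `U` normalizes `V₁` and `V₂`. -/
theorem Fr.inn_V [Finite G] (f : Fr d) (hg : g ∈ d.K ⊔ d.A) (h : g ∈ nor d.U) :
    cj g d.V₁ = d.V₁ ∧ cj g d.V₂ = d.V₂ := by
  obtain ⟨a, b, l, k, σ, τ, hl, -, h3⟩ := f.aut g (sup_le Fr0.K_le Fr0.A_le hg) h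
  obtain ⟨-, rfl, rfl⟩ := f.inn _ (mul_mem (mem_sup_right (f.uA ..)) hg) _ _ _ _ h3
  refine (f.perm h).resolve_right fun e => ?_
  obtain ⟨b', c', e'⟩ := f.mem_V₂.1 (e.1 ▸ conj_mem_cj (g := g) (f.uV₁ 1 0))
  have := h3 1 0 0
  rw [show d.u a b 0 * g * d.u 1 0 0 * (d.u a b 0 * g)⁻¹ =
    d.u a b 0 * (g * d.u 1 0 0 * g⁻¹) * (d.u a b 0)⁻¹ by group, ← e', f.hm.conj] at this
  exact hl (by simpa [fr] using (f.hm.ext this).1.symm)

namespace Pr
variable {big : Bool} {R : Subgroup G} {r : F4 → G} (p : Pr d big R r) {c : F4}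
include p

omit p in
theorem ph0 : Ph big 0 := .inr (.inl rfl)
omit p in
theorem ph1 : Ph big 1 := .inr (.inr rfl)
theorem r0 : r 0 = 1 := by simpa using p.add 0 0 ph0 ph0
theorem rr (h : Ph big c) : r c * r c = 1 := by rw [← p.add c c h h, F4.add_self, p.r0]
theorem rR (h : Ph big c) : r c ∈ R := (p.mem _).2 ⟨c, h, rfl⟩
theorem rK (h : Ph big c) : r c ∈ d.K := p.syl.le (p.rR h)
theorem ord (h : Ph big c) (h0 : c ≠ 0) : orderOf (r c) = 2 :=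
  orderOf_two_of_mul_self (p.rr h) fun e => h0 (p.inj c h e)
theorem el : El R := fun x hx => by obtain ⟨c, h, rfl⟩ := (p.mem x).1 hx; exact p.rr h
theorem swap : Pr d.swap big R r :=
  ⟨p.syl, p.mem, p.add, p.inj, p.noKI, by simpa only [swap_z, swap_K, swap_N] using p.tw⟩
theorem gd₁ (f : Fr0 d) : Gd d.K d.V₁ :=
  ⟨f.el₁, f.card_V₁, fun x hx => p.noKI x (f.U_le (f.V₁_le hx))⟩
theorem gd₂ (f : Fr0 d) : Gd d.K d.V₂ :=
  ⟨f.el₂, f.card_V₂, fun x hx => p.noKI x (f.U_le (f.V₂_le hx))⟩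

variable [Finite G]

/-- A `2`-element of `K` is conjugate in `K` to some `r c`. -/
theorem cj_r {n : ℕ} (hk : k ∈ d.K) (h : k ^ 2 ^ n = 1) :
    ∃ x ∈ d.K, ∃ c, Ph big c ∧ x * k * x⁻¹ = r c := by
  have := Fact.mk Nat.prime_two
  obtain ⟨x, hx, e⟩ := p.syl.exists_cj_le (isPGroup_zpowers h) (zpowers_le.2 hk)
  obtain ⟨c, hc, e'⟩ := (p.mem _).1 (e (conj_mem_cj (mem_zpowers k)))
  exact ⟨x, hx, c, hc, e'.symm⟩

theorem ki_mul (f : Fr d) (hk : k ∈ d.K) (h2 : orderOf k = 2) (ha : a ∈ d.A) (aa : a * a = 1) :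
    KI d.K (k * a) := by
  by_cases h1 : a = 1
  · exact ⟨by rwa [h1, mul_one], 1, by rwa [h1, mul_one, cj_one]⟩
  obtain ⟨x, hx, c, hc, e⟩ := p.cj_r (n := 1) hk (by rw [pow_one, ← h2, pow_orderOf_eq_one])
  have h0 : c ≠ 0 := fun h => by
    rw [← orderOf_conj' x, e, h, p.r0, orderOf_one] at h2; cases h2
  obtain ⟨b, hb, rfl⟩ := f.cls a ha (orderOf_two_of_mul_self aa h1)
  obtain ⟨g, hg, tw⟩ := p.tw
  have k1 : KI d.K (r c * d.z c) := ⟨orderOf_two_of_mul_self (by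
      rw [← pow_two, (Fr0.comm (p.rK hc) (f.uA ..)).mul_pow, pow_two, pow_two, p.rr hc, f.z_sq, one_mul])
    fun h => h0 (f.u_of_K (show d.z c ∈ d.K by
      rw [eq_inv_of_mul_eq_one_right h]; exact inv_mem (p.rK hc))).2.2, g, tw c hc⟩
  have k2 : ∀ e, KI d.K (r c * d.z e) → KI d.K (r c * d.z (F4.w * e)) := fun e h => by
    have := KI.cj h d.h
    rwa [← conj_mul, ← (Fr0.comm (p.rK hc) f.hA).eq, mul_inv_cancel_right, f.hz] at this
  have k3 : KI d.K (r c * d.z 1) := by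
    rcases (by decide : ∀ c : F4, c ≠ 0 → c = 1 ∨ F4.w * c = 1 ∨ F4.w * (F4.w * c) = 1) c h0 with
      h | h | h
    exacts [h ▸ k1, h ▸ k2 _ k1, h ▸ k2 _ (k2 _ k1)]
  have k4 := KI.cj k3 b
  rw [← conj_mul, ← (Fr0.comm (p.rK hc) hb).eq, mul_inv_cancel_right] at k4
  rwa [← ki_cj (g := x), ← conj_mul, e, (Fr0.comm hx ha).eq, mul_inv_cancel_right]

/-- An involution of `K A` lies in a conjugate of `K` or in `A`. -/
theorem mem_A (f : Fr d) (hs : s ∈ d.K ⊔ d.A) (ss : s * s = 1) (h : ¬ KI d.K s) : s ∈ d.A := by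
  obtain ⟨k, hk, a, ha, kk, aa, rfl⟩ := f.dec s hs ss
  by_cases h1 : k = 1
  · rwa [h1, one_mul]
  · exact absurd (p.ki_mul f hk (orderOf_two_of_mul_self kk h1) ha aa) h

theorem K0 (f : Fr d) (hV : V ≤ d.N) (h : Gd d.K V) : V ≤ d.A := by
  have h1 : V ⊓ d.K = ⊥ := eq_bot_iff.2 fun x hx => by
    by_contra h0
    exact h.2.2 x hx.1 ⟨orderOf_two_of_mul_self (h.1 x hx.1) h0, 1, by rw [cj_one]; exact hx.2⟩
  have h2 : V ≤ d.K ⊔ d.A := by
    by_contra hn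
    have := f.rkout V hV h.1 hn
    rw [h1, h.2.1, card_bot] at this
    omega
  exact fun x hx => p.mem_A f (h2 hx) (h.1 x hx) (h.2.2 x hx)

theorem K0' (f : Fr d) (ht : t ∈ cj g d.K) (h2 : orderOf t = 2) (hV : V ≤ cen1 t) (h : Gd d.K V) :
    V ≤ cj g d.A := by
  refine le_cj_iff.2 (p.K0 f ?_ (h.cj _))
  rintro _ ⟨v, hv, rfl⟩
  refine f.cen_le (mem_cj.1 ht) (by simpa using (orderOf_conj' g⁻¹ t).trans h2) (mc1.2 ?_)
  simpa using (mc1.1 (hV hv)).map (MulAut.conj g⁻¹)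

/-- If an involution of `K ^ g` centralizes `U`, then `g` may be taken in `N(U)`. -/
theorem exists_norU (f : Fr d) (ht : t ∈ cj g d.K) (h2 : orderOf t = 2) (hU : d.U ≤ cen1 t) :
    ∃ y ∈ nor d.U, cj y d.A = cj g d.A ∧ cj y d.K = cj g d.K := by
  have h1 : d.U ≤ cj g d.A := by
    rw [← f.sup_eq]
    exact sup_le (p.K0' f ht h2 (f.V₁_le.trans hU) (p.gd₁ f.toFr0))
      (p.K0' f ht h2 (f.V₂_le.trans hU) (p.gd₂ f.toFr0))
  have h3 : cj g⁻¹ d.U ≤ d.A := le_cj_iff.1 h1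
  obtain ⟨a, ha, e⟩ := f.cj_le h3 (H98.isPGroup_cj g⁻¹ f.syl.isPGroup)
  rw [cj_cj] at e
  have h4 : a * g⁻¹ ∈ nor d.U := mem_normalizer_of_cj_le e
  have h5 : (a * g⁻¹)⁻¹ = g * a⁻¹ := by group
  refine ⟨_, inv_mem h4, ?_, ?_⟩
  · rw [h5, ← cj_cj, cj_eq_self_of_mem (inv_mem ha)]
  · rw [h5, ← cj_cj, cj_eq_self (f.nK.le (Fr0.A_le (inv_mem ha)))]

theorem noswap (f : Fr d) (ht : t ∈ cj g d.K) (h2 : orderOf t = 2) (hU : d.U ≤ cen1 t)
    (hx : x ∈ cj g d.A) (hn : x ∈ nor d.U) : cj x d.V₁ = d.V₁ := by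
  obtain ⟨y, hy, e, -⟩ := p.exists_norU f ht h2 hU
  have h1 := f.inn_V (mem_sup_right (mem_cj.1 (e ▸ hx))) (mul_mem (mul_mem (inv_mem hy) hn) hy)
  rw [← cj_cj, ← cj_cj, ← cj_cj, ← cj_cj, ← cj_inj (g := y), ← cj_inj (g := y) (K := d.V₂),
    cj_cj_inv, cj_cj_inv] at h1
  rcases f.perm hy with h | h
  · simpa only [h.1] using h1.1
  · simpa only [h.2] using h1.2

end Pr

namespace Od
variable {R O : Subgroup G} (o : Od d R O)
include o

theorem swap : Od d.swap R O := ⟨o.le, o.odd, o.mem, o.dec⟩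
theorem ord (h : x ∈ O) : Odd (orderOf x) := o.odd.of_dvd_nat (O.orderOf_dvd_natCard h)
theorem eq_one {n : ℕ} (h : x ∈ O) (h2 : x ^ 2 ^ n = 1) : x = 1 := eq_one_of_odd (o.ord h) h2
theorem cA (h : x ∈ O) (ha : a ∈ d.A) : Commute x a := Fr0.comm (o.le h).1 ha
theorem cR (h : x ∈ O) (ha : a ∈ R) : Commute x a := ((o.le h).2 a ha).symm
theorem zA (f : Fr0 d) (hR : R ≤ d.K) (ha : a ∈ d.A) (hk : a ∈ d.K) : a ∈ O :=
  o.mem a ⟨hk, fun _ hx => (Fr0.comm (hR hx) ha).eq⟩ (f.zodd a ha hk)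

/-- A `2`-element `x * y` with `x ∈ O` commuting with the `2`-element `y` has `x = 1`. -/
theorem two_elt {n m : ℕ} (h : x ∈ O) (hc : Commute x y) (h1 : y ^ 2 ^ n = 1)
    (h2 : (x * y) ^ 2 ^ m = 1) : x = 1 := o.eq_one (n := n + m) h (by
  have e1 : y ^ 2 ^ (n + m) = 1 := by rw [pow_add, pow_mul, h1, one_pow]
  have e2 : (x * y) ^ 2 ^ (n + m) = 1 := by rw [pow_add, mul_comm (2 ^ n), pow_mul, h2, one_pow]
  rwa [hc.mul_pow, e1, mul_one] at e2)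

theorem nor_le (f : Fr0 d) [Finite G] {big : Bool} {r : F4 → G} (p : Pr d big R r) :
    nor R ≤ d.N ⊓ nor O := fun g hg => by
  have h1 : g ∈ d.N := f.nor_of (p.rK Pr.ph1) (p.ord Pr.ph1 one_ne_zero)
    (p.syl.le (conj_mem_of_mem_normalizer hg (p.rR Pr.ph1)))
  refine ⟨h1, mem_normalizer_of_cj_le ?_⟩
  rintro _ ⟨x, hx, rfl⟩
  exact o.mem _ ⟨Fr0.cjK h1 (o.le hx).1, conj_mem_of_mem_normalizer
    (normalizer_le_normalizer_centralizer _ hg) (o.le hx).2⟩ ((orderOf_conj' g x).symm ▸ o.ord hx)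

end Od

end H88.TE
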