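/- TE2 (blueprints/TE2.md, part 2): the branch with a four-group `R`, leading to `Suz`. -/
import Cfsg.Agent.H88.TESpec
import Cfsg.Prelude.Def_Spor_Suz

set_option autoImplicit false

namespace H88.TE

open Subgroup Cfsg H98 H1.Gold H86.L34 H6 H88.AS

universe u
variable {G : Type u} [Group G]

/-- Coordinates `(c, d, a, b)` on `P / Z`. -/
abbrev V4 : Type := F4 × F4 × F4 × F4

def qf (x : V4) : F4 := x.1 * x.2.1 + x.2.2.1 * x.2.2.2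
def bf (x y : V4) : F4 := x.1 * y.2.1 + x.2.1 * y.1 + x.2.2.1 * y.2.2.2 + x.2.2.2 * y.2.2.1
def W₁ (y : F4) (x : V4) : V4 := (x.1 + y ^ 2 * x.2.2.2, x.2.1 + y * x.2.2.2,
  x.2.2.1 + x.1 * y + y ^ 2 * x.2.1 + y ^ 3 * x.2.2.2, x.2.2.2)
def W₂ (y : F4) (x : V4) : V4 := (x.1 + y ^ 2 * x.2.2.1, x.2.1 + y * x.2.2.1, x.2.2.1,
  x.2.2.2 + x.1 * y + y ^ 2 * x.2.1 + y ^ 3 * x.2.2.1)
def Gm (x : V4) : V4 := (x.1, x.2.1, x.2.2.2, x.2.2.1)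
def G0 (x : V4) : V4 := (x.2.1, x.1, x.2.2.1, x.2.2.2)
def Rho (ν : F4) (x : V4) : V4 := (ν * x.1, ν ^ 2 * x.2.1, x.2.2.1, x.2.2.2)
def Xs (x : V4) : V4 := (x.2.1 ^ 2, x.1 ^ 2, x.2.2.1 ^ 2, x.2.2.2 ^ 2)

/-- The fifteen vectors on the five conjugates of `V₁ / Z`. -/
def VT (x : V4) : Prop := x ≠ 0 ∧ ((x.1 = 0 ∧ x.2.1 = 0 ∧ x.2.2.1 * x.2.2.2 = 0) ∨
  (x.2.2.1 = x.2.2.2 ∧ x.2.2.1 ≠ 0 ∧ x.2.1 ≠ 0 ∧ x.1 * x.2.2.1 = x.2.1 ^ 2))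

instance : DecidablePred VT := fun _ => by unfold VT; infer_instance

structure SD (G : Type u) [Group G] extends Dt G where
  R : Subgroup G
  O : Subgroup G
  r : F4 → G
  β : F4 → G

namespace SD
variable (s : SD G)

def w₁ (y : F4) : G := s.n * s.β y * s.n⁻¹
def w₂ (y : F4) : G := s.m * s.β y * s.m⁻¹
def p (x : V4) (e : F4) : G := s.r x.1 * s.β x.2.1 * s.u x.2.2.1 x.2.2.2 e
def P : Subgroup G := closure {g | ∃ x e, s.p x e = g}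
def Y : Subgroup G := closure {g | ∃ y, s.w₁ y = g ∨ s.w₂ y = g} ⊔ s.P
def F₁ : Subgroup G := closure {g | ∃ y c d a e, s.w₁ y * s.p (c, d, a, 0) e = g}
/-- `g` induces `φ` on `P / Z`. -/
def Act (g : G) (φ : V4 → V4) : Prop := ∀ x, ∃ e, g * s.p x 0 * g⁻¹ = s.p (φ x) e
abbrev M : Subgroup G := cen s.Z ⊓ nor s.P

end SD

structure Sz (s : SD G) : Prop where
  fr : Fr s.toDt
  pr : Pr s.toDt true s.R s.r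
  loc : Loc s.toDt true s.R s.r s.O s.β 1 1

/-- Involutions of `P` and the stabilizer of `r c` modulo `Z`. -/
structure SA (s : SD G) : Prop where
  ki : ∀ x e, KI s.K (s.p x e) ↔ qf x = 0 ∧ x ≠ 0 ∧ ¬ VT x
  kc : ∀ x e, KI s.K (s.p x e) → ∃ y ∈ s.Y, y * s.r 1 * y⁻¹ = s.p x e
  vt : ∀ x e, VT x → ∃ y ∈ s.Y, ∃ a e', y * s.p x e * y⁻¹ = s.u a 0 e'
  cr : ∀ g ∈ cen s.Z, ∀ c ≠ 0, ∀ e, g * s.r c * g⁻¹ = s.r c * s.z e →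
    g ∈ nor s.P ∧ g ∈ nor s.O ∧ (s.Act g id ∨ s.Act g Gm)
  ker : ∀ g ∈ cen s.Z, s.Act g id → ∃ o ∈ s.O, ∃ x e, g = o * s.p x e
  gsq : ∀ g ∈ cen s.Z, s.Act g Gm → g * g = 1 → s.Z ≤ sqs (cen1 g)
  gki : ∀ g ∈ cen s.Z, s.Act g Gm → g * g = 1 →
    ∃ k t, t ∈ cj k s.K ∧ orderOf t = 2 ∧ Commute t g ∧ g ∉ cj k s.A
  odd : ∀ X ≤ cen1 (s.z 1), Odd (Nat.card X) → s.R ⊔ s.U ≤ nor X → X ≤ s.O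

/-- The action of `M = C(Z) ⊓ N(P)` on `P / Z`. -/
structure SB (s : SD G) : Prop where
  nO : s.M ≤ nor s.O
  lin : ∀ g ∈ s.M, ∃ φ : V4 →ₗ[F4] V4, s.Act g φ ∧ ∀ x, φ (Xs x) = Xs (φ x)
  inv : ∀ g ∈ s.M, g * g ∈ s.Z → ∃ y ∈ s.Y, s.Act (y * g * y⁻¹) id ∨
    (∃ a ≠ 0, s.Act (y * g * y⁻¹) (W₁ a)) ∨ s.Act (y * g * y⁻¹) Gm
  wa : ∀ g ∈ cen s.Z, ∀ a, s.Act g (W₁ a) → (∃ k, g ^ 2 ^ k = 1) → ∃ x e, g = s.w₁ a * s.p x e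
  wc : ∀ g ∈ cen s.Z, ∀ a ≠ 0, s.Act g (W₁ a) → g * g ∈ s.Z →
    ∃ t ∈ s.P, ∃ e, t * g * t⁻¹ = s.w₁ a * s.z e
  wk : ∀ a ≠ 0, ∀ e, KI s.K (s.w₁ a * s.z e)
  stab : ∀ g ∈ s.M, g ∈ nor s.V₁ → ∃ a ν, ν ≠ 0 ∧
    (s.Act g (W₁ a ∘ Rho ν) ∨ s.Act g (W₁ a ∘ Rho ν ∘ G0))
  rho : ∀ ν ≠ 0, ∃ y ∈ s.Y, s.Act y (Rho ν)
  o2 : ∀ T ≤ s.M, IsPGroup 2 T → s.Y ≤ nor T → T ≤ s.P
  syl : ∀ T ≤ s.M, IsPGroup 2 T → (∀ a, s.w₁ a ∈ T) → T ≤ nor s.V₁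
  k1 : ∀ t ∈ s.M, KI s.K t → ∃ k, t ∈ cj k s.K ∧ s.Z ≤ cj k s.A
  cl : ∀ t ∈ s.M, t * t = 1 → (∃ y ∈ s.Y, ∃ a e, y * t * y⁻¹ = s.u a 0 e) ∨
    ∃ k t', t' ∈ cj k s.K ∧ orderOf t' = 2 ∧ Commute t' t ∧ t ∉ cj k s.A

/-- The normalizer of `V₁`. -/
structure SX (s : SD G) (x j : G) : Prop where
  cV : ∀ g ∈ cen s.V₁, ∃ a ν, ν ≠ 0 ∧ s.Act g (W₁ a ∘ Rho ν)
  nF : nor s.V₁ ≤ nor s.F₁
  hyp : ∀ g ∈ nor s.V₁, Commute g (s.z 1) → ∀ a e, (a = 0 ∨ a = 1) →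
    ∃ a' e', (a' = 0 ∨ a' = 1) ∧ g * s.u a 0 e * g⁻¹ = s.u a' 0 e'
  xO : x ∈ cen s.O
  xa : s.Act x Xs
  xv : ∀ a e, x * s.u a 0 e * x⁻¹ = s.u (a ^ 2) 0 (e ^ 2 + a)
  jO : j ∈ cen s.O
  j₁ : j * s.z 1 * j⁻¹ = s.z 1
  j₂ : j * s.z F4.w * j⁻¹ = s.u 1 0 F4.v
  j₃ : j * s.u 1 0 0 * j⁻¹ = s.z F4.v
  j₄ : j * s.u F4.w 0 0 * j⁻¹ = s.u F4.w 0 F4.w

/-- The extraspecial group. -/
structure SQ (s : SD G) (j : G) (Q : Subgroup G) : Prop where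
  ex : IsExtraspecial 2 Q
  card : Nat.card Q = 2 ^ 7
  zc : ∀ q ∈ Q, (∀ q' ∈ Q, Commute q q') → q = 1 ∨ q = s.z 1
  sq : ∀ q ∈ Q, q * q = 1 ∨ q * q = s.z 1
  cm : ∀ q ∈ Q, ∀ q' ∈ Q, q * q' * q⁻¹ = q' ∨ q * q' * q⁻¹ = q' * s.z 1
  v0 : ∀ a e, (a = 0 ∨ a = 1) → s.u a 0 e ∈ Q
  le : Q ≤ cen s.O ⊓ nor s.Z ⊓ nor s.V₁
  mv : ∃ x ∈ Q, x * s.z F4.w * x⁻¹ = s.z F4.v
  nZ : nor s.Z ⊓ cen1 (s.z 1) ≤ nor Q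
  jQ : j ∈ nor Q
  tr : ∀ v ∈ Q, v * v = 1 → v ≠ 1 → v ≠ s.z 1 → ∃ g ∈ nor Q, g * s.z F4.w * g⁻¹ = v
  gen : Q ≤ closure {v | v ∈ Q ∧ v * v = 1}
  cq : ∀ a ∈ nor s.Z ⊓ cen1 (s.z 1), (∀ q ∈ Q, a * q * a⁻¹ = q ∨ a * q * a⁻¹ = q * s.z 1) →
    ∃ o ∈ s.O, ∃ q ∈ Q, a = o * q
  five : ∃ f ∈ nor Q, (∀ q ∈ Q, Commute (f ^ 5) q) ∧ ∃ Q₀ ≤ Q,
    (∀ a ∈ Q, ∀ b ∈ Q, a ∈ Q₀ ∨ b ∈ Q₀ ∨ a * b ∈ Q₀) ∧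
    ∀ q ∈ Q₀, (f * q * f⁻¹ = q ∨ f * q * f⁻¹ = q * s.z 1) → q * q = 1

/-- The centralizer of `z 1`. -/
structure SE (s : SD G) (Q S : Subgroup G) : Prop where
  syl : IsSyl 2 S ⊤
  le : S ≤ nor s.Z ⊓ cen1 (s.z 1)
  big : 2 ^ 13 ∣ Nat.card S
  cz : cen1 (s.z 1) ≤ nor Q
  fus : ∀ v ∈ S, IsConj (s.z 1) v → ∃ g ∈ cen s.O, g * s.z 1 * g⁻¹ = v

def JobS1 : Prop := ∀ (G : Type u) [Group G] [Finite G] (d : Dt G) (R : Subgroup G) (r : F4 → G)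
  (O : Subgroup G) (β : F4 → G) (γ₁ γ₂ : F4), Fr d → Pr d true R r → Loc d true R r O β γ₁ γ₂ →
  γ₁ * γ₂ = 1

def JobS2 : Prop := ∀ (G : Type u) [Group G] [Finite G] (s : SD G), Sz s → SA s

def JobS3 : Prop := ∀ (G : Type u) [Group G] [Finite G] (s : SD G), Sz s → SA s → SB s

def JobS4 : Prop := ∀ (G : Type u) [Group G] [Finite G] (s : SD G), Sz s → SA s → SB s →
  nor s.Z ≤ nor s.P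

def JobS5 : Prop := ∀ (G : Type u) [Group G] [Finite G] (s : SD G), Sz s → SA s → SB s →
  nor s.Z ≤ nor s.P → ∃ x j, SX s x j

def JobS6 : Prop := ∀ (G : Type u) [Group G] [Finite G] (s : SD G) (x j : G), Sz s → SA s → SB s →
  nor s.Z ≤ nor s.P → SX s x j → ∃ Q, SQ s j Q

def JobS7 : Prop := ∀ (G : Type u) [Group G] [Finite G] (s : SD G) (x j : G) (Q : Subgroup G),
  Sz s → SA s → SB s → nor s.Z ≤ nor s.P → SX s x j → SQ s j Q → ∃ S, SE s Q S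

def JobS8 : Prop := ∀ (G : Type u) [Group G] [Finite G] [IsSimpleGroup G] (s : SD G) (j : G)
  (Q S : Subgroup G), ¬ IsMulCommutative G → Sz s → SQ s j Q → SE s Q S → Spor.IsoSuz G

end H88.TE
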