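/- TE2: the pair and the local relations. -/
import Cfsg.Agent.H88.TEBase
import Cfsg.Agent.H88.TESpec2
import Cfsg.Agent.H44.TeF1
import Cfsg.Agent.H44.TeF2c
import Cfsg.Agent.H25.TEP
import Cfsg.Agent.H84.TEL1
import Cfsg.Agent.H33.TEL2
import Cfsg.Agent.H48.ASG

set_option autoImplicit false

namespace H88.TE

open Subgroup Cfsg H98 H1.Gold H86.L34 H88.AS H14
open H6 (F4)

universe u
variable {G : Type u} [Group G] {d : Dt G} {big : Bool} {R O : Subgroup G} {r β : F4 → G}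
  {γ γ₁ γ₂ : F4}

theorem ex_pair [Finite G] {A : Subgroup G} (hA : IsStandardSubgroup A) (hn : ¬ A.Normal)
    (hL : A ≤ normalClosure (cen A : Set G)) (h2 : H69.TwoRank (normalClosure (cen A : Set G))) :
    ∃ g ∉ nor A, ∃ s ∈ cj g (cen A) ⊓ nor A, orderOf s = 2 := by
  have nK : nor A = nor (cen A) := hA.2.2.2
  by_contra h
  rcases Cfsg.Agent.S1911.result _ hA.2.1 (fun g hg => Nat.not_even_iff_odd.1 fun e => by
    obtain ⟨s, hs, o⟩ := exists_involution_mem (even_iff_two_dvd.1 e)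
    exact h ⟨g, nK ▸ hg, s, nK ▸ hs, o⟩) with k | k
  · exact hn (normal_of_top_le_normalizer (by rw [← nor, nK]; exact (normalizer_eq_top _).ge))
  have hs : Group.IsSolvable _ := H99.se_isSolvable H82.hub k h2
  refine quasi_not_le_solvable hA.1 (H := ((nor (cen A)).subgroupOf
    (normalClosure (cen A : Set G))).map (normalClosure (cen A : Set G)).subtype)
    (Group.isSolvable_of_surjective (MonoidHom.subgroupMap_surjective _ _)) fun x hx =>
      ⟨⟨x, hL hx⟩, nK.le (le_normalizer hx), rfl⟩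

theorem Fr0.twoRank (f : Fr0 d) {X : Subgroup G} (h : d.A ≤ X) : H69.TwoRank X :=
  ⟨⟨d.z 1, h (f.uA ..)⟩, ⟨d.z F4.w, h (f.uA ..)⟩,
    fun e => absurd (f.hm.inj (congrArg Subtype.val e)).2.2 (by decide),
    fun e => absurd (f.hm.inj (congrArg Subtype.val e)).2.2 (by decide),
    fun e => absurd (f.z_inj (congrArg Subtype.val e)) (by decide),
    Subtype.ext (f.z_sq _), Subtype.ext (f.z_sq _), Subtype.ext (f.zu ..).eq⟩

theorem Pre.swap {b : F4 → G} (h : Pre d big R r O b) : Pre d.swap big R r O b :=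
  ⟨h.od.swap, h.zero, by simpa only [swap_z] using h.add, h.com, fun _ _ _ _ => h.bu ..,
    h.bO, by simpa only [swap_z] using h.br, by simpa only [swap_z, swap_h] using h.hb⟩

theorem exists_loc [Finite G] (f : Fr d) (p : Pr d big R r) :
    ∃ O β γ₁ γ₂, Loc d big R r O β γ₁ γ₂ := by
  obtain ⟨O, b, h⟩ := H84.TL.jobL1 G d big R r f p
  have sq := (H33.TE.jobL2 G d big R r O b f p h).1
  have bz : ∀ x e, Commute (b x) (d.z e) := fun x e => h.bu ..
  have Tz : ∀ x e, ∃ e', d.h * (b x * d.z e) * d.h⁻¹ = b (F4.w * x) * d.z e' := fun x e => by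
    obtain ⟨e', h'⟩ := h.hb x
    exact ⟨e' + F4.w * e, by rw [← conj_mul, h', f.hz, mul_assoc, f.zz]⟩
  obtain ⟨β, β0, hβ, bβ⟩ : ∃ β : F4 → G, β 0 = 1 ∧ (∀ x, d.h * β x * d.h⁻¹ = β (F4.w * x)) ∧
      ∀ x, ∃ e, β x = b x * d.z e := by
    obtain ⟨e1, h1⟩ := Tz 1 0
    obtain ⟨e2, h2⟩ := Tz (F4.w * 1) e1
    rw [f.z0, mul_one] at h1
    rw [← h1] at h2
    refine ⟨fun x => match x with
      | .o => 1 | .i => b 1 | .w => d.h * b 1 * d.h⁻¹ | .v => d.h * (d.h * b 1 * d.h⁻¹) * d.h⁻¹,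
      rfl, fun x => ?_, fun x => ?_⟩ <;> cases x
    exacts [by show _ * 1 * _ = 1; simp, rfl, rfl, by
      show d.h * (d.h * (d.h * b 1 * d.h⁻¹) * d.h⁻¹) * d.h⁻¹ = b 1
      rw [show d.h * (d.h * (d.h * b 1 * d.h⁻¹) * d.h⁻¹) * d.h⁻¹ = d.h ^ 3 * b 1 * (d.h ^ 3)⁻¹ by
        simp only [pow_succ, pow_zero]; group, f.h3]; simp,
      ⟨0, by rw [f.z0, mul_one]; exact h.zero.symm⟩, ⟨0, by rw [f.z0, mul_one]; rfl⟩, ⟨e1, h1⟩, ⟨e2, h2⟩]
  choose ε hε using bβ
  have mul : ∀ x y, ∃ e, β x * β y = β (x + y) * d.z e := fun x y => by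
    obtain ⟨e, he⟩ := h.add x y
    refine ⟨ε (x + y) + e + ε x + ε y, ?_⟩
    rw [hε, hε, hε, mul_assoc (b _), ← mul_assoc (d.z _), ← (bz y _).eq, mul_assoc (b y),
      ← mul_assoc (b x), he, mul_assoc, mul_assoc, f.zz, f.zz, f.zz]
    congr 2
    exact (by decide : ∀ e a c t : F4, e + (a + c) = t + (t + e + a + c)) _ _ _ _
  have com : ∀ x y, Commute (β x) (β y) := fun x y => by
    rw [hε, hε]
    exact ((h.com x y).mul_right (bz ..)).mul_left ((bz ..).symm.mul_right (f.zu ..))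
  have sq' : ∀ x, β x * β x = 1 := fun x => by
    rw [hε, ← pow_two, (bz ..).mul_pow, pow_two, pow_two, sq, f.z_sq, one_mul]
  have key : β 1 * β F4.w = β F4.v := by
    obtain ⟨e, he⟩ := mul 1 F4.w
    have cz : Commute (β F4.v) (d.z e) := by rw [hε]; exact (bz ..).mul_left (f.zu ..)
    have e1 : β 1 * β F4.w * β F4.v = d.z e := by
      rw [he, show (1 : F4) + F4.w = F4.v from rfl, cz.eq, mul_assoc, sq', mul_one]
    have e2 := f.hz e
    rw [← e1, ← conj_mul, ← conj_mul, hβ, hβ, hβ, show F4.w * 1 = F4.w from rfl,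
      show F4.w * F4.w = F4.v from rfl, show F4.w * F4.v = 1 from rfl,
      ((com F4.w 1).mul_left (com F4.v 1)).eq, ← mul_assoc, e1] at e2
    have : e = 0 := (by decide : ∀ e : F4, e = F4.w * e → e = 0) e (f.z_inj e2)
    rwa [this, f.z0, mul_one] at he
  have add : ∀ x y, β (x + y) = β x * β y := fun x y => by
    have k1 : β F4.w * β F4.v = β 1 := by
      rw [← key, ← mul_assoc, (com _ 1).eq, mul_assoc, sq', mul_one]
    have k2 : β 1 * β F4.v = β F4.w := by rw [← key, ← mul_assoc, sq', one_mul]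
    have l0 : ∀ y, β y = β 0 * β y := fun y => by rw [β0, one_mul]
    have r0 : ∀ y, β y = β y * β 0 := fun y => by rw [β0, mul_one]
    cases x <;> cases y
    exacts [l0 _, l0 _, l0 _, l0 _, r0 _, β0.trans (sq' _).symm, key.symm, k2.symm, r0 _,
      key.symm.trans (com _ _).eq, β0.trans (sq' _).symm, k1.symm, r0 _,
      k2.symm.trans (com _ _).eq, k1.symm.trans (com _ _).eq, β0.trans (sq' _).symm]
  have P : Pre d big R r O β := ⟨h.od, β0, mul, com, fun x a a' c => by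
      rw [hε]; exact (h.bu ..).mul_left (f.zu ..), fun x o ho => by
      rw [hε]; exact (h.bO x o ho).mul_left (h.od.cA ho (f.uA ..)).symm, fun x c hc => by
      rw [hε, mul_inv_rev, mul_assoc (b x), ← (Fr0.comm (p.rK hc) (f.uA ..)).eq, ← h.br x c hc]
      group, fun x => ⟨0, by rw [f.z0, mul_one, hβ]⟩⟩
  obtain ⟨γ₁, s₁⟩ := (H33.TE.jobL2 G d big R r O β f p P).2 add hβ
  obtain ⟨γ₂, s₂⟩ := (H33.TE.jobL2 G d.swap big R r O β f.swap p.swap P.swap).2 add hβ
  exact ⟨O, β, γ₁, γ₂, h.od, add, P.bu, P.bO, P.br, hβ, s₁, s₂⟩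

theorem Sd.small (s : Sd d false r β γ) : γ = 0 :=
  (by decide : ∀ γ : F4, (γ * 1 = 0 ∨ γ * 1 = 1) → (γ * F4.w = 0 ∨ γ * F4.w = 1) → γ = 0) γ
    ((s.ph 1).resolve_left (by decide)) ((s.ph _).resolve_left (by decide))

end H88.TE
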