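/- STD-H: the generic parts of the linear facts WR and ORB (blueprints/STDH.md, section 8). -/
import Cfsg.Agent.H99.WrSpec

set_option autoImplicit false

open Subgroup H98 H99.Wr

universe u

namespace H88.Wr

theorem ncard_eq_of_equiv {X Y : Type*} (e : X ≃ Y) {S : Set X} {T : Set Y}
    (h : ∀ x, x ∈ S ↔ e x ∈ T) : S.ncard = T.ncard := by
  rw [← Set.ncard_image_of_injective S e.injective]
  congr 1
  ext y
  constructor
  · rintro ⟨x, hx, rfl⟩; exact (h x).1 hx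
  · intro hy; exact ⟨e.symm y, (h _).2 (by simpa using hy), by simp⟩

section Grp
variable {V : Type u} [Group V]

/-- fixed vectors -/
def Fx (a : MulAut V) : Set V := {v | a v = v}

theorem Fx_conj (k a : MulAut V) : (Fx (k * a * k⁻¹)).ncard = (Fx a).ncard :=
  (ncard_eq_of_equiv k.toEquiv fun x => by simp [Fx]).symm

theorem Fx_pr (a b : MulAut V) : (Fx (pr a b)).ncard = (Fx a).ncard * (Fx b).ncard := by
  rw [← Set.ncard_prod]
  congr 1
  ext ⟨x, y⟩
  simp [Fx]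

theorem Fx_one : (Fx (1 : MulAut V)).ncard = Nat.card V := by
  rw [← Set.ncard_univ]; congr 1; ext x; simp [Fx]

theorem pr_inj {a b c d : MulAut V} (h : pr a b = pr c d) : a = c ∧ b = d :=
  ⟨MulEquiv.ext fun v => congrArg Prod.fst (DFunLike.congr_fun h (v, 1)),
    MulEquiv.ext fun v => congrArg Prod.snd (DFunLike.congr_fun h (1, v))⟩

theorem sw_inv : (sw V)⁻¹ = sw V := rfl

theorem pr_sw (a : MulAut V) : pr a a * sw V = sw V * pr a a := rfl

theorem pr_pow (a b : MulAut V) (n : ℕ) : pr a b ^ n = pr (a ^ n) (b ^ n) := by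
  induction n with
  | zero => rfl
  | succ n ih => rw [pow_succ, ih, pr_mul, pow_succ, pow_succ]

theorem sw_pr_pow (a : MulAut V) (n : ℕ) :
    (sw V * pr a a) ^ n = sw V ^ n * pr (a ^ n) (a ^ n) := by
  rw [(show Commute (sw V) (pr a a) from (pr_sw a).symm).mul_pow, pr_pow]

/-- the swap times a diagonal element is not diagonal -/
theorem sw_pr_ne [Nontrivial V] (a b c d : MulAut V) : sw V * pr a b ≠ pr c d := fun e => by
  obtain ⟨v, hv⟩ := exists_ne (1 : V)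
  have := congrArg Prod.fst (DFunLike.congr_fun e (v, 1))
  simp only [MulAut.mul_apply, pr_apply, sw_apply, map_one] at this
  exact hv (by simpa using this.symm)

theorem sw_odd {n : ℕ} (hn : Odd n) : sw V ^ n = sw V := by
  obtain ⟨m, rfl⟩ := hn
  rw [pow_succ, pow_mul, pow_two, sw_sw, one_pow, one_mul]

theorem nontrivial_of_ne {h : MulAut V} (h1 : h ≠ 1) : Nontrivial V := by
  by_contra hc
  rw [not_nontrivial_iff_subsingleton] at hc
  exact h1 (MulEquiv.ext fun v => Subsingleton.elim _ _)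

theorem WRp_conj {H : Subgroup (MulAut V)} {h k : MulAut V} (hk : k ∈ H) (w : WRp H h) :
    WRp H (k * h * k⁻¹) := by
  rintro Γ h1 h2 h3 h4 ⟨g, hg, e⟩
  refine w Γ h1 h2 h3 h4 ⟨pr k⁻¹ k⁻¹ * g, mul_mem (h2 _ (inv_mem hk)) hg, ?_⟩
  calc _ = pr k⁻¹ k⁻¹ * (g * sw V * g⁻¹) * (pr k⁻¹ k⁻¹)⁻¹ := by group
    _ = sw V * pr (k⁻¹ * (k * h * k⁻¹) * k⁻¹⁻¹) (k⁻¹ * (k * h * k⁻¹) * k⁻¹⁻¹) := by rw [e]; rfl
    _ = _ := by group

/-- the standing hypotheses of WR -/
structure Ctx (H : Subgroup (MulAut V)) (Γ : Subgroup (MulAut (V × V))) : Prop where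
  sw : sw V ∈ Γ
  pr : ∀ a ∈ H, pr a a ∈ Γ
  cen : ∀ g ∈ Γ, g * H99.Wr.sw V = H99.Wr.sw V * g →
    ∃ a ∈ H, g = H99.Wr.pr a a ∨ g = H99.Wr.sw V * H99.Wr.pr a a
  nf : ∀ g ∈ Γ, ∀ a ∈ H, g * H99.Wr.sw V * g⁻¹ ≠ H99.Wr.pr a a

/-- `b` maps the swap to `swap * h` and centralises `h` -/
structure Good (h : MulAut V) (Γ : Subgroup (MulAut (V × V))) (b : MulAut (V × V)) : Prop where
  mem : b ∈ Γ
  sw : b * sw V * b⁻¹ = sw V * pr h h
  pr : b * pr h h * b⁻¹ = pr h h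

variable {H : Subgroup (MulAut V)} {Γ : Subgroup (MulAut (V × V))} {h : MulAut V}
  {b : MulAut (V × V)}

theorem ncard_diag (a : MulAut V) :
    {w : V × V | sw V w = w ∧ (sw V * pr a a) w = w}.ncard = (Fx a).ncard := by
  rw [← Set.ncard_image_of_injective (Fx a) (f := fun v => (v, v)) fun _ _ e => congrArg Prod.fst e]
  congr 1
  ext ⟨x, y⟩
  simp only [Set.mem_setOf_eq, sw_apply, MulAut.mul_apply, pr_apply, Prod.mk.injEq, Set.mem_image,
    Fx]
  constructor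
  · rintro ⟨⟨rfl, -⟩, e, -⟩; exact ⟨_, e, rfl, rfl⟩
  · rintro ⟨v, e, rfl, rfl⟩; exact ⟨⟨rfl, rfl⟩, e, e⟩

/-- The swap lemma. -/
theorem Ctx.swap (c : Ctx H Γ)
    (cls : ∀ a ∈ H, a * a = 1 → (Fx a).ncard = (Fx h).ncard → ∃ k ∈ H, k * h * k⁻¹ = a)
    (hF : ∃ g ∈ Γ, g * H99.Wr.sw V * g⁻¹ = H99.Wr.sw V * H99.Wr.pr h h) : ∃ b, Good h Γ b := by
  obtain ⟨g, hg, e⟩ := hF
  have e0 : H99.Wr.sw V = g⁻¹ * (H99.Wr.sw V * H99.Wr.pr h h) * g := by rw [← e]; group
  have cm : H99.Wr.sw V * (H99.Wr.sw V * H99.Wr.pr h h) =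
      (H99.Wr.sw V * H99.Wr.pr h h) * H99.Wr.sw V := rfl
  obtain ⟨a, ha, e1 | e1⟩ := c.cen (g⁻¹ * H99.Wr.sw V * g) (mul_mem (mul_mem (inv_mem hg) c.sw) hg) (by
    calc g⁻¹ * H99.Wr.sw V * g * H99.Wr.sw V
        = g⁻¹ * (H99.Wr.sw V * (g * H99.Wr.sw V * g⁻¹)) * g := by group
      _ = g⁻¹ * ((g * H99.Wr.sw V * g⁻¹) * H99.Wr.sw V) * g := by rw [e, cm]
      _ = _ := by group)
  · exact absurd (by rw [inv_inv]; exact e1) (c.nf g⁻¹ (inv_mem hg) a ha)
  have a2 : a * a = 1 := by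
    have : (g⁻¹ * H99.Wr.sw V * g) * (g⁻¹ * H99.Wr.sw V * g) = 1 := by
      calc _ = g⁻¹ * (H99.Wr.sw V * H99.Wr.sw V) * g := by group
        _ = 1 := by rw [sw_sw]; group
    rw [e1] at this
    exact (pr_inj (show H99.Wr.pr (a * a) (a * a) = H99.Wr.pr 1 1 from this)).1
  obtain ⟨k, hk, rfl⟩ := cls a ha a2 (by
    rw [← ncard_diag, ← ncard_diag, ← e1]
    refine ncard_eq_of_equiv g.toEquiv fun w => ?_
    rw [← e]
    simp only [Set.mem_setOf_eq, MulAut.mul_apply, MulEquiv.toEquiv_eq_coe, EquivLike.coe_coe,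
      MulAut.inv_apply_self, EmbeddingLike.apply_eq_iff_eq]
    rw [and_comm, MulAut.inv_def, MulEquiv.symm_apply_eq])
  have s1 : g * H99.Wr.pr k k * H99.Wr.sw V * (g * H99.Wr.pr k k)⁻¹ =
      H99.Wr.sw V * H99.Wr.pr h h := by
    rw [← e, mul_assoc g, pr_sw]; group
  have s2 : g * H99.Wr.pr k k * (H99.Wr.sw V * H99.Wr.pr h h) * (g * H99.Wr.pr k k)⁻¹ =
      H99.Wr.sw V := by
    calc _ = g * (H99.Wr.pr k k * (H99.Wr.sw V * H99.Wr.pr h h) * (H99.Wr.pr k k)⁻¹) * g⁻¹ := by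
          group
      _ = g * (g⁻¹ * H99.Wr.sw V * g) * g⁻¹ := by rw [e1]; rfl
      _ = _ := by group
  refine ⟨g * H99.Wr.pr k k, mul_mem hg (c.pr k hk), s1, ?_⟩
  calc _ = g * H99.Wr.pr k k * (H99.Wr.sw V * (H99.Wr.sw V * H99.Wr.pr h h)) *
        (g * H99.Wr.pr k k)⁻¹ := rfl
    _ = (g * H99.Wr.pr k k * H99.Wr.sw V * (g * H99.Wr.pr k k)⁻¹) *
        (g * H99.Wr.pr k k * (H99.Wr.sw V * H99.Wr.pr h h) * (g * H99.Wr.pr k k)⁻¹) := by group
    _ = _ := by rw [s1, s2]; rfl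

theorem Good.mul (c : Ctx H Γ) (g : Good h Γ b) {k : MulAut V} (hk : k ∈ H)
    (kh : k * h = h * k) : Good h Γ (H99.Wr.pr k k * b) := by
  have e : H99.Wr.pr k k * H99.Wr.pr h h * (H99.Wr.pr k k)⁻¹ = H99.Wr.pr h h := by
    rw [pr_mul, kh, ← pr_mul]; group
  refine ⟨mul_mem (c.pr k hk) g.mem, ?_, ?_⟩
  · calc _ = H99.Wr.pr k k * (b * H99.Wr.sw V * b⁻¹) * (H99.Wr.pr k k)⁻¹ := by group
      _ = H99.Wr.sw V * (H99.Wr.pr k k * H99.Wr.pr h h * (H99.Wr.pr k k)⁻¹) := by rw [g.sw]; rfl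
      _ = _ := by rw [e]
  · calc _ = H99.Wr.pr k k * (b * H99.Wr.pr h h * b⁻¹) * (H99.Wr.pr k k)⁻¹ := by group
      _ = _ := by rw [g.pr, e]

/-- `b` normalises `⟨swap⟩ × C_H(h)`. -/
theorem Good.beta (c : Ctx H Γ) (g : Good h Γ b) (hh : h * h = 1) {a : MulAut V} (ha : a ∈ H)
    (ah : a * h = h * a) : ∃ a' ∈ H, a' * h = h * a' ∧
      (b * H99.Wr.pr a a * b⁻¹ = H99.Wr.pr a' a' ∨
        b * H99.Wr.pr a a * b⁻¹ = H99.Wr.sw V * H99.Wr.pr a' a') := by
  have c1 : Commute (b * H99.Wr.pr a a * b⁻¹) (H99.Wr.pr h h) := by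
    rw [← g.pr]
    have : Commute (H99.Wr.pr a a) (H99.Wr.pr h h) := by
      show _ = _
      rw [pr_mul, pr_mul, ah]
    simpa using this.map (MulAut.conj b).toMonoidHom
  have c2 : Commute (b * H99.Wr.pr a a * b⁻¹) (H99.Wr.sw V * H99.Wr.pr h h) := by
    rw [← g.sw]
    have : Commute (H99.Wr.pr a a) (H99.Wr.sw V) := pr_sw a
    simpa using this.map (MulAut.conj b).toMonoidHom
  have c3 := c2.mul_right c1
  rw [mul_assoc (H99.Wr.sw V), pr_mul, hh, pr_one, mul_one] at c3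
  obtain ⟨a', ha', e | e⟩ := c.cen _ (mul_mem (mul_mem g.mem (c.pr a ha)) (inv_mem g.mem)) c3
  · refine ⟨a', ha', ?_, Or.inl e⟩
    rw [e] at c1
    exact (pr_inj (show H99.Wr.pr (a' * h) (a' * h) = H99.Wr.pr (h * a') (h * a') from c1)).1
  · refine ⟨a', ha', ?_, Or.inr e⟩
    rw [e] at c1
    have : H99.Wr.sw V * H99.Wr.pr (a' * h) (a' * h) = H99.Wr.sw V * H99.Wr.pr (h * a') (h * a') := c1
    exact (pr_inj (mul_left_cancel this)).1

/-- elements of odd order stay diagonal -/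
theorem Good.beta_odd [Nontrivial V] (c : Ctx H Γ) (g : Good h Γ b) (hh : h * h = 1) {a : MulAut V}
    (ha : a ∈ H) (ah : a * h = h * a) {n : ℕ} (hn : Odd n) (an : a ^ n = 1) :
    ∃ a' ∈ H, a' * h = h * a' ∧ b * H99.Wr.pr a a * b⁻¹ = H99.Wr.pr a' a' := by
  obtain ⟨a', h1, h2, e | e⟩ := g.beta c hh ha ah
  · exact ⟨a', h1, h2, e⟩
  · have := congrArg (· ^ n) e
    simp only [conj_pow, pr_pow, an, pr_one, sw_pr_pow, sw_odd hn, mul_one, mul_inv_cancel] at this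
    exact absurd this.symm (sw_pr_ne _ _ 1 1)

end Grp

section Comm
variable {V : Type u} [CommGroup V] {H : Subgroup (MulAut V)} {Γ : Subgroup (MulAut (V × V))}
  {h : MulAut V}

/-- `u = 1 + (1 + h) Ω` -/
def IsU (u : MulAut (V × V)) (h : MulAut V) : Prop :=
  ∀ a b, u (a, b) = (h a * (h b * b), h a * a * b)

theorem IsU.conj {u : MulAut (V × V)} (hu : IsU u h) (k : MulAut V) :
    IsU (pr k k * u * (pr k k)⁻¹) (k * h * k⁻¹) := fun a b => by
  simp only [pr_inv, MulAut.mul_apply, pr_apply, hu _ _, map_mul, MulAut.apply_inv_self]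

theorem IsU.three (h2 : ∀ v : V, v * v = 1) {u u' u'' : MulAut (V × V)} {h' : MulAut V}
    (hu : IsU u h) (hu' : IsU u' h') (hu'' : IsU u'' (h * h')) (hh : h * h = 1) (hh' : h' * h' = 1)
    (cm : h * h' = h' * h) (a b : V) : (u * u' * u'') (a, b) =
      (a * (h (h' a * a) * (h' a * a)), b * (h (h' b * b) * (h' b * b))) := by
  have e1 : ∀ v, h (h v) = v := fun v => DFunLike.congr_fun hh v
  have e2 : ∀ v, h' (h' v) = v := fun v => DFunLike.congr_fun hh' v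
  have e3 : ∀ v, h' (h v) = h (h' v) := fun v => (DFunLike.congr_fun cm v).symm
  have h3 : ∀ x y : V, x * (x * y) = y := fun x y => by rw [← mul_assoc, h2, one_mul]
  simp only [MulAut.mul_apply, hu _ _, hu' _ _, hu'' _ _, map_mul, e1, e2, e3, Prod.mk.injEq]
  constructor <;> simp only [mul_assoc, mul_comm, mul_left_comm, h2, h3, mul_one, one_mul]

theorem Good.fin (h2 : ∀ v : V, v * v = 1) (c : Ctx H Γ) (hH : h ∈ H) (hh : h * h = 1) (h1 : h ≠ 1)
    {u : MulAut (V × V)} (g : Good h Γ u) {Λ : Set (MulAut V)}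
    (hΛ : ∀ a ∈ Λ, u * H99.Wr.pr a a = H99.Wr.pr a a * u)
    (en : ∀ f : V →* V, (∀ a ∈ Λ, ∀ v, f (a v) = a (f v)) →
      (∀ v, f v = 1) ∨ (∀ v, f v = v) ∨ (∀ v, f v = h v * v) ∨ ∀ v, f v = h v) :
    (∃ a : MulAut V, a ≠ 1 ∧ H99.Wr.pr a 1 ∈ Γ) ∨ ∃ u ∈ Γ, IsU u h := by
  have e1 : ∀ v, h (h v) = v := fun v => DFunLike.congr_fun hh v
  have h3 : ∀ x y : V, x * (x * y) = y := fun x y => by rw [← mul_assoc, h2, one_mul]
  let p : V →* V := (MonoidHom.fst V V).comp (u.toMonoidHom.comp (MonoidHom.inl V V))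
  let q : V →* V := (MonoidHom.fst V V).comp (u.toMonoidHom.comp (MonoidHom.inr V V))
  have hp := en p fun a ha v => by
    have := congrArg Prod.fst (DFunLike.congr_fun (hΛ a ha) (v, 1))
    simpa [p] using this
  have hq := en q fun a ha v => by
    have := congrArg Prod.fst (DFunLike.congr_fun (hΛ a ha) (1, v))
    simpa [q] using this
  have s : ∀ a b, (u (a, b)).2 = h (u (b, a)).1 := fun a b => by
    have := congrArg Prod.snd (DFunLike.congr_fun (mul_inv_eq_iff_eq_mul.1 g.sw) (b, a))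
    simpa using this
  have f : ∀ a b, (u (a, b)).1 = p a * q b := fun a b => by
    rw [show ((a, b) : V × V) = (a, 1) * (1, b) by simp, map_mul]; rfl
  have hu : ∀ a b, u (a, b) = (p a * q b, h (p b * q a)) := fun a b =>
    Prod.ext (f a b) (by rw [s, f])
  obtain ⟨w, hw⟩ : ∃ w, h w * w ≠ 1 := by
    by_contra! hc
    exact h1 (MulEquiv.ext fun v => by
      have := congrArg (· * v) (hc v)
      simpa [mul_assoc, h2] using this)
  have hε : h (h w * w) = h w * w := by rw [map_mul, e1, mul_comm]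
  have k1 : ¬ (p (h w * w) = h w * w ∧ q (h w * w) = h w * w) := fun ⟨a, b⟩ => by
    have : u (h w * w, h w * w) = 1 := by rw [hu, a, b, h2, map_one]; rfl
    exact hw (congrArg Prod.fst ((map_eq_one_iff u u.injective).1 this))
  have k2 : ¬ (p (h w * w) = 1 ∧ q (h w * w) = 1) := fun ⟨a, b⟩ => by
    have : u (h w * w, 1) = 1 := by simp only [hu, a, b, map_one, mul_one]; rfl
    exact hw (congrArg Prod.fst ((map_eq_one_iff u u.injective).1 this))
  have m1 := g.mem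
  have m2 := mul_mem g.mem c.sw
  have m3 := mul_mem g.mem (c.pr h hH)
  have m4 := mul_mem m2 (c.pr h hH)
  have m5 := mul_mem (mul_mem c.sw g.mem) c.sw
  have m6 := mul_mem c.sw g.mem
  rcases hp with hp | hp | hp | hp <;> rcases hq with hq | hq | hq | hq
  all_goals first
    | (refine absurd ⟨?_, ?_⟩ k1 <;> simp only [hp, hq, hε, h2]; done)
    | (refine absurd ⟨?_, ?_⟩ k2 <;> simp only [hp, hq, hε, h2]; done)
    | skip
  all_goals simp only [hp, hq, map_mul, e1, one_mul, mul_one] at hu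
  all_goals first
    | (refine Or.inl ⟨h, h1, ?_⟩; convert m1 using 1; ext ⟨a, b⟩ <;> simp [hu]; done)
    | (refine Or.inl ⟨h, h1, ?_⟩; convert m2 using 1; ext ⟨a, b⟩ <;> simp [hu]; done)
    | (refine Or.inl ⟨h, h1, ?_⟩; convert m5 using 1; ext ⟨a, b⟩ <;> simp [hu]; done)
    | (refine Or.inl ⟨h, h1, ?_⟩; convert m6 using 1; ext ⟨a, b⟩ <;> simp [hu]; done)
    | (refine Or.inr ⟨_, m1, fun a b => ?_⟩
       simp only [hu, Prod.mk.injEq, mul_assoc, mul_comm, mul_left_comm, and_self]; done)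
    | (refine Or.inr ⟨_, m2, fun a b => ?_⟩
       simp only [MulAut.mul_apply, sw_apply, hu, Prod.mk.injEq, mul_assoc, mul_comm,
         mul_left_comm, and_self]; done)
    | (refine Or.inr ⟨_, m3, fun a b => ?_⟩
       rw [MulAut.mul_apply, pr_apply, hu]
       simp only [e1, Prod.mk.injEq, mul_assoc, mul_comm, mul_left_comm, and_self]; done)
    | (refine Or.inr ⟨_, m4, fun a b => ?_⟩
       rw [MulAut.mul_apply, MulAut.mul_apply, pr_apply, sw_apply, hu]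
       simp only [e1, Prod.mk.injEq, mul_assoc, mul_comm, mul_left_comm, and_self]; done)

/-- The fact WR from facts about `H` on `V`. -/
theorem wr_of (h2 : ∀ v : V, v * v = 1) (hH : h ∈ H) (hh : h * h = 1) (h1 : h ≠ 1)
    (cls : ∀ a ∈ H, a * a = 1 → (Fx a).ncard = (Fx h).ncard → ∃ k ∈ H, k * h * k⁻¹ = a)
    (Λ : Set (MulAut V))
    (adj : ∀ Γ b, Ctx H Γ → Good h Γ b → ∃ u, Good h Γ u ∧ ∀ a ∈ Λ, u * pr a a = pr a a * u)
    (en : ∀ f : V →* V, (∀ a ∈ Λ, ∀ v, f (a v) = a (f v)) →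
      (∀ v, f v = 1) ∨ (∀ v, f v = v) ∨ (∀ v, f v = h v * v) ∨ ∀ v, f v = h v)
    {h' k k' : MulAut V} (hk : k ∈ H) (hk' : k' ∈ H) (e : k * h * k⁻¹ = h')
    (e' : k' * h * k'⁻¹ = h * h') (cm : h * h' = h' * h)
    (nt : ∀ c ∈ H, ¬ ∀ v, c v = v * (h (h' v * v) * (h' v * v))) : WRp H h := by
  intro Γ c1 c2 c3 c4 hF
  have c : Ctx H Γ := ⟨c1, c2, c3, c4⟩
  have := nontrivial_of_ne h1
  obtain ⟨b, hb⟩ := c.swap cls hF
  obtain ⟨u, hu, hΛ⟩ := adj Γ b c hb
  refine (hu.fin h2 c hH hh h1 hΛ en).resolve_right ?_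
  rintro ⟨u, hu, iu⟩
  have hh' : h' * h' = 1 := by
    rw [← e]
    calc _ = k * (h * h) * k⁻¹ := by group
      _ = 1 := by rw [hh]; group
  have t := iu.three h2 (e ▸ iu.conj k) (e' ▸ iu.conj k') hh hh' cm
  obtain ⟨a, ha, ea | ea⟩ := c3 _ (mul_mem (mul_mem hu
    (mul_mem (mul_mem (c2 k hk) hu) (inv_mem (c2 k hk))))
    (mul_mem (mul_mem (c2 k' hk') hu) (inv_mem (c2 k' hk')))) (MulEquiv.ext fun ⟨x, y⟩ => by
      rw [MulAut.mul_apply, MulAut.mul_apply _ (sw V), sw_apply, t, t]; rfl)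
  · refine nt a ha fun v => ?_
    have := t v v
    rw [ea] at this
    exact congrArg Prod.fst this
  · obtain ⟨v, hv⟩ := exists_ne (1 : V)
    have := t v 1
    rw [ea] at this
    have := congrArg Prod.snd this
    simp only [MulAut.mul_apply, pr_apply, sw_apply, map_one, mul_one] at this
    exact hv (by simpa using this)

end Comm

/-! ### ORB -/

section Orb
variable {V : Type u} [Group V]

/-- `pr` as a homomorphism -/
def prH (V : Type u) [Group V] : MulAut V × MulAut V →* MulAut (V × V) :=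
  MonoidHom.mk' (fun x => pr x.1 x.2) fun _ _ => rfl

theorem prH_inj : Function.Injective (prH V) := fun _ _ e => Prod.ext (pr_inj e).1 (pr_inj e).2

theorem sq_eq (H : Subgroup (MulAut V)) : sq H = (H.prod H).map (prH V) := by
  ext g
  constructor
  · rintro ⟨a, ha, b, hb, rfl⟩; exact ⟨(a, b), ⟨ha, hb⟩, rfl⟩
  · rintro ⟨⟨a, b⟩, ⟨ha, hb⟩, rfl⟩; exact ⟨a, ha, b, hb, rfl⟩

theorem card_sq (H : Subgroup (MulAut V)) : Nat.card (sq H) = Nat.card H * Nat.card H := by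
  rw [sq_eq, card_map_of_injective prH_inj, Nat.card_congr (prodEquiv H H).toEquiv, Nat.card_prod]

theorem pr_mem_sq {H : Subgroup (MulAut V)} {a b : MulAut V} (ha : a ∈ H) (hb : b ∈ H) :
    pr a b ∈ sq H := ⟨a, ha, b, hb, rfl⟩

theorem isSyl_sq [Finite V] {H P : Subgroup (MulAut V)} (hP : IsSyl 2 P H)
    {Γ : Subgroup (MulAut (V × V))} (h1 : sq H ≤ Γ) (h2 : Odd ((sq H).relIndex Γ)) :
    IsSyl 2 (sq P) Γ := by
  have : Fact (Nat.Prime 2) := ⟨Nat.prime_two⟩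
  have le : sq P ≤ sq H := by
    rintro _ ⟨a, ha, b, hb, rfl⟩; exact pr_mem_sq (hP.le ha) (hP.le hb)
  refine isSyl_of_not_dvd_relIndex (le.trans h1)
    (IsPGroup.of_card (n := _ + _) (by rw [card_sq, hP.card_eq, pow_add])) ?_
  have e : (sq P).relIndex (sq H) = P.relIndex H * P.relIndex H := by
    have a1 := card_mul_index ((sq P).subgroupOf (sq H))
    have a2 := card_mul_index (P.subgroupOf H)
    rw [Nat.card_congr (subgroupOfEquivOfLe le).toEquiv, card_sq, card_sq] at a1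
    rw [Nat.card_congr (subgroupOfEquivOfLe hP.le).toEquiv] at a2
    refine Nat.eq_of_mul_eq_mul_left (Nat.mul_pos (Nat.card_pos (α := P)) (Nat.card_pos (α := P))) ?_
    rw [relIndex, a1, ← a2, relIndex]; ring
  rw [← relIndex_mul_relIndex _ _ _ le h1, e]
  intro d
  rcases (Nat.Prime.dvd_mul Nat.prime_two).1 d with d | d
  · exact hP.not_dvd_relIndex (by simpa using (Nat.Prime.dvd_mul Nat.prime_two).1 d)
  · exact h2.not_two_dvd_nat d

/-- ORB0: `(z, 1)` is not fused to `(1, z)`. -/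
theorem orb0 [Finite V] {H P : Subgroup (MulAut V)} (hP : IsSyl 2 P H) {z : V} (z1 : z ≠ 1)
    (fz : ∀ a ∈ P, a z = z) (cz : ∀ v, (∀ a ∈ P, a v = v) → v = 1 ∨ v = z) {h : MulAut V}
    (hh : h ∈ P) (h2 : h * h = 1) (hz : ∃ v, h v * v⁻¹ = z)
    (rk : ∀ a ∈ H, ∀ b ∈ H, a ≠ 1 → b ≠ 1 → a * a = 1 → b * b = 1 →
      (Fx a).ncard * (Fx b).ncard ≠ Nat.card V * (Fx h).ncard)
    {Γ : Subgroup (MulAut (V × V))} (h1 : sq H ≤ Γ) (ho : Odd ((sq H).relIndex Γ)) :
    ∀ g ∈ Γ, g (z, 1) ≠ (1, z) := by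
  intro g hg e
  have : Fact (Nat.Prime 2) := ⟨Nat.prime_two⟩
  have T := isSyl_sq hP h1 ho
  have f1 : ∀ t ∈ sq P, t (z, 1) = (z, 1) := by
    rintro _ ⟨a, ha, b, -, rfl⟩; simp [fz a ha]
  have f2 : ∀ t ∈ sq P, t (1, z) = (1, z) := by
    rintro _ ⟨a, -, b, hb, rfl⟩; simp [fz b hb]
  obtain ⟨c, hc, ec⟩ := ((T.cj_of_mem hg).of_le (K := Γ ⊓ MulAction.stabilizer _ ((1, z) : V × V))
    (le_inf (T.cj_of_mem hg).le fun x hx => by
      have := f1 _ (mem_cj.1 hx)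
      rw [MulAut.mul_apply, MulAut.mul_apply, e, MulAut.inv_def, MulEquiv.symm_apply_eq, e] at this
      exact this) inf_le_left).exists_cj_eq (T.of_le (le_inf T.le f2) inf_le_left)
  rw [cj_cj] at ec
  have n1 : (c * g) (z, 1) = (1, z) := by rw [MulAut.mul_apply, e]; exact hc.2
  have nΓ : c * g ∈ Γ := mul_mem hc.1 hg
  have nN := cj_eq_self_iff.1 ec
  generalize c * g = n at n1 nΓ nN ec
  have f3 : ∀ t ∈ sq P, t (n (1, z)) = n (1, z) := fun t ht => by
    have := f2 _ (mem_cj.1 (ec.symm ▸ ht))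
    rwa [MulAut.mul_apply, MulAut.mul_apply, MulAut.inv_def, MulEquiv.symm_apply_eq] at this
  have n2 : n (1, z) = (z, 1) := by
    have a := cz (n (1, z)).1 fun a ha => congrArg Prod.fst (f3 _ (pr_mem_sq ha ha))
    have b := cz (n (1, z)).2 fun a ha => congrArg Prod.snd (f3 _ (pr_mem_sq ha ha))
    rcases a with a | a <;> rcases b with b | b
    · exact absurd (congrArg Prod.snd ((map_eq_one_iff n n.injective).1 (Prod.ext a b))) z1
    · exact absurd (congrArg Prod.snd (n.injective (n1.trans (Prod.ext a b).symm))).symm z1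
    · exact Prod.ext a b
    · exfalso
      obtain ⟨v, hv⟩ := hz
      obtain ⟨x, hx, y, hy, exy⟩ : n * pr 1 h * n⁻¹ ∈ sq P :=
        ec ▸ conj_mem_cj (pr_mem_sq P.one_mem hh)
      have e1 : n (1, z) = pr x y (n (1, v)) * (n (1, v))⁻¹ := by
        rw [← exy, MulAut.mul_apply, MulAut.mul_apply, MulAut.inv_apply_self, ← map_inv, ← map_mul,
          ← hv]
        simp
      have e2 : pr (x * x) (y * y) = pr 1 1 := by
        rw [← pr_mul, ← exy]
        calc _ = n * pr (1 * 1) (h * h) * n⁻¹ := by rw [← pr_mul]; group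
          _ = _ := by rw [h2, mul_one, pr_one]; group
      refine rk x (hP.le hx) y (hP.le hy) ?_ ?_ (pr_inj e2).1 (pr_inj e2).2 ?_
      · rintro rfl
        rw [e1] at a
        exact z1 (by simpa using a.symm)
      · rintro rfl
        rw [e1] at b
        exact z1 (by simpa using b.symm)
      · rw [← Fx_pr, ← exy, Fx_conj, Fx_pr, Fx_one]
  obtain ⟨k, m, ⟨j, rfl⟩, eo⟩ := Nat.exists_eq_two_pow_mul_odd (orderOf_pos n).ne'
  have le := T.le_of_le_normalizer' (Q := zpowers (n ^ (2 * j + 1))) (by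
    rintro ⟨_, i, rfl⟩
    refine ⟨k, Subtype.ext ?_⟩
    show ((n ^ (2 * j + 1)) ^ i) ^ 2 ^ k = 1
    rw [← zpow_natCast, ← zpow_mul, mul_comm i, zpow_mul, zpow_natCast, ← pow_mul,
      mul_comm (2 * j + 1), ← eo, pow_orderOf_eq_one, one_zpow])
    (zpowers_le.2 (pow_mem nΓ _)) (zpowers_le.2 (pow_mem nN _))
  have f4 := f1 _ (le (mem_zpowers _))
  have f5 : ∀ j : ℕ, (n ^ (2 * j + 1)) (z, 1) = (1, z) := fun j => by
    induction j with
    | zero => simpa using n1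
    | succ j ih =>
      rw [show 2 * (j + 1) + 1 = 1 + 1 + (2 * j + 1) by ring, pow_add, pow_add, pow_one,
        MulAut.mul_apply, ih, MulAut.mul_apply, n2, n1]
  exact z1 (congrArg Prod.fst (f4.symm.trans (f5 j)))

theorem orb1 {Γ : Subgroup (MulAut (V × V))} (hs : ∀ g ∈ Γ, sw V * g * sw V ∈ Γ) {z : V}
    (h0 : ∀ g ∈ Γ, g (z, 1) ≠ (1, z)) {g g' : MulAut (V × V)} (hg : g ∈ Γ) (hg' : g' ∈ Γ) {a b : V}
    (e : g (z, 1) = (a, b)) (e' : g' (z, 1) = (b, a)) : False := by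
  refine h0 _ (mul_mem (inv_mem (hs g' hg')) hg) ?_
  rw [MulAut.mul_apply, e, MulAut.inv_def, MulEquiv.symm_apply_eq]
  simp [e']

/-- ORB for a group transitive on the non-trivial vectors. -/
theorem orb_of_trans {H : Subgroup (MulAut V)} {z : V}
    (tr : ∀ v, v ≠ 1 → ∃ a ∈ H, a z = v)
    (h0 : ∀ Γ : Subgroup (MulAut (V × V)), sq H ≤ Γ → Odd ((sq H).relIndex Γ) →
      ∀ g ∈ Γ, g (z, 1) ≠ (1, z)) : ORBp H := by
  intro Γ h1 hs ho g hg v
  by_cases hv : v = 1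
  · rw [hv]; exact congrArg Prod.snd (map_one g)
  obtain ⟨a, ha, rfl⟩ := tr v hv
  by_contra hd
  obtain ⟨d, hdH, ed⟩ := tr _ hd
  have m := mul_mem hg (h1 (pr_mem_sq ha ha))
  have e : (g * pr a a) (z, 1) = ((g (a z, 1)).1, d z) := by simp [ed]
  by_cases hc : (g (a z, 1)).1 = 1
  · refine h0 Γ h1 ho _ (mul_mem (h1 (pr_mem_sq H.one_mem (inv_mem hdH))) m) ?_
    rw [MulAut.mul_apply, e, hc]; simp
  · obtain ⟨c, hcH, ec⟩ := tr _ hc
    refine orb1 hs (h0 Γ h1 ho) m (mul_mem (h1 (pr_mem_sq (mul_mem hdH (inv_mem hcH))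
      (mul_mem hcH (inv_mem hdH)))) m) e ?_
    rw [MulAut.mul_apply, e, ← ec]; simp

/-- an automorphism of prime order `p` of a group of order `2 ^ n` -/
theorem no_prime {W : Type*} [Group W] {n p : ℕ} (hW : Nat.card W = 2 ^ n) (hp : p.Prime)
    (h2 : p ≠ 2) (hn : ∀ j ≤ n, 2 ^ j % p = 1 → j = 0) (Γ : Subgroup (MulAut W)) :
    ¬ p ∣ Nat.card Γ := fun d => by
  have : Finite W := Nat.finite_of_card_ne_zero (by rw [hW]; positivity)
  have : Fact p.Prime := ⟨hp⟩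
  obtain ⟨x, hx⟩ := exists_prime_orderOf_dvd_card' p d
  have hz : IsPGroup p (zpowers (x : MulAut W)) :=
    IsPGroup.of_card (n := 1) (by rw [Nat.card_zpowers, orderOf_coe, hx, pow_one])
  have m := hz.card_modEq_card_fixedPoints W
  obtain ⟨k, hk, e⟩ := (Nat.dvd_prime_pow Nat.prime_two).1
    (hW ▸ card_subgroup_dvd_card (FixedPoints.subgroup (zpowers (x : MulAut W)) W))
  have e' : Nat.card (MulAction.fixedPoints (zpowers (x : MulAut W)) W) = 2 ^ k := e
  obtain ⟨j, rfl⟩ := Nat.exists_eq_add_of_le hk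
  rw [hW, e', pow_add] at m
  have m2 : 2 ^ j ≡ 1 [MOD p] := Nat.ModEq.cancel_left_of_coprime
    (((Nat.coprime_primes hp Nat.prime_two).2 h2).pow_right k) (by rwa [mul_one])
  have j0 := hn j (by omega) (by rw [m2, Nat.mod_eq_of_lt hp.one_lt])
  subst j0
  have top := eq_top_of_card_eq _ (e.trans hW.symm)
  have x1 : x = 1 := Subtype.ext (MulEquiv.ext fun w =>
    (top ▸ mem_top w : w ∈ FixedPoints.subgroup (zpowers (x : MulAut W)) W) ⟨x, mem_zpowers _⟩)
  rw [x1, orderOf_one] at hx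
  exact hp.one_lt.ne hx

theorem ncard_types {X ι : Type*} [Finite X] [Fintype ι] (τ : X → ι) (F : ι → ι → Prop)
    [∀ i j, Decidable (F i j)] : {w : X × X | F (τ w.1) (τ w.2)}.ncard =
      ∑ i, ∑ j, if F i j then {x | τ x = i}.ncard * {x | τ x = j}.ncard else 0 := by
  classical
  have := Fintype.ofFinite X
  rw [← Finset.sum_product', Set.ncard_eq_toFinset_card', Finset.card_eq_sum_card_fiberwise
    (f := fun w : X × X => (τ w.1, τ w.2)) (t := Finset.univ ×ˢ Finset.univ) (by simp)]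
  refine Finset.sum_congr rfl fun x _ => ?_
  split_ifs with hF
  · rw [← Set.ncard_prod, Set.ncard_eq_toFinset_card']
    congr 1
    ext w
    simp only [Finset.mem_filter, Set.mem_toFinset, Set.mem_setOf_eq, Set.mem_prod, Prod.ext_iff]
    exact ⟨fun h => h.2, fun h => ⟨by rw [h.1, h.2]; exact hF, h⟩⟩
  · rw [Finset.card_eq_zero, Finset.filter_eq_empty_iff]
    rintro w hw rfl
    exact hF (by simpa using hw)

/-- ORB for a group with orbits of lengths 276 and 1771 on the non-trivial vectors. -/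
theorem orb_of_two {H : Subgroup (MulAut V)} (hV : Nat.card V = 2048) (τ : V → Fin 3)
    (τ0 : ∀ v, τ v = 0 ↔ v = 1) (tr : ∀ v w, τ v = τ w → ∃ a ∈ H, a v = w)
    (c1 : {v | τ v = 1}.ncard = 276) (c2 : {v | τ v = 2}.ncard = 1771) {z : V} (hz : τ z = 2)
    (h0 : ∀ Γ : Subgroup (MulAut (V × V)), sq H ≤ Γ → Odd ((sq H).relIndex Γ) →
      ∀ g ∈ Γ, g (z, 1) ≠ (1, z)) : ORBp H := by
  classical
  intro Γ h1 hs ho g hg
  have : Finite V := Nat.finite_of_card_ne_zero (by rw [hV]; decide)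
  have c0 : {v | τ v = 0}.ncard = 1 := by
    rw [Set.ncard_eq_one]; exact ⟨1, Set.ext τ0⟩
  have t1 : τ 1 = 0 := (τ0 1).2 rfl
  let F : Fin 3 → Fin 3 → Prop := fun i j => ∃ g ∈ Γ, τ (g (z, 1)).1 = i ∧ τ (g (z, 1)).2 = j
  have hF : ∀ a b, F (τ a) (τ b) → ∃ g ∈ Γ, g (z, 1) = (a, b) := by
    rintro a b ⟨g, hg, e1, e2⟩
    obtain ⟨c, hc, ec⟩ := tr _ _ e1
    obtain ⟨d, hd, ed⟩ := tr _ _ e2
    exact ⟨_, mul_mem (h1 (pr_mem_sq hc hd)) hg, Prod.ext ec ed⟩
  have as : ∀ i j, F i j → ¬ F j i := by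
    rintro _ _ ⟨g, hg, rfl, rfl⟩ h'
    obtain ⟨g', hg', e'⟩ := hF _ _ h'
    exact orb1 hs (h0 Γ h1 ho) hg hg' rfl e'
  have f20 : F 2 0 := ⟨1, one_mem _, hz, t1⟩
  have dv : {w : V × V | F (τ w.1) (τ w.2)}.ncard ∣ Nat.card Γ := by
    have := index_dvd_card (MulAction.stabilizer Γ ((z, 1) : V × V))
    rw [MulAction.index_stabilizer] at this
    convert this using 2
    ext ⟨a, b⟩
    constructor
    · intro h
      obtain ⟨g, hg, e⟩ := hF a b h
      exact ⟨⟨g, hg⟩, e⟩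
    · rintro ⟨⟨g, hg⟩, e⟩
      exact ⟨g, hg, congrArg (fun w => τ w.1) e, congrArg (fun w => τ w.2) e⟩
  have hW : Nat.card (V × V) = 2 ^ 22 := by rw [Nat.card_prod, hV]; norm_num
  have p1 := no_prime hW (p := 277) (by norm_num) (by decide) (by decide +kernel) Γ
  have p2 := no_prime hW (p := 21341) (by norm_num) (by decide) (by decide +kernel) Γ
  have mix : ¬ F 1 2 ∧ ¬ F 2 1 := by
    rw [ncard_types] at dv
    simp only [Fin.sum_univ_three, c0, c1, c2, if_pos f20, if_neg (as _ _ f20),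
      if_neg fun h => as 0 0 h h, if_neg fun h => as 1 1 h h, if_neg fun h => as 2 2 h h] at dv
    have a1 := as 0 1
    have a2 := as 1 2
    by_cases b1 : F 0 1 <;> by_cases b2 : F 1 0 <;> by_cases b3 : F 1 2 <;> by_cases b4 : F 2 1 <;>
      simp only [b1, b2, b3, b4, if_true, if_false, not_true, not_false_iff, and_self,
        forall_const] at dv a1 a2 ⊢ <;>
      first
        | (refine (p1 (Dvd.dvd.trans ?_ dv)).elim; decide)
        | (refine (p2 (Dvd.dvd.trans ?_ dv)).elim; decide)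
  -- images of the long orbit
  have im : ∀ s, τ s = 2 → (g (s, 1)).2 = 1 ∨ ((g (s, 1)).1 = 1 ∧ τ (g (s, 1)).2 = 1) := by
    intro s hs'
    obtain ⟨a, ha, rfl⟩ := tr z s (hz.trans hs'.symm)
    have : F (τ (g (a z, 1)).1) (τ (g (a z, 1)).2) :=
      ⟨_, mul_mem hg (h1 (pr_mem_sq ha ha)), by simp, by simp⟩
    rw [← τ0, ← τ0]
    generalize τ (g (a z, 1)).1 = i at this ⊢
    generalize τ (g (a z, 1)).2 = j at this ⊢
    fin_cases i <;> fin_cases j
    · exact Or.inl rfl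
    · exact Or.inr ⟨rfl, rfl⟩
    · exact absurd this (as _ _ f20)
    · exact Or.inl rfl
    · exact absurd this (as _ _ this)
    · exact absurd this mix.1
    · exact Or.inl rfl
    · exact absurd this mix.2
    · exact absurd this (as _ _ this)
  let A : Subgroup V := ((MonoidHom.snd V V).comp (g.toMonoidHom.comp (MonoidHom.inl V V))).ker
  have hX : ({v | τ v = 2} \ A).ncard ≤ 276 := by
    rw [← c1]
    refine Set.ncard_le_ncard_of_injOn (fun s => (g (s, 1)).2)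
      (fun s hs => ((im s hs.1).resolve_left hs.2).2) fun s hs t ht e => ?_
    exact congrArg Prod.fst (g.injective (Prod.ext (((im s hs.1).resolve_left hs.2).1.trans
      ((im t ht.1).resolve_left ht.2).1.symm) e))
  have hA : 1495 ≤ Nat.card A := by
    have a1 := Set.ncard_le_ncard_diff_add_ncard {v | τ v = 2} (A : Set V)
    rw [c2, ← Nat.card_coe_set_eq (A : Set V)] at a1
    change _ ≤ _ + Nat.card A at a1
    omega
  have hi := A.card_mul_index
  have : A.index = 1 := by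
    rw [hV] at hi
    rcases hA' : A.index with _ | _ | k
    · rw [hA'] at hi; omega
    · rfl
    · rw [hA'] at hi; nlinarith
  intro v
  exact (index_eq_one.1 this ▸ mem_top v : v ∈ A)

end Orb

end H88.Wr
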