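/- CG (blueprints/CG.md): a standard subgroup `G₂(4)` centralized by a four-group. -/
import Cfsg.Agent.H88.TESpec2
import Cfsg.Agent.H21.TEGold
import Cfsg.Agent.H63.TGDef
import Cfsg.Agent.H78.Large
import Cfsg.Prelude.Def_Spor_Conway

set_option autoImplicit false

namespace H88.CG

open Subgroup Cfsg H98 H1.Gold H86.L34 H88.AS Equiv
open H6 (F4)
open H88.TE (El sqs)

universe u
variable {G : Type u} [Group G]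

/-! ### The frame -/

structure GD (G : Type u) [Group G] where
  A : Subgroup G
  u : F4 → F4 → F4 → G
  v : F4 → F4 → G
  l : F4 → G
  h : G
  n : G
  τ : G

namespace GD
variable (d : GD G)

abbrev K : Subgroup G := cen d.A
abbrev N : Subgroup G := nor d.A
abbrev z (e : F4) : G := d.u 0 0 e
def m : G := d.τ * d.n * d.τ⁻¹
def x : G := d.l F4.w * d.τ * d.l F4.v * d.τ * d.l F4.w * d.τ
def Z : Subgroup G := closure {g | ∃ e, d.z e = g}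
def U : Subgroup G := closure {g | ∃ a b c, d.u a b c = g}
def X : Subgroup G := closure {g | ∃ t, d.v 0 t = g}
def L : Subgroup G := closure {g | ∃ t, d.l t = g}
def QA : Subgroup G := closure {g | ∃ a b e s t, d.u a b e * d.v s t = g}
abbrev D : Subgroup G := d.A ⊓ cen1 (d.z 1)
abbrev A₀ : Subgroup G := d.A ⊓ cen1 d.x
/-- long root elements -/
def Lg (a : G) : Prop := ∃ c ∈ d.A, c * d.z 1 * c⁻¹ = a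
/-- `g` acts as the field automorphism -/
def Fa (g : G) : Prop := (∀ a b c, g * d.u a b c * g⁻¹ = d.u (a ^ 2) (b ^ 2) (c ^ 2)) ∧
  (∀ s t, g * d.v s t * g⁻¹ = d.v (s ^ 2) (t ^ 2)) ∧ (∀ t, g * d.l t * g⁻¹ = d.l (t ^ 2)) ∧
  Commute g d.n ∧ Commute g d.τ

end GD

abbrev Γ : Type := ↥(Lie.chevG2.group F4)

noncomputable def xr (φ : Γ →* G) (r : ℕ) (t : F4) : G := φ (H63.xG Lie.chevG2 F4 r t)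

/-- The frame of a copy of the Chevalley group. -/
noncomputable def frm (φ : Γ →* G) : GD G where
  A := φ.range
  u a b c := xr φ 6 a * xr φ 11 (c + a * b) * xr φ 10 b
  v s t := xr φ 8 s * xr φ 9 t
  l t := xr φ 7 t
  h := xr φ 11 F4.v * xr φ 0 F4.w * xr φ 11 F4.v * (xr φ 11 1 * xr φ 0 1 * xr φ 11 1)
  n := xr φ 10 1 * xr φ 1 1 * xr φ 10 1
  τ := xr φ 7 1 * xr φ 4 1 * xr φ 7 1

/-- Relations. -/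
structure GR (d : GD G) : Prop where
  hm : HM d.u
  uA : ∀ a b c, d.u a b c ∈ d.A
  vA : ∀ s t, d.v s t ∈ d.A
  lA : ∀ t, d.l t ∈ d.A
  hA : d.h ∈ d.A
  nA : d.n ∈ d.A
  τA : d.τ ∈ d.A
  vv : ∀ s t s' t', d.v s t * d.v s' t' = d.v (s + s') (t + t') * d.z (t * s')
  uv : ∀ a b c s t, Commute (d.u a b c) (d.v s t)
  ll : ∀ t t', d.l t * d.l t' = d.l (t + t')
  lu₁ : ∀ t a, d.l t * d.u a 0 0 * (d.l t)⁻¹ = d.u a (t ^ 3 * a) 0 * d.v (t * a) (t ^ 2 * a)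
  lu₂ : ∀ t b e, Commute (d.l t) (d.u 0 b e)
  lv₁ : ∀ t s, d.l t * d.v s 0 * (d.l t)⁻¹ = d.u 0 (t ^ 2 * s) (t * s ^ 2) * d.v s 0
  lv₂ : ∀ t s, d.l t * d.v 0 s * (d.l t)⁻¹ = d.u 0 (t * s) 0 * d.v 0 s
  ττ : d.τ * d.τ = 1
  τu : ∀ a b c, d.τ * d.u a b c * d.τ⁻¹ = d.u b a (c + a * b)
  τv : ∀ s, d.τ * d.v s 0 * d.τ⁻¹ = d.v 0 s
  τl : (d.τ * d.l 1) ^ 3 = 1
  τx : d.τ * d.x * d.τ⁻¹ = d.x⁻¹
  x3 : d.x ^ 3 = 1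
  xu : ∀ a b c, Commute d.x (d.u a b c)
  xv : ∀ s t, d.x * d.v s t * d.x⁻¹ = d.v (F4.v * s) (F4.w * t)
  xl : ∀ t, d.x * d.l t * d.x⁻¹ = d.l (F4.v * t)
  xn : Commute d.x d.n
  xh : Commute d.x d.h
  h3 : d.h ^ 3 = 1
  hu : ∀ a b c, d.h * d.u a b c * d.h⁻¹ = d.u (F4.v * a) (F4.v * b) (F4.w * c)
  hv : ∀ s t, d.h * d.v s t * d.h⁻¹ = d.v (F4.v * s) (F4.v * t)
  hl : ∀ t, Commute d.h (d.l t)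
  hτ : Commute d.h d.τ
  nn : d.n * d.n = 1
  nu : ∀ a c, d.n * d.u a 0 c * d.n⁻¹ = d.u c 0 a
  nh : d.n * d.h * d.n * d.h = d.x ^ 2
  nv₁ : ∀ s, Commute d.n (d.v s 0)
  nv₂ : ∀ t, d.n * d.v 0 t * d.n⁻¹ = d.τ * d.l t * d.τ⁻¹
  nu3 : (d.n * d.u 0 1 0) ^ 3 = 1
  nm3 : (d.n * d.m) ^ 3 = 1
  inj : ∀ a b e s t t', d.u a b e * d.v s t * d.l t' = 1 →
    a = 0 ∧ b = 0 ∧ e = 0 ∧ s = 0 ∧ t = 0 ∧ t' = 0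
  gen : ∀ B : Subgroup G, d.U ≤ B → d.L ≤ B → d.n ∈ B → d.τ ∈ B → d.A ≤ B

/-- Consequences of the Bruhat decomposition. -/
structure GB (d : GD G) : Prop where
  card : Nat.card d.A = 251596800
  simple : IsSimpleGroup d.A
  bru : ∀ g ∈ d.D, ∃ q ∈ d.QA, ∃ (t : F4) (i : ℕ), g = q * d.l t * d.x ^ i ∨
    ∃ t', g = q * d.l t * d.x ^ i * d.τ * d.l t'
  gen₀ : ∀ B : Subgroup G, d.U ≤ B → d.n ∈ B → d.m ∈ B → d.A₀ ≤ B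
  qs₀ : IsQuasisimple d.A₀

/-- Automorphisms. -/
structure GA (d : GD G) : Prop where
  aut : ∀ g ∈ d.N, g ∈ d.K ⊔ d.A ∨ ∃ a ∈ d.A, d.Fa (a * g)
  lang : ∀ s ∈ d.N, s * s = 1 → s ∉ d.K ⊔ d.A → ∃ a ∈ d.A, d.Fa (a * s * a⁻¹)

structure G0 (d : GD G) : Prop extends GR d, GB d, GA d where
  std : IsStandardSubgroup d.A

/-- Facts derived from `G0`. -/
structure G1 (d : GD G) : Prop where
  zk : d.A ⊓ d.K = ⊥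
  memQ : ∀ g, g ∈ d.QA ↔ ∃ a b e s t, d.u a b e * d.v s t = g
  cardQ : Nat.card d.QA = 1024
  sylA : IsSyl 2 (d.QA ⊔ d.L) d.A
  out2 : ∀ g ∈ d.N, ∀ g' ∈ d.N, g ∈ d.K ⊔ d.A ∨ g' ∈ d.K ⊔ d.A ∨ g * g' ∈ d.K ⊔ d.A
  dZ : d.D ≤ cen d.Z
  dz : ∀ e ≠ 0, d.A ⊓ cen1 (d.z e) ≤ d.D
  cz : d.N ⊓ cen d.Z ≤ d.K ⊔ d.D
  dQ : d.D ≤ nor d.QA
  dq : ∀ g ∈ d.D, (∀ q ∈ d.QA, g * q * g⁻¹ * q⁻¹ ∈ d.Z) → g ∈ d.QA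
  dgen : ∀ B : Subgroup G, (∀ a, d.u a 0 0 ∈ B) → (∀ t, d.l t ∈ B) → d.τ ∈ B → d.D ≤ B
  sqD : d.D ≤ sqs d.D
  sqX : d.U ≤ sqs (d.A ⊓ cen d.X)
  x3 : ∀ g ∈ d.D, orderOf g = 3 → ∃ c ∈ d.D, c * d.x * c⁻¹ = g
  cls : ∀ a ∈ d.A, orderOf a = 2 → d.Lg a ∨ ∃ c ∈ d.A, c * d.v 0 1 * c⁻¹ = a
  sy : ∀ t ≠ 0, IsSyl 2 (d.X ⊔ d.U) (d.A ⊓ cen1 (d.v 0 t))
  lg : ∀ a ∈ d.A, orderOf a = 2 → ∀ T ≤ d.A ⊓ cen1 a, IsPGroup 2 T → 256 < Nat.card T → d.Lg a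
  shc : ∀ a ∈ d.A, orderOf a = 2 → d.Lg a ∨ ∀ b ∈ d.A, Commute b a → b ^ 4 = 1 →
    ∃ c ∈ d.A, c * a * c⁻¹ = a * b ^ 2
  cl2 : ∀ T ≤ d.A, ∀ ζ, (∀ g ∈ T, g * g = 1 ∨ g * g = ζ) → Nat.card T ≤ 128
  irr : ∀ Y ≤ d.QA, d.D ≤ nor Y → d.h ∈ nor Y → ¬ Y ≤ d.Z → d.u 1 0 0 ∈ Y
  cQ : d.A ⊓ cen d.QA ≤ d.Z
  o2D : ∀ T ≤ d.K ⊔ d.D, IsPGroup 2 T → d.D ≤ nor T → T ≤ d.K ⊔ d.QA
  cenz₀ : ∀ g ∈ d.A₀, Commute g (d.z 1) → ∃ (i : ℕ) (a b c : F4), g = d.x ^ i * d.u a b c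
  syl₀ : IsSyl 2 d.U d.A₀
  c0 : d.N ⊓ cen d.A₀ ≤ d.K ⊔ zpowers d.x
  bdN : ∀ T ≤ d.N, IsPGroup 2 T → Nat.card T ≤ 8192 * Nat.card ↥(T ⊓ d.K)
  bdy : ∀ T ≤ d.N ⊓ cen1 (d.v 0 1), IsPGroup 2 T → Nat.card T ≤ 512 * Nat.card ↥(T ⊓ d.K)

/-- The pair analysis. -/
structure GP (d : GD G) (R : Subgroup G) (r : F4 → G) : Prop where
  syl : IsSyl 2 R d.K
  mem : ∀ g, g ∈ R ↔ ∃ c, r c = g
  add : ∀ c c', r (c + c') = r c * r c'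
  inj : ∀ c, r c = 1 → c = 0
  noL : ¬ KI d.K (d.z 1)
  tw : ∃ g ∉ d.N, ∀ c, r c * d.z c ∈ cj g d.K

/-! ### The module of the alternating group -/

/-- Coordinates `(c, d, a, b, s, t)` on `P / Z`. -/
abbrev V6 : Type := F4 × F4 × F4 × F4 × F4 × F4

def qf (x : V6) : F4 := x.1 * x.2.1 + x.2.2.1 * x.2.2.2.1 + x.2.2.2.2.1 * x.2.2.2.2.2
def bf (x y : V6) : F4 := x.1 * y.2.1 + x.2.1 * y.1 + x.2.2.1 * y.2.2.2.1 + x.2.2.2.1 * y.2.2.1 +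
  x.2.2.2.2.1 * y.2.2.2.2.2 + x.2.2.2.2.2 * y.2.2.2.2.1
def Xs (x : V6) : V6 := (x.2.1 ^ 2, x.1 ^ 2, x.2.2.1 ^ 2, x.2.2.2.1 ^ 2, x.2.2.2.2.2 ^ 2, x.2.2.2.2.1 ^ 2)

/-- functions on eight points with sum zero, modulo constants -/
def kp : V6 → Fin 8 → F4
  | (c, d, a, b, s, t) => ![c + d, F4.w * c + F4.v * d, F4.v * c + F4.w * d, a, b, a + b + s + t,
    a + b + F4.w * s + F4.v * t, a + b + F4.v * s + F4.w * t]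
def ki (f : Fin 8 → F4) : V6 := (f 0 + F4.v * f 1 + F4.w * f 2, f 0 + F4.w * f 1 + F4.v * f 2,
  f 4 + f 5 + f 6 + f 7, f 3 + f 5 + f 6 + f 7, f 5 + F4.v * f 6 + F4.w * f 7, f 5 + F4.w * f 6 + F4.v * f 7)
def th (σ : Perm (Fin 8)) (x : V6) : V6 := ki fun i => kp x (σ.symm i)

abbrev A8 : Subgroup (Perm (Fin 8)) := alternatingGroup (Fin 8)

def σw : F4 → Perm (Fin 8)
  | .o => 1 | .i => swap 0 4 * swap 1 2 | .w => swap 0 2 * swap 1 4 | .v => swap 0 1 * swap 2 4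
def σl : F4 → Perm (Fin 8)
  | .o => 1 | .i => swap 4 5 * swap 6 7 | .w => swap 4 7 * swap 5 6 | .v => swap 4 6 * swap 5 7
def στ : Perm (Fin 8) := swap 3 4 * swap 6 7
def σ₄ : Perm (Fin 8) := swap 0 4 * swap 1 2 * (swap 3 5 * swap 6 7)

def W₁ (y : F4) : V6 → V6
  | (c, d, a, b, s, t) => (c + y ^ 2 * b, d + y * b, a + c * y + y ^ 2 * d + y ^ 3 * b, b, s, t)
def Wl (y : F4) : V6 → V6
  | (c, d, a, b, s, t) => (c, d, a, b + y ^ 3 * a + y ^ 2 * s + y * t, s + y * a, t + y ^ 2 * a)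
def Wτ : V6 → V6
  | (c, d, a, b, s, t) => (c, d, b, a, t, s)

def er : V6 := (1, 0, 0, 0, 0, 0)
def ea : V6 := (0, 0, 1, 0, 0, 0)
def e0 : V6 := (1, 0, 0, 0, 0, 1)
def k₁ : V6 := (F4.w, F4.v, 0, 0, F4.w, F4.v)
def k₂ : V6 := (F4.w, F4.v, 0, 0, F4.v, F4.w)
def DV (x : V6) : Prop := ∃ σ ∈ A8, th σ er = x
def LV (x : V6) : Prop := ∃ σ ∈ A8, ∃ c : F4, c ≠ 0 ∧ th σ (c • ea) = x
def NV (x : V6) : Prop := ∃ σ ∈ A8, th σ e0 = x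
/-- without fixed points -/
def FP (σ : Perm (Fin 8)) : Prop := ∀ i, σ i ≠ i
def Fix (E : Subgroup (Perm (Fin 8))) : Set V6 := {x | ∀ σ ∈ E, th σ x = x}
def Rad (σ : Perm (Fin 8)) : Set V6 := {x | ∃ y, th σ y + y = x}
def perp (B : Set V6) : Set V6 := {y | ∀ x ∈ B, bf x y = 0}

/-- The action and the orbits. -/
structure AF₁ : Prop where
  one : ∀ x, th 1 x = x
  mul : ∀ σ π x, th (σ * π) x = th σ (th π x)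
  add : ∀ σ x y, th σ (x + y) = th σ x + th σ y
  smul : ∀ σ (c : F4) x, th σ (c • x) = c • th σ x
  qf : ∀ σ x, qf (th σ x) = qf x
  bf : ∀ σ x y, bf (th σ x) (th σ y) = bf x y
  xs : ∀ σ x, Xs (th σ x) = th σ (Xs x)
  inj : ∀ σ, (∀ x, th σ x = x) → σ = 1
  tw : ∀ y x, th (σw y) x = W₁ y x
  tl : ∀ y x, th (σl y) x = Wl y x
  tτ : ∀ x, th στ x = Wτ x
  gen : closure {σ | (∃ y, σw y = σ ∨ σl y = σ) ∨ στ = σ} = A8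
  orb : ∀ x, CG.qf x = 0 → x = 0 ∨ DV x ∨ LV x ∨ NV x
  dvs : ∀ x (c : F4), DV x → c ≠ 0 → DV (c • x)
  dvt : DV (0, 0, 0, 0, 0, 1)
  nvc : ∀ c ≠ 0, NV (c, 0, 0, 0, 0, 1)
  sum : ∀ x, ∃ y, DV y ∧ DV (x + y)
  orbR : ∀ x, Xs x = x → CG.qf x = 0 → x ≠ 0 → ∃ σ ∈ A8, th σ ea = x
  orb1 : ∀ x, Xs x = x → CG.qf x = 1 → ∃ σ ∈ A8, ∃ π ∈ A8, CG.bf x (th σ x) ≠ 0 ∧
    CG.bf x (th π x) ≠ 0 ∧ CG.bf (th σ x) (th π x) = 0 ∧ th σ x ≠ th π x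
  inv : ∀ σ ∈ A8, σ * σ = 1 → σ = 1 ∨ (¬ FP σ ∧ ∃ π ∈ A8, π * σ * π⁻¹ = σl 1) ∨
    (FP σ ∧ ∃ π ∈ A8, π * σ * π⁻¹ = σ₄)
  rfix : ∀ σ ∈ A8, σ * σ = 1 → ∃ x, Xs x = x ∧ CG.qf x = 0 ∧ x ≠ 0 ∧ th σ x = x
  dfix : ∀ σ ∈ A8, σ * σ = 1 → ¬ FP σ → ∃ x, DV x ∧ th σ x = x
  fix2 : ∀ σ ∈ A8, σ * σ = 1 → σ ≠ 1 → Nat.card {x | th σ x = x} = 256 ∧ Nat.card (Rad σ) = 16
  rad : ∀ σ ∈ A8, σ * σ = 1 → FP σ → ∀ x ∈ Rad σ, CG.qf x = 0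
  st4 : ∀ σ ∈ A8, (∃ k, σ ^ 2 ^ k = 1) → (∀ c d a b, th σ (c, d, a, b, 0, 0) = (c, d, a, b, 0, 0)) → σ = 1
  p4 : ∀ B : AddSubgroup V6, 4 < Nat.card B → Nat.card (perp B) ≤ 256
  p64 : ∀ B : AddSubgroup V6, 64 < Nat.card B → Nat.card (perp B) ≤ 16
  iso : ∀ B : AddSubgroup V6, (∀ x ∈ B, ∀ y ∈ B, CG.bf x y = 0 ∨ CG.bf x y = 1) → Nat.card B ≤ 64
  isoR : ∀ B : AddSubgroup V6, (∀ x ∈ B, Xs x = x) → (∀ x ∈ B, ∀ y ∈ B, CG.bf x y = 0) → Nat.card B ≤ 8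

/-- The `2`-subgroups of the alternating group. -/
structure AF₂ : Prop where
  two : ∀ T ≤ A8, IsPGroup 2 T → Nat.card T ≤ 64
  st0 : ∃ T ≤ A8, IsPGroup 2 T ∧ 16 ≤ Nat.card T ∧ e0 ∈ Fix T
  st1 : ∀ T ≤ A8, IsPGroup 2 T → ∀ x ∈ Fix T, DV x → Nat.card T ≤ 4
  syl2 : ∃ T ≤ A8 ⊓ cen1 (σl 1), IsPGroup 2 T ∧ 16 ≤ Nat.card T
  syl4 : ∃ T ≤ A8 ⊓ cen1 σ₄, IsPGroup 2 T ∧ 64 ≤ Nat.card T
  rk : ∀ E ≤ A8, El E → Nat.card E ≤ 16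
  fix4 : ∀ E ≤ A8, El E → 4 ≤ Nat.card E → Nat.card (Fix E) ≤ 64
  fix16 : ∀ E ≤ A8, El E → 16 ≤ Nat.card E → Nat.card (Fix E) ≤ 4
  pure : ∀ E ≤ A8, El E → (∀ σ ∈ E, σ ≠ 1 → FP σ) → Nat.card E ≤ 8
  pure8 : ∀ E ≤ A8, El E → (∀ σ ∈ E, σ ≠ 1 → FP σ) → Nat.card E = 8 →
    A8 ⊓ cen E ≤ E ∧ (∀ x ∈ Fix E, qf x = 0) ∧ (∀ σ ∈ E, Rad σ ⊆ Fix E) ∧
    (∀ σ ∈ E, ∀ π ∈ E, σ ≠ 1 → π ≠ 1 → σ ≠ π → ∀ x ∈ Fix E, ∃ y ∈ Rad σ, ∃ y' ∈ Rad π, x = y + y') ∧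
    ∃ σ ∈ E, ∃ π ∈ E, ∃ ρ ∈ E, σ ≠ 1 ∧ π ≠ 1 ∧ ρ ≠ 1 ∧ ∀ x ∈ Rad σ, x ∈ Rad π → x ∈ Rad ρ → x = 0

structure AF : Prop extends AF₁, AF₂

/-! ### The local structure -/

structure SG (G : Type u) [Group G] extends GD G where
  R : Subgroup G
  O : Subgroup G
  r : F4 → G
  β : F4 → G

namespace SG
variable (s : SG G)

def w₁ (y : F4) : G := s.n * s.β y * s.n⁻¹
def s0 : G := s.w₁ 1 * (s.τ * s.l 1 * s.τ⁻¹)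
def p (x : V6) (e : F4) : G :=
  s.r x.1 * s.β x.2.1 * s.u x.2.2.1 x.2.2.2.1 e * s.v x.2.2.2.2.1 x.2.2.2.2.2
def P : Subgroup G := closure {g | ∃ x e, s.p x e = g}
def Y : Subgroup G := closure {g | (∃ y, s.w₁ y = g ∨ s.l y = g) ∨ s.τ = g} ⊔ s.P
/-- `g` induces `φ` on `P / Z`. -/
def Act (g : G) (φ : V6 → V6) : Prop := ∀ x, ∃ e, g * s.p x 0 * g⁻¹ = s.p (φ x) e
abbrev M : Subgroup G := cen s.Z ⊓ nor s.P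
def Dr (g : G) : Prop := ∃ c ∈ cen s.Z, c * s.r 1 * c⁻¹ = g

end SG

structure Cg (s : SG G) : Prop where
  g0 : G0 s.toGD
  g1 : G1 s.toGD
  gp : GP s.toGD s.R s.r
  le : s.O ≤ s.K ⊓ cen s.R
  odd : Odd (Nat.card s.O)
  ck : ∀ k ∈ s.K, ∀ c ≠ 0, Commute k (s.r c) → ∃ o ∈ s.O, ∃ c', k = o * s.r c'
  add : ∀ a b, s.β (a + b) = s.β a * s.β b
  βD : ∀ a, ∀ g ∈ s.D, Commute (s.β a) g
  βO : ∀ a, ∀ o ∈ s.O, Commute (s.β a) o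
  βr : ∀ a c, s.β a * s.r c * (s.β a)⁻¹ = s.r c * s.z (c * a)
  hβ : ∀ a, s.h * s.β a * s.h⁻¹ = s.β (F4.w * a)
  wβ : ∀ y a, s.w₁ y * s.β a * (s.w₁ y)⁻¹ = s.β a * s.u (y ^ 2 * a) 0 (y * a ^ 2)
  vw : ∀ y b, s.u 0 b 0 * s.w₁ y * (s.u 0 b 0)⁻¹ =
    s.w₁ y * s.β (y * b) * s.r (y ^ 2 * b) * s.u (y ^ 3 * b) 0 0

/-- The extraspecial group of the centralizer of `x`. -/
structure C1 (s : SG G) (Q : Subgroup G) : Prop where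
  two : IsPGroup 2 Q
  card : Nat.card Q = 128
  sq : ∀ q ∈ Q, q * q = 1 ∨ q * q = s.z 1
  cm : ∀ q ∈ Q, ∀ q' ∈ Q, q * q' * q⁻¹ = q' ∨ q * q' * q⁻¹ = q' * s.z 1
  v0 : ∀ a e, (a = 0 ∨ a = 1) → s.u a 0 e ∈ Q
  le : Q ≤ cen s.O ⊓ nor s.Z ⊓ cen1 s.x
  mv : ∃ q ∈ Q, q * q = 1 ∧ q * s.z F4.w * q⁻¹ = s.z F4.v
  nZ : cen s.Z ⊓ cen1 s.x ≤ nor Q
  tr : ∀ q ∈ Q, q * q = 1 → q ≠ 1 → q ≠ s.z 1 → ∃ g ∈ nor Q, g * s.z F4.w * g⁻¹ = q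

/-- The action of `M = C(Z) ⊓ N(P)`. -/
structure CA (s : SG G) (θ : s.M →* Perm (Fin 8)) : Prop where
  act : ∀ g : s.M, s.Act g (th (θ g))
  alt : ∀ g, θ g ∈ A8
  sur : ∀ σ ∈ A8, ∃ g : s.M, ↑g ∈ s.Y ∧ θ g = σ
  ker : ∀ g ∈ cen s.Z, s.Act g id → ∃ o ∈ s.O, ∃ x e, g = o * s.p x e
  k2 : ∀ g : s.M, θ g = 1 → (∃ k, (g : G) ^ 2 ^ k = 1) → ↑g ∈ s.P
  nO : s.M ≤ nor s.O
  tO : ∀ g ∈ s.M, (∃ k, g ^ 2 ^ k = 1) → g ∈ cen s.O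
  ki : ∀ x e, KI s.K (s.p x e) ↔ DV x
  kc : ∀ x e, DV x → ∃ g ∈ s.Y, g * s.r 1 * g⁻¹ = s.p x e
  nv : ∀ x e, NV x → IsConj (s.p e0 0) (s.p x e)
  cr : ∀ g ∈ cen s.Z, ∀ x e e', DV x → g * s.p x e * g⁻¹ = s.p x e' → g ∈ nor s.P
  nf4 : ∀ g : s.M, (g : G) * g ∈ s.Z → θ g = σ₄ → ∃ x e, th σ₄ x = x ∧ ↑g = s.s0 * s.p x e
  two2 : ∀ g : s.M, (g : G) * g = 1 → θ g ≠ 1 → ¬ FP (θ g) → KI s.K g ∨ IsConj (s.p e0 0) g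
  big : ∀ t ∈ s.M, KI s.K t → ∃ T ≤ s.M ⊓ cen1 t, IsPGroup 2 T ∧ 4096 ≤ Nat.card T
  odd : ∀ X ≤ cen1 (s.z 1), Odd (Nat.card X) → s.P ≤ nor X → X ≤ s.O

/-- The extraspecial group. -/
structure CQ (s : SG G) (Q : Subgroup G) : Prop where
  xs : H78.XS Q (s.z 1)
  card : Nat.card Q = 512
  re : ∀ x e, s.p x e ∈ Q ↔ Xs x = x
  cP : Q ⊓ cen s.Z ≤ s.P
  le : Q ≤ cen s.O ⊓ nor s.Z
  mv : ∃ q ∈ Q, q * q = 1 ∧ q * s.z F4.w * q⁻¹ = s.z F4.v ∧ s.Act q Xs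
  nZ : nor s.Z ⊓ cen1 (s.z 1) ≤ nor Q
  tr : ∀ q ∈ Q, q * q = 1 → q ≠ 1 → q ≠ s.z 1 → ∃ g ∈ nor Q, g * s.z F4.w * g⁻¹ = q
  gen : Q ≤ closure {q | q ∈ Q ∧ q * q = 1}
  cq : ∀ a ∈ nor s.Z ⊓ cen1 (s.z 1), (∀ q ∈ Q, a * q * a⁻¹ = q ∨ a * q * a⁻¹ = q * s.z 1) →
    ∃ o ∈ s.O, ∃ q ∈ Q, a = o * q
  cnt : Nat.card {q : Q // q * q = 1} = 272

/-- The Sylow subgroup. -/
structure CS (s : SG G) (Q S : Subgroup G) : Prop where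
  syl : IsSyl 2 S ⊤
  le : S ≤ nor s.Z ⊓ cen1 (s.z 1) ⊓ cen s.O
  qs : Q ≤ S
  cz : ∀ t ∈ nor Q, t * t = 1 → ∃ g ∈ nor Q, g * t * g⁻¹ ∈ cen s.Z
  n0 : ¬ IsConj (s.z 1) (s.p e0 0)

/-- Conjugates of `z ω` under `C(z 1)` that lie in `P` lie in `Q`. -/
def B0 (s : SG G) (Q : Subgroup G) : Prop :=
  ∀ g ∈ cen1 (s.z 1), g * s.z F4.w * g⁻¹ ∈ s.P → g * s.z F4.w * g⁻¹ ∈ Q

/-! ### Jobs -/

def JobFR : Prop := ∀ (G : Type u) [Group G] (φ : Γ →* G), Function.Injective φ → GR (frm φ)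

def JobFB : Prop := ∀ (G : Type u) [Group G] (φ : Γ →* G), Function.Injective φ → GR (frm φ) →
  GB (frm φ)

def JobFA : Prop := ∀ (G : Type u) [Group G] (φ : Γ →* G), Function.Injective φ → GA (frm φ)

def JobG1 : Prop := ∀ (G : Type u) [Group G] [Finite G] (d : GD G), G0 d → G1 d

def JobGP : Prop := ∀ (G : Type u) [Group G] [Finite G] (d : GD G), G0 d → G1 d →
  ¬ PRankLE 2 1 d.K → (∃ g ∉ d.N, ∃ s ∈ cj g d.K ⊓ d.N, orderOf s = 2) → ∃ R r, GP d R r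

def JobGC : Prop := ∀ (G : Type u) [Group G] [Finite G] (d : GD G) (R : Subgroup G) (r : F4 → G),
  G0 d → G1 d → GP d R r → ∃ O β Q, Cg ⟨d, R, O, r, β⟩ ∧ C1 ⟨d, R, O, r, β⟩ Q

def JobCA : Prop := ∀ (G : Type u) [Group G] [Finite G] (s : SG G), AF → Cg s → ∃ θ, CA s θ

def JobW : Prop := ∀ (G : Type u) [Group G] [Finite G] (s : SG G) (θ : s.M →* Perm (Fin 8)),
  AF → Cg s → CA s θ → H21.TE.Sh (cen s.Z) s.Z s.P s.Dr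

def JobSC : Prop := ∀ (G : Type u) [Group G] [Finite G] (s : SG G) (θ : s.M →* Perm (Fin 8)),
  AF → Cg s → CA s θ → H21.TE.Sh (cen s.Z) s.Z s.P s.Dr → nor s.Z ≤ nor s.P

def JobCQ : Prop := ∀ (G : Type u) [Group G] [Finite G] (s : SG G) (θ : s.M →* Perm (Fin 8))
  (Q₁ : Subgroup G), AF → Cg s → CA s θ → nor s.Z ≤ nor s.P → C1 s Q₁ → ∃ Q, CQ s Q

def JobCS : Prop := ∀ (G : Type u) [Group G] [Finite G] (s : SG G) (θ : s.M →* Perm (Fin 8))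
  (Q : Subgroup G), AF → Cg s → CA s θ → nor s.Z ≤ nor s.P → CQ s Q → ∃ S, CS s Q S

def JobB0 : Prop := ∀ (G : Type u) [Group G] [Finite G] (s : SG G) (θ : s.M →* Perm (Fin 8))
  (Q : Subgroup G), AF → Cg s → CA s θ → nor s.Z ≤ nor s.P → CQ s Q →
  ¬ IsConj (s.z 1) (s.p e0 0) → B0 s Q

def JobB4 : Prop := ∀ (G : Type u) [Group G] [Finite G] (s : SG G) (θ : s.M →* Perm (Fin 8))
  (Q S : Subgroup G), AF → Cg s → CA s θ → nor s.Z ≤ nor s.P → CQ s Q → CS s Q S → B0 s Q →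
  cen1 (s.z 1) ≤ nor Q

def JobEnd : Prop := ∀ (G : Type u) [Group G] [Finite G] [IsSimpleGroup G] (s : SG G)
  (θ : s.M →* Perm (Fin 8)) (Q S : Subgroup G), AF → Cg s → CA s θ → nor s.Z ≤ nor s.P → CQ s Q →
  CS s Q S → cen1 (s.z 1) ≤ nor Q → Spor.IsoCo1 G

end H88.CG
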