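/- CG (blueprints/CG.md): coordinates on `P`, the action of `w₁`, `l`, `τ`, `x`, `h`, `s0`, counting. -/
import Cfsg.Agent.H88.CGSpec
import Cfsg.Agent.H88.TEBase

set_option autoImplicit false
set_option linter.unusedSectionVars false
set_option maxRecDepth 100000
set_option synthInstance.maxSize 4096

namespace H88.CG

open Subgroup Cfsg H98 H1.Gold H86.L34 H88.AS Equiv
open H6 (F4)
open H88.TE (El sqs mc1)

universe u
variable {G : Type u} [Group G]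

theorem v_self (x : V6) : x + x = 0 := by ext <;> simp

theorem v_neg (x : V6) : -x = x := rfl

theorem bf_comm (x y : V6) : bf x y = bf y x := by simp only [bf]; ring

theorem bf_self (x : V6) : bf x x = 0 := by
  simp only [bf]
  linear_combination (x.1 * x.2.1 + x.2.2.1 * x.2.2.2.1 + x.2.2.2.2.1 * x.2.2.2.2.2) * F4.two_eq

theorem bf_add (x y y' : V6) : bf x (y + y') = bf x y + bf x y' := by
  simp only [bf, Prod.fst_add, Prod.snd_add]; ring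

theorem add_bf (x x' y : V6) : bf (x + x') y = bf x y + bf x' y := by
  simp only [bf, Prod.fst_add, Prod.snd_add]; ring

theorem bf_smul (c : F4) (x y : V6) : bf x (c • y) = c * bf x y := by
  simp only [bf, Prod.smul_fst, Prod.smul_snd, smul_eq_mul]; ring

theorem smul_bf (c : F4) (x y : V6) : bf (c • x) y = c * bf x y := by
  simp only [bf, Prod.smul_fst, Prod.smul_snd, smul_eq_mul]; ring

@[simp] theorem bf_zero (x : V6) : bf x 0 = 0 := by simp [bf]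

@[simp] theorem zero_bf (x : V6) : bf 0 x = 0 := by simp [bf]

@[simp] theorem qf_zero : qf 0 = 0 := by simp [qf]

theorem qf_add (x y : V6) : qf (x + y) = qf x + qf y + bf x y := by
  simp only [qf, bf, Prod.fst_add, Prod.snd_add]; ring

theorem qf_smul (c : F4) (x : V6) : qf (c • x) = c ^ 2 * qf x := by
  simp only [qf, Prod.smul_fst, Prod.smul_snd, smul_eq_mul]; ring

theorem bf_nondeg {x : V6} (h : ∀ y, bf x y = 0) : x = 0 :=
  Prod.ext (by simpa [bf] using h (0, 1, 0, 0, 0, 0)) (Prod.ext (by simpa [bf] using h (1, 0, 0, 0, 0, 0))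
    (Prod.ext (by simpa [bf] using h (0, 0, 0, 1, 0, 0)) (Prod.ext (by simpa [bf] using h (0, 0, 1, 0, 0, 0))
      (Prod.ext (by simpa [bf] using h (0, 0, 0, 0, 0, 1)) (by simpa [bf] using h (0, 0, 0, 0, 1, 0))))))

theorem bf_onto {x : V6} (h : x ≠ 0) (e : F4) : ∃ y, bf x y = e := by
  obtain ⟨y, hy⟩ := not_forall.1 fun k => h (bf_nondeg k)
  exact ⟨(e * (bf x y)⁻¹) • y, by rw [bf_smul, inv_mul_cancel_right₀ hy]⟩

theorem sq_add (a b : F4) : (a + b) ^ 2 = a ^ 2 + b ^ 2 := by revert a b; decide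

theorem sq_sq (a : F4) : (a ^ 2) ^ 2 = a := by revert a; decide

theorem Xs_add (x y : V6) : Xs (x + y) = Xs x + Xs y := by simp [Xs, sq_add]

theorem Xs_smul (c : F4) (x : V6) : Xs (c • x) = c ^ 2 • Xs x := by simp [Xs, mul_pow]

theorem Xs_Xs (x : V6) : Xs (Xs x) = x := by simp [Xs, sq_sq]

theorem bf_Xs (x y : V6) : bf (Xs x) (Xs y) = bf x y ^ 2 := by simp only [bf, Xs, sq_add]; ring

theorem qf_Xs (x : V6) : qf (Xs x) = qf x ^ 2 := by simp only [qf, Xs, sq_add]; ring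

theorem card_V6 : Nat.card V6 = 4096 := by simp; rfl

/-- `perp` as a subgroup -/
def perpS (B : Set V6) : AddSubgroup V6 where
  carrier := perp B
  add_mem' ha hb x hx := by rw [bf_add, ha x hx, hb x hx, add_zero]
  zero_mem' x _ := bf_zero x
  neg_mem' h := h

/-- the real vectors -/
def realS : AddSubgroup V6 where
  carrier := {x | Xs x = x}
  add_mem' {a b} (ha : Xs a = a) (hb : Xs b = b) := show Xs _ = _ by rw [Xs_add, ha, hb]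
  zero_mem' := by show Xs 0 = 0; decide
  neg_mem' h := h

namespace AF₁
variable (a : AF₁)
include a

theorem zero (σ : Perm (Fin 8)) : th σ 0 = 0 := by simpa using a.smul σ 0 0

theorem inv_th (σ : Perm (Fin 8)) (x : V6) : th σ⁻¹ (th σ x) = x := by rw [← a.mul, inv_mul_cancel, a.one]

theorem th_inv (σ : Perm (Fin 8)) (x : V6) : th σ (th σ⁻¹ x) = x := by rw [← a.mul, mul_inv_cancel, a.one]

theorem ext {σ π : Perm (Fin 8)} (h : ∀ x, th σ x = th π x) : σ = π :=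
  (inv_mul_eq_one.1 (a.inj _ fun x => by rw [a.mul, h, a.inv_th])).symm

/-- `Fix` as a subgroup -/
def fixS (E : Subgroup (Perm (Fin 8))) : AddSubgroup V6 where
  carrier := Fix E
  add_mem' hx hy σ h := by rw [a.add, hx σ h, hy σ h]
  zero_mem' σ _ := a.zero σ
  neg_mem' h := h

/-- the fixed vectors of one permutation -/
def fix1 (σ : Perm (Fin 8)) : AddSubgroup V6 where
  carrier := {x | th σ x = x}
  add_mem' {x y} (hx : th σ x = x) (hy : th σ y = y) := show th σ _ = _ by rw [a.add, hx, hy]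
  zero_mem' := a.zero σ
  neg_mem' h := h

/-- `Rad` as a subgroup -/
def radS (σ : Perm (Fin 8)) : AddSubgroup V6 where
  carrier := Rad σ
  add_mem' := by
    rintro _ _ ⟨x, rfl⟩ ⟨y, rfl⟩
    exact ⟨x + y, by rw [a.add]; abel⟩
  zero_mem' := ⟨0, by rw [a.zero, add_zero]⟩
  neg_mem' h := h

theorem rad_fix {σ : Perm (Fin 8)} (h : σ * σ = 1) {x : V6} (hx : x ∈ Rad σ) : th σ x = x := by
  obtain ⟨y, rfl⟩ := hx
  rw [a.add, ← a.mul, h, a.one, add_comm]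

theorem rad_perp {σ : Perm (Fin 8)} {x y : V6} (hx : x ∈ Rad σ) (hy : th σ y = y) : CG.bf x y = 0 := by
  obtain ⟨x, rfl⟩ := hx
  rw [add_bf]
  nth_rewrite 1 [← hy]
  rw [a.bf, F4.add_self]

theorem dv_th {σ : Perm (Fin 8)} (h : σ ∈ A8) {x : V6} : DV x → DV (th σ x) :=
  fun ⟨π, h1, h2⟩ => ⟨σ * π, mul_mem h h1, by rw [a.mul, h2]⟩

theorem dv_r {c : F4} (h : c ≠ 0) : DV (c, 0, 0, 0, 0, 0) := by
  simpa [er] using a.dvs er c ⟨1, one_mem _, a.one _⟩ h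

theorem t₄ : ∀ x, th σ₄ x = W₁ 1 (Wτ (Wl 1 (Wτ x))) := fun x => by
  rw [← a.tτ, ← a.tl, ← a.tτ, ← a.tw, ← a.mul, ← a.mul, ← a.mul]
  congr 1
  decide

end AF₁

/-- on the fixed space of `σ₄` -/
theorem fix₄ (a : AF₁) {x : V6} (h : th σ₄ x = x) : x.2.2.2.1 = 0 ∧ x.2.2.2.2.2 = x.1 + x.2.1 + x.2.2.2.2.1 := by
  rw [a.t₄] at h
  obtain ⟨c, d, a', b, s, t⟩ := x
  simp only [W₁, Wτ, Wl, Prod.mk.injEq, one_pow, one_mul, mul_one] at h
  obtain rfl : b = 0 := left_eq_add.1 h.1.symm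
  refine ⟨rfl, ?_⟩
  have := h.2.2.1
  revert this
  exact (by decide : ∀ c d a' s t : F4, a' + 0 + t + s + c + d + 0 = a' → t = c + d + s) c d a' s t

theorem qf_fix₄ (a : AF₁) {x : V6} (h : th σ₄ x = x) : qf x = bf k₁ x * bf k₂ x := by
  obtain ⟨h1, h2⟩ := fix₄ a h
  obtain ⟨c, d, a', b, s, t⟩ := x
  obtain rfl : b = 0 := h1
  obtain rfl : t = c + d + s := h2
  simp only [qf, bf, k₁, k₂, mul_zero, zero_mul, add_zero]
  clear h
  revert c d s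
  decide

theorem rad₄ (a : AF₁) {x : V6} : x ∈ Rad σ₄ ↔ th σ₄ x = x ∧ bf k₁ x = 0 ∧ bf k₂ x = 0 := by
  refine ⟨fun h => ⟨a.rad_fix (by decide) h, ?_, ?_⟩, ?_⟩
  · rw [bf_comm]; exact a.rad_perp h (by rw [a.t₄]; decide)
  · rw [bf_comm]; exact a.rad_perp h (by rw [a.t₄]; decide)
  rintro ⟨h, h1, h2⟩
  obtain ⟨e1, e2⟩ := fix₄ a h
  clear h
  obtain ⟨c, d, a', b, s, t⟩ := x
  obtain rfl : b = 0 := e1
  obtain rfl : t = c + d + s := e2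
  obtain ⟨e1, e2⟩ : d = c ∧ s = c := by
    simp only [bf, k₁, k₂, mul_zero, add_zero, zero_mul] at h1 h2
    revert c d s
    decide
  refine ⟨(a', 0, 0, c, 0, 0), ?_⟩
  rw [a.t₄, e1, e2]
  clear h1 h2 e1 e2
  revert a' c
  decide

namespace GR
variable {d : GD G} (h : GR d)
include h

theorem z0 : d.z 0 = 1 := h.hm.one
theorem zz (e e' : F4) : d.z e * d.z e' = d.z (e + e') := by rw [h.hm.mul]; simp
theorem z_sq (e : F4) : d.z e * d.z e = 1 := by rw [h.zz, F4.add_self, h.z0]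
theorem z_inj {e e' : F4} (k : d.z e = d.z e') : e = e' := (h.hm.ext k).2.2
theorem z_ord {e : F4} (k : e ≠ 0) : orderOf (d.z e) = 2 :=
  H14.orderOf_two_of_mul_self (h.z_sq e) fun e' => k (h.hm.inj e').2.2
theorem v0 : d.v 0 0 = 1 := by simpa [h.z0] using h.vv 0 0 0 0
theorem l0 : d.l 0 = 1 := by simpa using h.ll 0 0
theorem l_sq (t : F4) : d.l t * d.l t = 1 := by rw [h.ll, F4.add_self, h.l0]
theorem v_dec (s t : F4) : d.v s t = d.v s 0 * d.v 0 t := by simp [h.vv, h.z0]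
theorem τ_inv : d.τ⁻¹ = d.τ := inv_eq_of_mul_eq_one_right h.ττ
theorem n_inv : d.n⁻¹ = d.n := inv_eq_of_mul_eq_one_right h.nn
theorem τv' (t : F4) : d.τ * d.v 0 t * d.τ⁻¹ = d.v t 0 := by
  rw [← h.τv, h.τ_inv]; simp only [← mul_assoc, h.ττ, one_mul]; rw [mul_assoc, h.ττ, mul_one]
theorem hz (e : F4) : d.h * d.z e * d.h⁻¹ = d.z (F4.w * e) := by rw [h.hu, mul_zero]
theorem τz (e : F4) : d.τ * d.z e * d.τ⁻¹ = d.z e := by simpa using h.τu 0 0 e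
theorem nz (e : F4) : d.n * d.z e * d.n⁻¹ = d.u e 0 0 := h.nu 0 e
theorem mA : d.m ∈ d.A := mul_mem (mul_mem h.τA h.nA) (inv_mem h.τA)
theorem xA : d.x ∈ d.A :=
  mul_mem (mul_mem (mul_mem (mul_mem (mul_mem (h.lA _) h.τA) (h.lA _)) h.τA) (h.lA _)) h.τA
theorem mm : d.m * d.m = 1 := by rw [GD.m, conj_mul, h.nn]; simp
theorem mu (b c : F4) : d.m * d.u 0 b c * d.m⁻¹ = d.u 0 c b := by
  have h1 := h.τu b 0 c
  have h2 := h.τu c 0 b
  simp only [mul_zero, add_zero] at h1 h2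
  rw [← h1, ← h2, GD.m, conj_inv, conj_mul, conj_mul, h.nu]
theorem ml (t : F4) : d.m * d.l t * d.m⁻¹ = d.v t 0 := by
  have h1 : d.n * (d.τ * d.l t * d.τ⁻¹) * d.n⁻¹ = d.v 0 t := by
    rw [← h.nv₂, h.n_inv]; simp only [← mul_assoc, h.nn, one_mul]; rw [mul_assoc, h.nn, mul_one]
  rw [← h.τv', ← h1, GD.m, mul_inv_rev, mul_inv_rev, inv_inv, h.τ_inv]
  group
theorem mv (t : F4) : d.m * d.v 0 t * d.m⁻¹ = d.v 0 t := by
  rw [← h.τv, GD.m, conj_inv, conj_mul, conj_mul, (h.nv₁ t).eq, mul_inv_cancel_right]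
theorem xτ : d.x * d.τ = d.τ * d.x⁻¹ := by
  rw [← h.τx, h.τ_inv]; simp only [← mul_assoc, h.ττ, one_mul]
theorem xm : Commute d.x d.m := by
  have e : d.τ * d.x⁻¹ * d.τ⁻¹ = d.x := by rw [← h.xτ, mul_inv_cancel_right]
  rw [← e, GD.m, Commute, SemiconjBy, conj_mul, conj_mul, h.xn.inv_left.eq]
theorem mem_Z {g : G} : g ∈ d.Z ↔ ∃ e, d.z e = g :=
  ⟨fun hx => h.hm.mem_Z.1 ((closure_le (h.hm.A ⊓ h.hm.B)).2 (fun _ he => h.hm.mem_Z.2 he) hx),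
    fun he => subset_closure he⟩
theorem mem_U {g : G} : g ∈ d.U ↔ ∃ a b e, d.u a b e = g :=
  ⟨fun k => (closure_le h.hm.S).2 (fun _ k => k) k, fun k => subset_closure k⟩
theorem zZ (e : F4) : d.z e ∈ d.Z := h.mem_Z.2 ⟨e, rfl⟩
theorem card_Z : Nat.card d.Z = 4 := by
  have : d.Z = h.hm.A ⊓ h.hm.B := Subgroup.ext fun _ => h.mem_Z.trans h.hm.mem_Z.symm
  rw [this, h.hm.card_Z]; simp; rfl
theorem zu (e a b c : F4) : Commute (d.z e) (d.u a b c) := by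
  rw [Commute, SemiconjBy, h.hm.mul, h.hm.mul]; congr 1 <;> ring
theorem uD (a b c : F4) : d.u a b c ∈ d.D := ⟨h.uA .., mc1.2 (h.zu ..).symm⟩
theorem vD (s t : F4) : d.v s t ∈ d.D := ⟨h.vA .., mc1.2 (h.uv ..).symm⟩
theorem lD (t : F4) : d.l t ∈ d.D := ⟨h.lA _, mc1.2 (h.lu₂ ..)⟩
theorem τD : d.τ ∈ d.D := ⟨h.τA, mc1.2 (mul_inv_eq_iff_eq_mul.1 (h.τz 1))⟩
theorem xD : d.x ∈ d.D := ⟨h.xA, mc1.2 (h.xu ..)⟩

end GR

variable {s : SG G} {g g' : G} {x y : V6} {φ ψ : V6 → V6}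

theorem mem_cenZ : g ∈ cen s.Z ↔ ∀ e, g * s.z e * g⁻¹ = s.z e := by
  simp only [GD.Z, cen, centralizer_closure, mem_centralizer_iff, Set.mem_ofPred_eq,
    forall_exists_index, mul_inv_eq_iff_eq_mul]
  exact ⟨fun h e => (h _ e rfl).symm, by rintro h _ e rfl; exact (h e).symm⟩

theorem cjZ {w : G} (hg : g ∈ cen s.Z) (hw : w ∈ s.Z) : g * w * g⁻¹ = w := by
  rw [← hg w hw, mul_inv_cancel_right]

theorem nZ (hg : g ∈ cen s.Z) : g ∈ nor s.Z := centralizer_le_normalizer _ hg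

theorem p_mem (x : V6) (e : F4) : s.p x e ∈ s.P := subset_closure ⟨x, e, rfl⟩

theorem p_cg {e e' : F4} (h1 : x = y) (h2 : e = e') : s.p x e = s.p y e' := by rw [h1, h2]

namespace Cg
variable (h : Cg s)
include h

theorem gr : GR s.toGD := h.g0.toGR
theorem hm : HM s.u := h.g0.hm
theorem r_zero : s.r 0 = 1 := by simpa using h.gp.add 0 0
theorem r_R (c : F4) : s.r c ∈ s.R := (h.gp.mem _).2 ⟨c, rfl⟩
theorem r_K (c : F4) : s.r c ∈ s.K := h.gp.syl.le (h.r_R c)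
theorem r_A (c : F4) {a : G} (ha : a ∈ s.A) : a * s.r c = s.r c * a := h.r_K c a ha
theorem β_zero : s.β 0 = 1 := by simpa using h.add 0 0
theorem β_sq (d : F4) : s.β d * s.β d = 1 := by rw [← h.add, F4.add_self, h.β_zero]
theorem r_sq (c : F4) : s.r c * s.r c = 1 := by rw [← h.gp.add, F4.add_self, h.r_zero]
theorem r_ord {c : F4} (n : c ≠ 0) : orderOf (s.r c) = 2 :=
  H14.orderOf_two_of_mul_self (h.r_sq c) fun e => n (h.gp.inj c e)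
theorem r_KI {c : F4} (n : c ≠ 0) : KI s.K (s.r c) := ⟨h.r_ord n, 1, (cj_one _).ge (h.r_K c)⟩
theorem β_r (d c : F4) : s.β d * s.r c = s.r c * s.z (c * d) * s.β d :=
  mul_inv_eq_iff_eq_mul.1 (h.βr d c)
theorem βu (d a b e : F4) : Commute (s.β d) (s.u a b e) := h.βD _ _ (h.gr.uD ..)
theorem βv (d a b : F4) : Commute (s.β d) (s.v a b) := h.βD _ _ (h.gr.vD ..)

theorem p_uv (a b e c d : F4) : s.p (0, 0, a, b, c, d) e = s.u a b e * s.v c d := by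
  simp [SG.p, h.r_zero, h.β_zero]
theorem p_u (a b e : F4) : s.p (0, 0, a, b, 0, 0) e = s.u a b e := by rw [h.p_uv, h.gr.v0, mul_one]
theorem p_v (c d : F4) : s.p (0, 0, 0, 0, c, d) 0 = s.v c d := by rw [h.p_uv, h.hm.one, one_mul]
theorem p_r (c : F4) : s.p (c, 0, 0, 0, 0, 0) 0 = s.r c := by simp [SG.p, h.β_zero, h.hm.one, h.gr.v0]
theorem p_β (d : F4) : s.p (0, d, 0, 0, 0, 0) 0 = s.β d := by simp [SG.p, h.r_zero, h.hm.one, h.gr.v0]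
theorem p_z (e : F4) : s.p 0 e = s.z e := h.p_u 0 0 e
theorem p_one : s.p 0 0 = 1 := (h.p_z 0).trans h.hm.one
theorem p_e0 : s.p e0 0 = s.r 1 * s.v 0 1 := by simp [SG.p, e0, h.β_zero, h.hm.one]

theorem p_mul (x y : V6) (e e' : F4) : s.p x e * s.p y e' =
    s.p (x + y) (e + e' + x.2.1 * y.1 + x.2.2.1 * y.2.2.2.1 + x.2.2.2.2.2 * y.2.2.2.2.1) := by
  obtain ⟨c, d, a, b, f, t⟩ := x
  obtain ⟨c', d', a', b', f', t'⟩ := y
  have h1 := h.r_A c' (mul_mem (h.g0.uA a b e) (h.g0.vA f t))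
  have h2 := ((h.βu d' a b e).mul_right (h.βv d' f t)).eq
  have h3 := (h.βu (d + d') 0 0 (c' * d)).eq
  have h4 := (h.g0.uv a' b' e' f t).eq
  have h5 := (h.g0.uv 0 0 (t * f') (f + f') (t + t')).eq
  simp only [SG.p, Prod.mk_add_mk]
  calc _ = s.r c * s.β d * (s.u a b e * s.v f t * s.r c') * s.β d' * s.u a' b' e' * s.v f' t' := by group
    _ = s.r c * (s.β d * s.r c') * (s.u a b e * s.v f t * s.β d') * s.u a' b' e' * s.v f' t' := by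
      rw [h1]; group
    _ = s.r c * s.r c' * (s.z (c' * d) * (s.β d * s.β d')) * s.u a b e * (s.v f t * s.u a' b' e') *
        s.v f' t' := by rw [h.β_r, ← h2]; group
    _ = s.r c * s.r c' * (s.z (c' * d) * (s.β d * s.β d')) * (s.u a b e * s.u a' b' e') *
        (s.v f t * s.v f' t') := by rw [← h4]; group
    _ = _ := by
      rw [← h.gp.add, ← h.add, ← h3, h.hm.mul, h.g0.vv, ← h5, ← mul_assoc, ← mul_assoc,
        mul_assoc _ (s.u 0 0 (c' * d)), h.hm.mul, mul_assoc _ (s.u _ _ _) (s.u 0 0 _), h.hm.mul]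
      congr 2
      exact cg s.u (by ring) (by ring) (by ring)

theorem p_inv (x : V6) (e : F4) : (s.p x e)⁻¹ = s.p x (e + qf x) := by
  refine inv_eq_of_mul_eq_one_right ?_
  rw [h.p_mul, v_self, ← h.p_one]
  exact p_cg rfl (by simp only [qf]; linear_combination (e + x.1 * x.2.1 + x.2.2.1 * x.2.2.2.1 +
    x.2.2.2.2.1 * x.2.2.2.2.2) * F4.two_eq)

theorem p_sq (x : V6) (e : F4) : s.p x e * s.p x e = s.z (qf x) := by
  rw [h.p_mul, v_self, ← h.p_z]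
  exact p_cg rfl (by simp only [qf]; linear_combination e * F4.two_eq)

theorem p_conj (x y : V6) (e e' : F4) : s.p x e * s.p y e' * (s.p x e)⁻¹ = s.p y (e' + bf x y) := by
  rw [h.p_inv, h.p_mul, h.p_mul]
  refine p_cg (by rw [add_right_comm, v_self, zero_add]) ?_
  simp only [qf, bf, Prod.fst_add, Prod.snd_add]
  linear_combination (e + x.1 * x.2.1 + x.2.2.1 * x.2.2.2.1 + x.2.2.2.2.1 * x.2.2.2.2.2) * F4.two_eq

theorem p_zr (x : V6) (e e' : F4) : s.p x e * s.z e' = s.p x (e + e') := by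
  rw [← h.p_z, h.p_mul]; simp

theorem p_zl (x : V6) (e e' : F4) : s.z e' * s.p x e = s.p x (e + e') := by
  rw [← h.p_z, h.p_mul]; simp [add_comm]

theorem mem_P : g ∈ s.P ↔ ∃ x e, s.p x e = g := by
  refine ⟨fun k => ?_, fun ⟨x, e, k⟩ => k ▸ p_mem x e⟩
  induction k using closure_induction with
  | mem _ k => exact k
  | one => exact ⟨0, 0, h.p_one⟩
  | mul _ _ _ _ a b =>
    obtain ⟨x, e, rfl⟩ := a
    obtain ⟨y, e', rfl⟩ := b
    exact ⟨_, _, (h.p_mul ..).symm⟩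
  | inv _ _ a =>
    obtain ⟨x, e, rfl⟩ := a
    exact ⟨_, _, (h.p_inv ..).symm⟩

theorem mem_Z : g ∈ s.Z ↔ ∃ e, s.z e = g := h.gr.mem_Z

theorem p_ext {e e' : F4} (k : s.p x e = s.p y e') : x = y ∧ e = e' := by
  have key : ∀ x e, s.p x e = 1 → x = 0 ∧ e = 0 := fun x e k => by
    obtain rfl : x = 0 := bf_nondeg fun y => by
      have := h.p_conj x y e 0
      rw [k, one_mul, inv_one, mul_one, ← h.p_zr, left_eq_mul] at this
      exact (h.hm.inj this).2.2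
    exact ⟨rfl, (h.hm.inj ((h.p_z e).symm.trans k)).2.2⟩
  have h1 := mul_inv_eq_one.2 k
  rw [h.p_inv, h.p_mul] at h1
  obtain rfl : x = y := by
    rw [← add_zero x, ← v_self y, ← add_assoc, (key _ _ h1).1, zero_add]
  have h2 := (key _ _ h1).2
  simp only [qf] at h2
  exact ⟨rfl, by
    linear_combination h2 - (e' + x.1 * x.2.1 + x.2.2.1 * x.2.2.2.1 + x.2.2.2.2.1 * x.2.2.2.2.2) * F4.two_eq⟩

theorem p_mem_Z {e : F4} : s.p x e ∈ s.Z ↔ x = 0 :=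
  ⟨fun k => let ⟨_, k⟩ := h.mem_Z.1 k; (h.p_ext ((h.p_z _).trans k)).1.symm,
    by rintro rfl; exact h.p_z e ▸ h.gr.zZ e⟩

theorem p_comm {e e' : F4} : Commute (s.p x e) (s.p y e') ↔ bf x y = 0 := by
  rw [Commute, SemiconjBy, ← mul_inv_eq_iff_eq_mul, h.p_conj]
  exact ⟨fun k => left_eq_add.1 (h.p_ext k).2.symm, fun k => by rw [k, add_zero]⟩

theorem P_cenZ (hg : g ∈ s.P) : g ∈ cen s.Z := mem_cenZ.2 fun e => by
  obtain ⟨x, e', rfl⟩ := h.mem_P.1 hg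
  rw [h.p_zr, ← h.p_zl, mul_inv_cancel_right]

theorem Z_le_P : s.Z ≤ s.P := fun _ k => by
  obtain ⟨e, rfl⟩ := h.mem_Z.1 k
  exact h.p_z e ▸ p_mem 0 e

theorem P_sq (hq : g ∈ s.P) : g * g ∈ s.Z := by
  obtain ⟨x, e, rfl⟩ := h.mem_P.1 hq
  exact h.p_sq x e ▸ h.gr.zZ _

theorem P_cm (hq : g ∈ s.P) (hw : g' ∈ s.P) : g * g' * g⁻¹ * g'⁻¹ ∈ s.Z := by
  obtain ⟨x, e, rfl⟩ := h.mem_P.1 hq
  obtain ⟨y, e', rfl⟩ := h.mem_P.1 hw
  rw [h.p_conj, ← h.p_zl, mul_inv_cancel_right]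
  exact h.gr.zZ _

theorem four (hg : g * g ∈ s.Z) : g ^ 2 ^ 2 = 1 := by
  obtain ⟨e, k⟩ := h.mem_Z.1 hg
  rw [show 2 ^ 2 = 2 * 2 from rfl, pow_mul, pow_two, pow_two, ← k, h.gr.z_sq]

theorem P_two : IsPGroup 2 s.P := isPGroup_iff_forall.2 fun _ k => ⟨2, h.four (h.P_sq k)⟩

theorem A_cenO {a : G} (ha : a ∈ s.A) : a ∈ cen s.O := fun _ ho => ((h.le ho).1 a ha).symm

theorem β_cenO (y : F4) : s.β y ∈ cen s.O := fun o ho => (h.βO y o ho).symm.eq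

theorem P_cenO (hg : g ∈ s.P) : g ∈ cen s.O := by
  obtain ⟨x, e, rfl⟩ := h.mem_P.1 hg
  exact mul_mem (mul_mem (mul_mem (fun o ho => ((h.le ho).2 _ (h.r_R _)).symm) (h.β_cenO _))
    (h.A_cenO (h.g0.uA ..))) (h.A_cenO (h.g0.vA ..))

theorem QA_le : s.QA ≤ s.P := (closure_le _).2 (by
  rintro _ ⟨a, b, e, c, d, rfl⟩
  exact h.p_uv .. ▸ p_mem _ _)

/-- an element `o * g` of `2`-power order, with `g` a `2`-element centralizing `O` -/
theorem o_one {o : G} (ho : o ∈ s.O) (hg : g ∈ cen s.O) (h1 : ∃ k, g ^ 2 ^ k = 1)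
    (h2 : ∃ k, (o * g) ^ 2 ^ k = 1) : o = 1 := by
  obtain ⟨k, h1⟩ := h1
  obtain ⟨j, h2⟩ := h2
  have c : Commute o g := hg o ho
  refine H88.TE.eq_one_of_odd (n := k + j) (h.odd.of_dvd_nat (s.O.orderOf_dvd_natCard ho)) ?_
  have : (o * g) ^ 2 ^ (k + j) = 1 := by rw [pow_add, mul_comm (2 ^ k), pow_mul, h2, one_pow]
  rwa [c.mul_pow, pow_add, pow_mul g, h1, one_pow, mul_one, ← pow_add] at this

/-! ### `Act` -/

theorem act_p (x : V6) (e : F4) : s.Act (s.p x e) id := fun _ => ⟨_, h.p_conj ..⟩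

theorem act_uniq (h1 : s.Act g φ) (h2 : s.Act g ψ) : φ = ψ := funext fun x => by
  obtain ⟨e, k⟩ := h1 x
  obtain ⟨e', k'⟩ := h2 x
  exact (h.p_ext (k.symm.trans k')).1

theorem act_cen (hg : g ∈ cen s.P) : s.Act g id := fun x =>
  ⟨0, by rw [← hg _ (p_mem x 0), mul_inv_cancel_right]; rfl⟩

section
variable [Finite G]

theorem cj_z (hg : g ∈ nor s.Z) (e : F4) : ∃ e', g * s.z e * g⁻¹ = s.z e' :=
  (h.mem_Z.1 (conj_mem_of_mem_normalizer hg (h.gr.zZ e))).imp fun _ => Eq.symm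

theorem act_all (hg : g ∈ nor s.Z) (h1 : s.Act g φ) (x : V6) (e : F4) :
    ∃ e', g * s.p x e * g⁻¹ = s.p (φ x) e' := by
  obtain ⟨e1, k1⟩ := h1 x
  obtain ⟨e2, k2⟩ := h.cj_z hg e
  exact ⟨e1 + e2, by rw [← h.p_zr, ← k1, ← k2, conj_mul, h.p_zr, zero_add]⟩

theorem act_mul (hg : g ∈ nor s.Z) (h1 : s.Act g φ) (h2 : s.Act g' ψ) : s.Act (g * g') (φ ∘ ψ) :=
  fun x => by
    obtain ⟨e, k⟩ := h2 x
    obtain ⟨e', k'⟩ := h.act_all hg h1 (ψ x) e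
    exact ⟨e', by rw [Function.comp_apply, ← k', ← k]; group⟩

theorem act_inv (hg : g ∈ nor s.Z) (h1 : s.Act g φ) (e : ∀ x, φ (ψ x) = x) : s.Act g⁻¹ ψ := fun x => by
  obtain ⟨e1, k1⟩ := h1 (ψ x)
  obtain ⟨e2, k2⟩ := h.cj_z (inv_mem hg) e1
  refine ⟨e2, ?_⟩
  rw [e] at k1
  have k3 : s.p x 0 = s.p x e1 * s.z e1 := by rw [h.p_zr, F4.add_self]
  rw [← zero_add e2, ← h.p_zr, ← k2, k3, ← k1]
  group

theorem act_nor (hg : g ∈ nor s.Z) (h1 : s.Act g φ) : g ∈ nor s.P := mem_normalizer_of_cj_le (by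
  rintro _ ⟨q, hq, rfl⟩
  obtain ⟨x, e, rfl⟩ := h.mem_P.1 hq
  obtain ⟨e', k⟩ := h.act_all hg h1 x e
  exact h.mem_P.2 ⟨_, _, k.symm⟩)

theorem act_ex (hg : g ∈ nor s.P) : ∃ φ, s.Act g φ := by
  choose φ e k using fun x => h.mem_P.1 (conj_mem_of_mem_normalizer hg (p_mem x 0))
  exact ⟨φ, fun x => ⟨e x, (k x).symm⟩⟩

theorem act_add (hg : g ∈ nor s.Z) (h1 : s.Act g φ) (x y : V6) : φ (x + y) = φ x + φ y := by
  obtain ⟨e1, k1⟩ := h1 x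
  obtain ⟨e2, k2⟩ := h1 y
  obtain ⟨e3, k3⟩ := h.act_all hg h1 (x + y)
    (0 + 0 + x.2.1 * y.1 + x.2.2.1 * y.2.2.2.1 + x.2.2.2.2.2 * y.2.2.2.2.1)
  rw [← h.p_mul, ← conj_mul, k1, k2, h.p_mul] at k3
  exact (h.p_ext k3).1.symm

theorem act_bf (h1 : s.Act g φ) (x y : V6) : g * s.z (bf x y) * g⁻¹ = s.z (bf (φ x) (φ y)) := by
  obtain ⟨e1, k1⟩ := h1 x
  obtain ⟨e2, k2⟩ := h1 y
  have := h.p_conj (φ x) (φ y) e1 e2
  rw [← h.p_zr, ← k1, ← k2, conj_inv, conj_mul, conj_mul, h.p_conj, ← h.p_zr, ← conj_mul,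
    mul_right_inj] at this
  exact this

theorem act_qf (h1 : s.Act g φ) (x : V6) : g * s.z (qf x) * g⁻¹ = s.z (qf (φ x)) := by
  obtain ⟨e1, k1⟩ := h1 x
  rw [← h.p_sq (φ x) e1, ← k1, conj_mul, h.p_sq]

/-- `g` commutes with `p x e` modulo `Z` if and only if it fixes `x` -/
theorem fixes {e : F4} (hg : g ∈ nor s.Z) (h1 : s.Act g φ) :
    g * s.p x e * g⁻¹ * (s.p x e)⁻¹ ∈ s.Z ↔ φ x = x := by
  obtain ⟨e1, k1⟩ := h.act_all hg h1 x e
  rw [k1, h.p_inv, h.p_mul, h.p_mem_Z, add_eq_zero_iff_eq_neg, v_neg]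

/-- an element with square in `Z` centralizes its singular commutators -/
theorem inv_rad (hg : g ∈ cen s.Z) (h2 : g * g ∈ s.Z) (h1 : s.Act g φ) (k : qf (φ y + y) = 0)
    (e : F4) : Commute g (s.p (φ y + y) e) := by
  obtain ⟨e1, k1⟩ := h1 y
  obtain ⟨e2, k2⟩ : ∃ e2, g * s.p y 0 * g⁻¹ * (s.p y 0)⁻¹ = s.p (φ y + y) e2 :=
    ⟨_, by rw [k1, h.p_inv, h.p_mul]⟩
  have k3 : g * s.p (φ y + y) e2 * g⁻¹ = (s.p (φ y + y) e2)⁻¹ := by
    have := h.P_cenZ (p_mem y 0) _ h2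
    rw [← k2]
    calc _ = g * g * s.p y 0 * (g * g)⁻¹ * (g * (s.p y 0)⁻¹ * g⁻¹) := by group
      _ = _ := by rw [this]; group
  rw [h.p_inv, k, add_zero] at k3
  rw [show e = e2 + (e2 + e) by rw [← add_assoc, F4.add_self, zero_add], ← h.p_zr]
  exact Commute.mul_right (mul_inv_eq_iff_eq_mul.1 k3) (hg _ (h.gr.zZ _)).symm

end

/-! ### the generators -/

theorem w₁_sq (y : F4) : s.w₁ y * s.w₁ y = 1 := by rw [SG.w₁, conj_mul, h.β_sq]; simp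

theorem w₁_zero : s.w₁ 0 = 1 := by simp [SG.w₁, h.β_zero]

theorem w₁_c {a : G} (y : F4) (ha : a ∈ s.D) :
    s.w₁ y * (s.n * a * s.n⁻¹) * (s.w₁ y)⁻¹ = s.n * a * s.n⁻¹ := by
  rw [SG.w₁, conj_inv, conj_mul, conj_mul, (h.βD y a ha).eq, mul_inv_cancel_right]

theorem w₁_u (y a e : F4) : s.w₁ y * s.u a 0 e * (s.w₁ y)⁻¹ = s.u a 0 e := by
  rw [← h.g0.nu, h.w₁_c y (h.gr.uD ..)]

theorem w₁_l (y t : F4) : s.w₁ y * (s.τ * s.l t * s.τ⁻¹) * (s.w₁ y)⁻¹ = s.τ * s.l t * s.τ⁻¹ := by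
  rw [← h.g0.nv₂, h.w₁_c y (h.gr.vD ..)]

theorem w₁_v (y a t : F4) : s.w₁ y * s.v a t * (s.w₁ y)⁻¹ = s.v a t := by
  have h1 : s.n * s.v a 0 * s.n⁻¹ = s.v a 0 := by rw [(h.g0.nv₁ a).eq, mul_inv_cancel_right]
  have h2 : s.n * (s.τ * s.l t * s.τ⁻¹) * s.n⁻¹ = s.v 0 t := by
    rw [← h.g0.nv₂, h.gr.n_inv]; simp only [← mul_assoc, h.g0.nn, one_mul]
    rw [mul_assoc, h.g0.nn, mul_one]
  rw [h.gr.v_dec, ← h1, ← h2, conj_mul, h.w₁_c y (mul_mem (h.gr.vD ..)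
    (mul_mem (mul_mem h.gr.τD (h.gr.lD t)) (inv_mem h.gr.τD)))]

theorem w₁_x (y : F4) : Commute (s.w₁ y) s.x :=
  ((h.g0.xn.symm.mul_left (h.βD y _ h.gr.xD)).mul_left h.g0.xn.symm.inv_left)

theorem w₁_r (y c : F4) : s.w₁ y * s.r c * (s.w₁ y)⁻¹ = s.p (c, 0, c * y, 0, 0, 0) 0 := by
  have k := mul_inv_eq_iff_eq_mul.2 (h.r_A c h.g0.nA)
  nth_rewrite 1 [← k]
  rw [SG.w₁, conj_inv, conj_mul, conj_mul, h.βr y c, ← conj_mul, k, h.g0.nu]
  simp [SG.p, h.β_zero, h.gr.v0]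

theorem w₁_β (y d : F4) : s.w₁ y * s.β d * (s.w₁ y)⁻¹ = s.p (0, d, y ^ 2 * d, 0, 0, 0) (y * d ^ 2) := by
  simpa [SG.p, h.r_zero, h.gr.v0] using h.wβ y d

theorem w₁_b (y b : F4) :
    s.w₁ y * s.u 0 b 0 * (s.w₁ y)⁻¹ = s.p (y ^ 2 * b, y * b, y ^ 3 * b, b, 0, 0) 0 := by
  have : s.u 0 b 0 * s.w₁ y * (s.u 0 b 0)⁻¹ =
      s.w₁ y * (s.β (y * b) * s.r (y ^ 2 * b) * s.u (y ^ 3 * b) 0 0) := by
    simpa [mul_assoc] using h.vw y b
  have e : s.w₁ y * s.u 0 b 0 * (s.w₁ y)⁻¹ =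
      s.β (y * b) * s.r (y ^ 2 * b) * s.u (y ^ 3 * b) 0 0 * s.u 0 b 0 := by
    rw [inv_eq_of_mul_eq_one_right (h.w₁_sq y), mul_assoc, mul_inv_eq_iff_eq_mul.1 this, ← mul_assoc,
      ← mul_assoc, h.w₁_sq, one_mul]
  rw [e, ← h.p_β, ← h.p_r, ← h.p_u, ← h.p_u, h.p_mul, h.p_mul, h.p_mul]
  exact p_cg (by simp) (by simp only [Prod.mk_add_mk]; linear_combination (y ^ 3 * b ^ 2) * F4.two_eq)

/-- the exact action of `w₁ y` -/
theorem w₁_p (y c d a b f t e : F4) : s.w₁ y * s.p (c, d, a, b, f, t) e * (s.w₁ y)⁻¹ =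
    s.p (W₁ y (c, d, a, b, f, t)) (e + y * d ^ 2 + c * y * b) := by
  rw [SG.p, h.hm.dec, ← conj_mul, ← conj_mul, ← conj_mul, ← conj_mul, h.w₁_r, h.w₁_β, h.w₁_u, h.w₁_b,
    h.w₁_v, ← h.p_u, ← h.p_v, h.p_mul, h.p_mul, h.p_mul, h.p_mul]
  refine p_cg (by simp only [W₁, Prod.mk_add_mk]; ext <;> simp only <;> ring) ?_
  simp only [Prod.mk_add_mk]
  linear_combination (a * b + d * y ^ 2 * b) * F4.two_eq

theorem D_r (hg : g ∈ s.D) (c : F4) : g * s.r c * g⁻¹ = s.r c := mul_inv_eq_iff_eq_mul.2 (h.r_A c hg.1)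

theorem D_β (hg : g ∈ s.D) (d : F4) : g * s.β d * g⁻¹ = s.β d :=
  mul_inv_eq_iff_eq_mul.2 (h.βD d g hg).symm.eq

/-- the exact action of `l y` -/
theorem l_p (y c d a b f t e : F4) : s.l y * s.p (c, d, a, b, f, t) e * (s.l y)⁻¹ =
    s.p (Wl y (c, d, a, b, f, t)) (e + y * f ^ 2 + y * a * t) := by
  have e1 : s.u a b e = s.u a 0 0 * s.u 0 b (e + a * b) := by
    rw [h.hm.mul]; exact cg _ (by simp) (by simp) (by rw [zero_add, add_assoc, F4.add_self, add_zero])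
  rw [SG.p, e1, h.gr.v_dec, ← conj_mul, ← conj_mul, ← conj_mul, ← conj_mul, ← conj_mul,
    h.D_r (h.gr.lD y), h.D_β (h.gr.lD y), h.g0.lu₁, (h.g0.lu₂ ..).eq, mul_inv_cancel_right, h.g0.lv₁,
    h.g0.lv₂, ← h.p_uv, ← h.p_uv, ← h.p_uv, ← h.p_u, ← h.p_r, ← h.p_β, h.p_mul, h.p_mul, h.p_mul, h.p_mul,
    h.p_mul]
  refine p_cg (by simp only [Wl, Prod.mk_add_mk]; ext <;> simp only <;> ring) ?_
  simp only [Prod.mk_add_mk]
  linear_combination (a * b + a * y ^ 2 * f) * F4.two_eq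

/-- the exact action of `τ` -/
theorem τ_p (c d a b f t e : F4) : s.τ * s.p (c, d, a, b, f, t) e * s.τ⁻¹ =
    s.p (c, d, b, a, t, f) (e + a * b + f * t) := by
  rw [SG.p, h.gr.v_dec, ← conj_mul, ← conj_mul, ← conj_mul, ← conj_mul, h.D_r h.gr.τD, h.D_β h.gr.τD,
    h.g0.τu, h.g0.τv, h.gr.τv', ← h.p_v, ← h.p_v, ← h.p_u, ← h.p_r, ← h.p_β, h.p_mul, h.p_mul, h.p_mul,
    h.p_mul]
  exact p_cg (by simp) (by simp)

theorem x_p (c d a b f t e : F4) : s.x * s.p (c, d, a, b, f, t) e * s.x⁻¹ =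
    s.p (c, d, a, b, F4.v * f, F4.w * t) e := by
  rw [SG.p, ← conj_mul, ← conj_mul, ← conj_mul, h.D_r h.gr.xD, h.D_β h.gr.xD, (h.g0.xu ..).eq,
    mul_inv_cancel_right, h.g0.xv, SG.p]

theorem h_p (c d a b f t e : F4) : s.h * s.p (c, d, a, b, f, t) e * s.h⁻¹ =
    s.p (c, F4.w * d, F4.v * a, F4.v * b, F4.v * f, F4.v * t) (F4.w * e) := by
  rw [SG.p, ← conj_mul, ← conj_mul, ← conj_mul, h.r_A c h.g0.hA, mul_inv_cancel_right, h.hβ, h.g0.hu,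
    h.g0.hv, SG.p]

theorem act_w₁ (y : F4) : s.Act (s.w₁ y) (W₁ y) := fun ⟨_, _, _, _, _, _⟩ => ⟨_, h.w₁_p ..⟩

theorem act_l (y : F4) : s.Act (s.l y) (Wl y) := fun ⟨_, _, _, _, _, _⟩ => ⟨_, h.l_p ..⟩

theorem act_τ : s.Act s.τ Wτ := fun ⟨_, _, _, _, _, _⟩ => ⟨_, h.τ_p ..⟩

theorem w₁_cenZ (y : F4) : s.w₁ y ∈ cen s.Z := mem_cenZ.2 (h.w₁_u y 0)

theorem w₁_cenO (y : F4) : s.w₁ y ∈ cen s.O :=
  mul_mem (mul_mem (h.A_cenO h.g0.nA) (h.β_cenO y)) (inv_mem (h.A_cenO h.g0.nA))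

theorem s0_sq : s.s0 * s.s0 = 1 := by
  rw [SG.s0, mul_assoc, ← mul_assoc _ (s.w₁ 1), ← mul_inv_eq_iff_eq_mul.1 (h.w₁_l 1 1), mul_assoc,
    conj_mul, h.gr.l_sq, ← mul_assoc, h.w₁_sq]
  simp

/-- the exact action of `s0` on the fixed space -/
theorem s0_p (a : AF₁) (k : th σ₄ x = x) (e : F4) : s.s0 * s.p x e * s.s0⁻¹ = s.p x (e + bf k₁ x ^ 2) := by
  obtain ⟨h1, h2⟩ := fix₄ a k
  obtain ⟨c, d, a', b, f, t⟩ := x
  obtain rfl : b = 0 := h1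
  obtain rfl : t = c + d + f := h2
  have : s.s0 * s.p (c, d, a', 0, f, c + d + f) e * s.s0⁻¹ = s.w₁ 1 * (s.τ * (s.l 1 * (s.τ *
      s.p (c, d, a', 0, f, c + d + f) e * s.τ⁻¹) * (s.l 1)⁻¹) * s.τ⁻¹) * (s.w₁ 1)⁻¹ := by
    rw [SG.s0, mul_inv_rev, mul_inv_rev, mul_inv_rev, inv_inv, h.gr.τ_inv]; group
  rw [this, h.τ_p, h.l_p, Wl, h.τ_p, h.w₁_p]
  clear this k
  refine p_cg ?_ ?_
  · simp only [W₁]; revert c d a' f; decide
  · simp only [bf, k₁]; revert c d a' f e; decide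

theorem w₁Y (y : F4) : s.w₁ y ∈ s.Y := mem_sup_left (subset_closure (.inl ⟨y, .inl rfl⟩))
theorem lY (y : F4) : s.l y ∈ s.Y := mem_sup_left (subset_closure (.inl ⟨y, .inr rfl⟩))
theorem τY : s.τ ∈ s.Y := mem_sup_left (subset_closure (.inr rfl))
theorem s0Y : s.s0 ∈ s.Y := mul_mem (h.w₁Y 1) (mul_mem (mul_mem h.τY (h.lY 1)) (inv_mem h.τY))
theorem DY : s.D ≤ s.Y := h.g1.dgen _ (fun a => mem_sup_right (h.p_u a 0 0 ▸ p_mem _ _)) h.lY h.τY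

section
variable [Finite G]

theorem P_le_M : s.P ≤ s.M := fun _ k => ⟨h.P_cenZ k, le_normalizer k⟩

theorem Y_le : s.Y ≤ s.M ⊓ cen s.O := sup_le ((closure_le _).2 (by
    rintro _ (⟨y, rfl | rfl⟩ | rfl)
    exacts [⟨⟨h.w₁_cenZ y, h.act_nor (nZ (h.w₁_cenZ y)) (h.act_w₁ y)⟩, h.w₁_cenO y⟩,
      ⟨⟨h.g1.dZ (h.gr.lD y), h.act_nor (nZ (h.g1.dZ (h.gr.lD y))) (h.act_l y)⟩, h.A_cenO (h.g0.lA y)⟩,
      ⟨⟨h.g1.dZ h.gr.τD, h.act_nor (nZ (h.g1.dZ h.gr.τD)) h.act_τ⟩, h.A_cenO h.g0.τA⟩]))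
  fun _ k => ⟨h.P_le_M k, h.P_cenO k⟩

theorem act_s0 (a : AF₁) : s.Act s.s0 (th σ₄) := by
  have t := nZ (h.g1.dZ h.gr.τD)
  have := h.act_mul (nZ (h.w₁_cenZ 1)) (h.act_w₁ 1) (h.act_mul (mul_mem t (nZ (h.g1.dZ (h.gr.lD 1))))
    (h.act_mul t h.act_τ (h.act_l 1)) h.act_τ)
  rw [SG.s0, h.gr.τ_inv, funext a.t₄]
  exact this

/-- an element that maps an involution of `K` into `K` normalizes `A` -/
theorem mem_N {k : G} (hk : k ∈ s.K) (o : orderOf k = 2) (e : g * k * g⁻¹ ∈ s.K) : g ∈ s.N :=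
  H14.std_mem_normalizer' h.g0.std o hk e

theorem cen_r {c : F4} (n : c ≠ 0) : cen1 (s.r c) ≤ s.N := H14.std_centralizer_le h.g0.std (h.r_ord n) (h.r_K c)

theorem noL {e : F4} (n : e ≠ 0) : ¬ KI s.K (s.z e) := fun k => by
  have k1 := H88.TE.KI.cj k s.h
  have k2 := H88.TE.KI.cj k1 s.h
  rw [h.gr.hz] at k1 k2
  rw [h.gr.hz] at k2
  rcases e with _ | _ | _ | _
  exacts [n rfl, h.gp.noL k, h.gp.noL k2, h.gp.noL k1]

end

/-! ### Counting -/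

/-- the vectors of the elements of `I` -/
def vec (I : Subgroup G) : AddSubgroup V6 where
  carrier := {x | ∃ e, s.p x e ∈ I}
  add_mem' := fun ⟨_, a⟩ ⟨_, b⟩ => ⟨_, h.p_mul .. ▸ mul_mem a b⟩
  zero_mem' := ⟨0, h.p_one ▸ one_mem _⟩
  neg_mem' k := k

/-- the elements of `P` with vector in `B` -/
def pre (B : AddSubgroup V6) : Subgroup G where
  carrier := {g | ∃ x ∈ B, ∃ e, s.p x e = g}
  mul_mem' := by
    rintro _ _ ⟨x, a, e, rfl⟩ ⟨y, b, e', rfl⟩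
    exact ⟨_, add_mem a b, _, (h.p_mul ..).symm⟩
  one_mem' := ⟨0, zero_mem _, 0, h.p_one⟩
  inv_mem' := by
    rintro _ ⟨x, a, e, rfl⟩
    exact ⟨x, a, _, (h.p_inv ..).symm⟩

theorem mem_vec {I : Subgroup G} : x ∈ h.vec I ↔ ∃ e, s.p x e ∈ I := .rfl

theorem mem_vec' {I : Subgroup G} (hI : s.Z ≤ I) (e : F4) : x ∈ h.vec I ↔ s.p x e ∈ I :=
  ⟨fun ⟨e', k⟩ => by
    simpa only [h.p_zr, ← add_assoc, F4.add_self, zero_add] using mul_mem k (hI (h.gr.zZ (e' + e))),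
    fun k => ⟨e, k⟩⟩

theorem mem_pre {B : AddSubgroup V6} : g ∈ h.pre B ↔ ∃ x ∈ B, ∃ e, s.p x e = g := .rfl

theorem p_mem_pre {B : AddSubgroup V6} {e : F4} : s.p x e ∈ h.pre B ↔ x ∈ B :=
  ⟨fun ⟨_, a, _, k⟩ => (h.p_ext k).1 ▸ a, fun a => ⟨x, a, e, rfl⟩⟩

theorem pre_le (B : AddSubgroup V6) : h.pre B ≤ s.P := by
  rintro _ ⟨x, -, e, rfl⟩; exact p_mem x e

theorem Z_le_pre (B : AddSubgroup V6) : s.Z ≤ h.pre B := fun _ k => by
  obtain ⟨e, rfl⟩ := h.mem_Z.1 k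
  exact ⟨0, zero_mem _, e, h.p_z e⟩

theorem vec_pre (B : AddSubgroup V6) : h.vec (h.pre B) = B :=
  AddSubgroup.ext fun _ => ⟨fun ⟨_, k⟩ => h.p_mem_pre.1 k, fun k => ⟨0, h.p_mem_pre.2 k⟩⟩

theorem card_vec {I : Subgroup G} (hI : I ≤ s.P) :
    Nat.card I = Nat.card ↥(I ⊓ s.Z) * Nat.card (h.vec I) := by
  choose f e k using fun g : I => h.mem_P.1 (hI g.2)
  let π : I →* Multiplicative V6 := MonoidHom.mk' (fun g => .ofAdd (f g)) fun a b => by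
    have := k (a * b)
    rw [coe_mul, ← k a, ← k b, h.p_mul] at this
    exact congrArg Multiplicative.ofAdd (h.p_ext this).1
  have h1 : π.ker = (I ⊓ s.Z).subgroupOf I := Subgroup.ext fun g => by
    rw [inf_subgroupOf_left, mem_subgroupOf, ← k g, h.p_mem_Z]; rfl
  have h2 : Nat.card π.range = Nat.card (h.vec I) := Nat.card_congr (Equiv.subtypeEquiv
    Multiplicative.toAdd fun x => ⟨by
      rintro ⟨g, rfl⟩
      exact ⟨e g, k g ▸ g.2⟩, fun ⟨e', k'⟩ => ⟨⟨_, k'⟩, congrArg Multiplicative.ofAdd (h.p_ext (k ⟨_, k'⟩)).1⟩⟩)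
  rw [← π.ker.card_mul_index, index_ker, h1, h2, H14.card_subgroupOf_of_le inf_le_left]

theorem card_vec' {I : Subgroup G} (hI : I ≤ s.P) (hZ : s.Z ≤ I) : Nat.card I = 4 * Nat.card (h.vec I) := by
  rw [h.card_vec hI, inf_of_le_right hZ, h.gr.card_Z]

theorem card_pre (B : AddSubgroup V6) : Nat.card (h.pre B) = 4 * Nat.card B := by
  rw [h.card_vec' (h.pre_le B) (h.Z_le_pre B), h.vec_pre]

theorem card_P : Nat.card s.P = 16384 := by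
  rw [h.card_vec' le_rfl h.Z_le_P, show h.vec s.P = ⊤ from eq_top_iff.2 fun x _ => ⟨0, p_mem x 0⟩,
    AddSubgroup.card_top, card_V6]

theorem card_R : Nat.card s.R = 4 := by
  have := Nat.card_range_of_injective (f := s.r) fun a b e => by
    have := h.gp.inj (a + b) (by rw [h.gp.add, e, h.r_sq])
    rwa [add_eq_zero_iff_eq_neg] at this
  rw [show Nat.card F4 = 4 by simp; rfl] at this
  rw [← this]
  exact Nat.card_congr (Equiv.setCongr (Set.ext fun x => h.gp.mem x))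

end Cg

/-- the image of `T ⊓ M` -/
def img (θ : s.M →* Perm (Fin 8)) (T : Subgroup G) : Subgroup (Perm (Fin 8)) := (T.subgroupOf s.M).map θ

theorem mem_img {θ : s.M →* Perm (Fin 8)} {T : Subgroup G} {σ : Perm (Fin 8)} :
    σ ∈ img θ T ↔ ∃ g : s.M, ↑g ∈ T ∧ θ g = σ := .rfl

namespace CA
variable [Finite G] {θ : s.M →* Perm (Fin 8)} (c : CA s θ) (a : AF₁) (h : Cg s) {T : Subgroup G}
include c

theorem img_le : img θ T ≤ A8 := by rintro _ ⟨g, -, rfl⟩; exact c.alt g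

include a h

theorem eq_of_act (g : s.M) {σ : Perm (Fin 8)} (k : s.Act g (th σ)) : θ g = σ :=
  a.ext (congrFun (h.act_uniq (c.act g) k))

theorem θ_P (g : s.M) (k : ↑g ∈ s.P) : θ g = 1 := by
  obtain ⟨x, e, k⟩ := h.mem_P.1 k
  exact c.eq_of_act a h g (k ▸ funext a.one ▸ h.act_p x e)

theorem θ_s0 : θ ⟨s.s0, (h.Y_le h.s0Y).1⟩ = σ₄ := c.eq_of_act a h _ (h.act_s0 a)

theorem card_img (hT : T ≤ s.M) (h2 : IsPGroup 2 T) :
    Nat.card T = Nat.card ↥(T ⊓ s.P) * Nat.card (img θ T) := by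
  let π := θ.comp (inclusion hT)
  have h1 : π.ker = (T ⊓ s.P).subgroupOf T := Subgroup.ext fun g => by
    rw [inf_subgroupOf_left, mem_subgroupOf]
    exact ⟨fun k => c.k2 _ k (isPGroup_iff_forall.1 h2 _ g.2), fun k => c.θ_P a h _ k⟩
  have h3 : π.range = img θ T := Subgroup.ext fun σ =>
    ⟨by rintro ⟨g, rfl⟩; exact ⟨_, g.2, rfl⟩, by rintro ⟨g, k, rfl⟩; exact ⟨⟨g, k⟩, rfl⟩⟩
  rw [← π.ker.card_mul_index, index_ker, h1, h3, H14.card_subgroupOf_of_le inf_le_left]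

theorem img_el (k : ∀ g ∈ T, g * g ∈ s.P) : El (img θ T) := by
  rintro _ ⟨g, hg, rfl⟩
  rw [← map_mul]
  exact c.θ_P a h _ (k _ hg)

omit a h in
theorem img_two (h2 : IsPGroup 2 T) : IsPGroup 2 (img θ T) := h2.comap_subtype.map θ

omit a in
theorem conj_p (g : s.M) (x : V6) (e : F4) : ∃ e', ↑g * s.p x e * (g : G)⁻¹ = s.p (th (θ g) x) e' :=
  h.act_all (nZ g.2.1) (c.act g) x e

omit a in
theorem fixes (g : s.M) {e : F4} :
    ↑g * s.p x e * (g : G)⁻¹ * (s.p x e)⁻¹ ∈ s.Z ↔ th (θ g) x = x := h.fixes (nZ g.2.1) (c.act g)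

end CA

end H88.CG
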