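/- Tower JX (row S3320): the orbits on the singular vectors of `Q / ⟨z⟩`. -/
import Cfsg.Agent.H50.JXSpec
import Cfsg.Agent.H50.JXK

set_option autoImplicit false
set_option linter.unusedSectionVars false
set_option linter.unusedVariables false
set_option maxRecDepth 100000
set_option synthInstance.maxSize 2000

open Cfsg Subgroup H98 H50.JX
open H1.Gold (cen cen1 nor)

universe u

namespace H88.JXO

/-- the vector with code `n` -/
def vc (n : ℕ) : V6 := Sum.elim (fun i => bt (n.testBit i)) fun i => bt (n.testBit (3 + i))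

theorem vc_xor (a b : ℕ) : vc (a ^^^ b) = vc a + vc b := by
  funext i; rcases i with i | i <;> simp [vc, Nat.testBit_xor, bt_xor]

theorem vc_sur (v : V6) : ∃ n < 64, vc n = v := by
  obtain ⟨n, l, h0, h1, h2, h3, h4, h5⟩ := (by decide +kernel : ∀ a0 a1 a2 a3 a4 a5 : F2, ∃ n < 64,
    bt (Nat.testBit n 0) = a0 ∧ bt (Nat.testBit n 1) = a1 ∧ bt (Nat.testBit n 2) = a2 ∧
    bt (Nat.testBit n 3) = a3 ∧ bt (Nat.testBit n 4) = a4 ∧ bt (Nat.testBit n 5) = a5)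
    (v (.inl 0)) (v (.inl 1)) (v (.inl 2)) (v (.inr 0)) (v (.inr 1)) (v (.inr 2))
  refine ⟨n, l, funext fun i => ?_⟩
  rcases i with i | i <;> fin_cases i <;> assumption

/-- two row operations -/
def tv (a b c d n : ℕ) : ℕ := n ^^^ ((n >>> a) % 2) <<< b ^^^ ((n >>> c) % 2) <<< d

/-- `κ6` for an involution with codes `c` -/
def κc (c : ℕ × ℕ) (v : V6) : V6 :=
  Sum.elim
    (fun i => ∑ j : Fin 3, (toM c.2 (i2 i) (i2 j) * v (.inl j) +
      toM c.1 (i2 i) (i2 j) * ∑ k : Fin 3, toM c.2 (i2 k) (i2 j) * v (.inr k)))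
    fun i => ∑ k : Fin 3, toM c.2 (i2 k) (i2 i) * v (.inr k)

theorem κ6_eq {m : N0} {c : ℕ × ℕ} (h : Rep m c) (hi : m⁻¹ = m) (v : V6) : κ6 m v = κc c v := by
  have : m.g⁻¹ = m.g := by rw [← N0.inv_g, hi]
  rw [κ6, κc, this, h.1, h.2]

/-- `f` acts on codes by `tv` -/
def Ac (f : V6 → V6) (a b c d : ℕ) : Prop := ∀ n < 64, tv a b c d n < 64 ∧ ∀ i, f (vc n) i = vc (tv a b c d n) i

theorem ac2 : Ac (κc (xc 2 3)) 1 0 3 4 := by unfold Ac; decide +kernel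
theorem ac3 : Ac (κc (xc 3 2)) 0 1 4 3 := by unfold Ac; decide +kernel
theorem ac4 : Ac (κc (xc 3 4)) 2 1 4 5 := by unfold Ac; decide +kernel
theorem ac5 : Ac (κc (xc 4 3)) 1 2 5 4 := by unfold Ac; decide +kernel
theorem ac6 : Ac (κc (ec 3 4)) 5 1 4 2 := by unfold Ac; decide +kernel
theorem ac7 : Ac k0 2 4 1 5 := by unfold Ac; decide +kernel

theorem mem_J_of {m : N0} {c : ℕ × ℕ} (h : Rep m c)
    (k : ∀ i j : Fin 5, ((i < 2 ∨ j < 2) → c.2.testBit (5 * i + j) = idc.testBit (5 * i + j)) ∧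
      (i < 2 → c.1.testBit (5 * i + j) = false)) : m ∈ J :=
  ⟨fun i j l => by rw [h.2, ← toM_idc, toM, toM, (k i j).1 (by simpa using l)],
    fun i j l => by rw [h.1, toM, (k i j).2 l]; rfl⟩

/-- the element of `Q` with code `p` -/
def qp (p : ℕ) : N0 := qq (vc (p % 64)) (vc (p / 64 % 64))

theorem qp_mk {v w : ℕ} (hv : v < 64) (hw : w < 64) : qp (v + 64 * w) = qq (vc v) (vc w) := by
  rw [qp, show (v + 64 * w) % 64 = v by omega, show (v + 64 * w) / 64 % 64 = w by omega]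

/-- diagonal action -/
def dv (a b c d p : ℕ) : ℕ := tv a b c d (p % 64) + 64 * tv a b c d (p / 64 % 64)

/-- the generators on codes -/
def gen : ℕ → ℕ → ℕ
  | 0, p => (p % 64 ^^^ p / 64 % 64) + 64 * (p / 64 % 64)
  | 1, p => p % 64 + 64 * (p % 64 ^^^ p / 64 % 64)
  | 2, p => dv 1 0 3 4 p
  | 3, p => dv 0 1 4 3 p
  | 4, p => dv 2 1 4 5 p
  | 5, p => dv 1 2 5 4 p
  | 6, p => dv 5 1 4 2 p
  | _, p => dv 2 4 1 5 p

/-- evaluation of a number -/
def fc (n : ℕ) (k : ℕ → ℕ) : ℕ := Nat.casesOn n (k 0) fun m => k (Nat.succ m)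
theorem fc_eq (n : ℕ) (k : ℕ → ℕ) : fc n k = k n := by cases n <;> rfl

/-- the search along a certificate -/
def go : ℕ → ℕ → ℕ → ℕ
  | 0, _, m => m
  | n + 1, c, m => fc (c / 32768) fun c' =>
    fc (bif m.testBit (gen (c % 8) (c % 32768 / 8)) then m ||| 1 <<< (c % 32768 / 8) else m) (go n c')

theorem go_sound {P : ℕ → Prop} (h : ∀ g p, P (gen g p) → P p) (n : ℕ) :
    ∀ c m, (∀ p, m.testBit p = true → P p) → ∀ p, (go n c m).testBit p = true → P p := by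
  induction n with
  | zero => exact fun _ _ k => k
  | succ n ih =>
    intro c m k
    rw [go, fc_eq, fc_eq]
    refine ih _ _ fun p hp => ?_
    cases e : m.testBit (gen (c % 8) (c % 32768 / 8))
    · rw [e] at hp; exact k p hp
    · rw [e, cond_true, Nat.testBit_or, Bool.or_eq_true, Nat.one_shiftLeft, Nat.testBit_two_pow] at hp
      rcases hp with hp | hp
      · exact k p hp
      · obtain rfl := of_decide_eq_true hp
        exact h _ _ (k _ e)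

/-- the certificate -/
def cert : ℕ := 0x9109a213c42c88cb113a2124d24d8cd249e5965d659e9d64a62166c4f0845b1ae212ec63d89a10ab6310d24cbcca1b3e148425dce424885911d621e8464a6b9675cf3445a7ae992e7e3d79a78abcf3254250d5f1b5e3a657d68da99e7636ae53dc7ca113e1bb45fe8e5f0ac2158c62dcff997933fec6750c9b8cd421bc35e85a31b3315286a5c6c179927665a92c4b97d26ef5465caf2d1b32aca64fca56155e327386d7e6ea9d3a926729e85215f2a32c67918d398ac43117262b8468984f113260fcc2f08f1319e65384b3ab4f6a6f4d9fabbb5e7cffed69a7a6f9a6275b775bfafcbcd5922b34c5afffcef3affe7ce9b933d9aec3756bfeb4b367faa79d4ead9a912dd64e4bfcff53ff86cfe69519d2b9b463ea7fdbb92ad2646aff59cb5294c5548c895a89c317f3254fcd4a5a96b7f94e4e9ca9c353f35cef2f1b3aaca8695c66fccd53b3857787771cfa15c576a8cd19fc635ce5acc5aa1b971b2a73f04b71bc4364e3ad4e813b82d116270be9137a4b2eef94dd9f365a67faab26af2539276a5b749e9f293754e7a92ef935966bc9e69eb5679b2ef348e59f797ad6f5d306f2a5a76d66fcf52cafd35f16bfc8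dec9bb39cbcbfdcdef1bbe1caef5ffb73449a3efa4625dbeadef5b4bb53c8e49f6cfcf43bcdc6d2ab25ea4434ce3bb0d67cee53949c419dc27b83794cfa1dc673d8ff394d713685338add1ada17fc66889131a6717e6674cd7b13e40dce1ed07671aba3f4c598cfd21ce7356ce6894ab2ba5e97fd7ff3f666b4baceafcd971f2bfd2dce7699635afae55afea6b2a4f44bf44f38bd592efe53529eb56bcb5a75354b3a95daecf95dd9b365d74bcb37366b3d9a6bb2bb96e7ceae93b596696fe49aecad73ad65dccad9379ffa5aede59b2b9d7ff27bc5a3897d9feb776e7892bf5d706e76e4c196a91fdb7bb66b7cda93b7e26f9cdfff6f52dda4e5a23ba7da77fd5bd3b7723927eb276e4892b7dd68ca7b6bdbe5ef676d9ad52a3a57d9e8e35f7cc1abdacf869fe73a9cfdbba2466065c097c174777b8cf554bbd6886e9c79a9d911bd864be7d29cb11364da12c53be83715cd329856a8a9a9894c09df16d427d5ca39d541e8abbd0d631aec798cad21e6c89cd179625e47b5ab7493bc59687b58df39ab2774c4c5b9f27fb2a6cf4af13f76bbc9ef992b937f93cd26695beab8952fa5fbd9d2e64f1f9235b33bd3af33db47ac85a934d374ee7b5893bbafd63b4f5bcafeb7e5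8d5edf96122e2f5c4acedf98d9bbda5b64b5488e99f7723ac7dddbf3c65e2bdac6b5eb695e9edfa834d8693e7329ecdbbc24ab34da54e5d7d4b52bf81fbe35d1d6297f44baa95da962b3a64b2fd79d2a2bf45594c7a5bfac39df6ad477d49aa8f57b5cead1c9ac19df2ece67f0eea99a86b9ce5fd9b519f8537895f0b7a274549e8cb18b7624ce654c9d212e7256a1bf0fd717642cce5cd4ff93962dac4accfc9bb5f3cb95aceb2f727f269cb788fd1bd2b356e6ce9dcb1334e56ffc9a9cad33ad25dd4ad3f3eb769fcb97893b993ff24d95e8ebea52935faf2bdb37acc5a974d2f4cf7b1a93e59d5bb675f4ecb9f3e7f3dd6633cb2eb4bcebad3bd367b4a5c8b4937533ce7ecbadebb2563eaee59e8bc713eb2d5e6efdd8b9a35a77e484a98bf2352624bf6cdc6ad8a77bccdb49b56a8ee5f792bff4766fb677e48ca957d78d9f1d3fae7579eafce0dfc4e5dbae24fc669c09a832d866be7929d31135b76849d93912f3e4bf4f7ed6e02754b2ecf6d9bea355eeebc997f3dbff374d3a957a7dbd7373d3b25ea6f627884c7eb68d73ba5dabfb73b6cc913f3e6bfa76775f87b54f5bcb48699ce9e0f6f926a75fa2f684b78bfd1bcb36bd4f2c945d3eb2558bbf0db33bb466c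84a935d372eeff599bb99e792bca7b55d6a76d1fd397f4d6996d234e6cbd8d779a9743bcdfdc2cba3ed0f4f09351fb87ad072b09751eb31b642a6c749eb995f62bde1e582a7a1696ffa15af17cc6b941bc89c9b75849e0cfbcb22d67d67ee4f6af885cf567017b63fc14eabc5de8fb95b6b7aa757e5af9a5eb76e4cde54e9d232e7e577f9dbbb37e53bc5edcf6ff886c7f468f53b49dbd7eded6bd6d2d23a67fa68bd9f49c0ced9db82fbe65a99fdb9e23320e5c15ac274769f89b55a5be448499c99a93f11d785dbeb1a97710f45f589d196f737aeeffcd2ed2f724b5497f9fe935a5ec66f9569d3b36674a4c8b5937333ca7ffddb3b1b37724f54f9eb6aceb69da73e5cf6be69efdd72a7d74e7fcb4f34d75969b3523ca6e9ae9ab3b4f43e1c5efeb161b1f747a684b98fd23d64394849285331e771a6c297c733ebcd5e90ab957b23ca4559c3bf85cbbf5c59f8af58bea354a0cf44d2dba424e867897bd25aa5fdcde31b77a7844a8a9f112bb5de26deddd6b36d2523ae7f968ff9fcdeecf1894ad3f1aefb3b54ffb4be06b60b6f9a6a65f66b88d4b8fde17eeae5c6f69da79a9ae7dd4d69995d2ba6758edb0d532fa465cd9fb39ef332ca53dfb4a5fd7ed7d7e7adc92d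e3ce44bac94f3a7647ec1ed81278369033a0de50ef21726fd616782b5a3f90f67096917d06b8f5bdd1aaf7dfaf17fc62eeef708b5117c6fec55aeec78f9719d7736b74b6c891933f33567e8dd9fb1ef7718f4af9f16ae2b6f5a6ae5d56bc09e89d7b27c44e0dcb8335075b09b7d23526e22eb6b388f43eec5f9ebba1b7775aa69eb96bd37565a94d692cd33d676ca6d8979b3323ce6e92eb9b3b2f4a6c59a5bf79ca975d29ff4f55feb9d4b2cf78d293a4b4ebc67c7eb1edc127436983390da70e76169efd316722bd63fa8f65092d17c86b09fb72f8b5c8cde3bb423547cf1e9a1b302a546cec5db09ab15f7acb573eaf3c7660b4a87f7bcbc5fdc5af1b5b025a279ec971128374ec3fd95db2e4f3ad24e75cbc93de3ae44fac9cf396b6bf2d6cf2ad16fa657c0dac0fc81ba47f41ecc1c90250ddb7f38b748eee3b5423d46d71eea1b502ad439a8fad8d961b16336f646acdc55d2b671de82d8a14b42f3dd2e2a505e9c4bf1b3b065a2f1ed271168378cfb3d765bac4ebcd34a73d34f2cef8d393a6b4e7c7aadf5cacb3a5b4f9697f0dae0fcc1abc7f31eca1c982519fc7ae85720dd60a703e5c29e85d7ba7c54e0bcb8f5e3eb429544b71b2be7ed65fe59dd17fa676696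4932d01b303240dc7671eca158837982940fa70e5a1f1ef2715682f8e35b8f950a75169c6d2ffe35d6f9e557d3e7a59669348b506ce0c9c361fec15f839d8d7e3e743960532d35b34f249dc8080fc60adc1cac7a71f4a1cd02916ba59e693c8e50403ad06781cee49483a506681c8e590832824044928b039a026409480bf01804a2cbe69a9966534afff6780ae02b404ac04e80d3027203d40a017c03500cc029407ecf3d5d7569a95d69d75a69ce797aeb6c013c034809d00d703e605940601e80ba80d402b403ac04e01cb035b6589e79a494eba6baff3cecb2bf006b01f202ce0202c403cc04a01d3017e0674095f9e3596f965679d68059808078c05b81950275a69669a4800034a04d2490a04460888311422604261084311c22704251c9870842210845189b10a02160c67149c608c7251c621c84709c32714630886313e215042a18c21914326df28285851903208c41884621284320e4214885188c121c67109c21b6e14442dd8d031b67298243149f6ca88151863be5edbaafb906460c847c88a13146f8e56fbbea938c43884770aa215ec6e18d53955a388e418e5b1c912a62658aa5bdfa0e36d55088581c84420dc3dcce3b186311d82578dea1aa539024614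987c90b711b243dca548881318653e7f60ad437ca28a85bd1a36362e5810d138dc1263eb386476c916fabeeaa257efb88355b510a5ed1d87215527efc8defbbf947220e471538393654f4cb01488a9317e638ce556a295efebfb97a2d4422273b78ff708a2176677d8c5194aa13f4646a7db1ad72e086f9c622915b7aa57168c37c85b70452dfbe3bf862ac452ddfd895613247dec6db0daa0c345f30a85b95c7a346670d8c11884393e72c1f6abefd578d8254ee2f185430ee360485409fc323f3ed4e5088cf590323849c6c8a47d0ae29bf47bbba9368cc7b7ee360a9617e52f9f5ec88931bef918a76ccc6b106736b540afc35ea4bfe71f1b1aac28685c7129d4123e8e45f76abfe191412ef7ef8f8a1a95127f7dda311edf71eb71b841be89a0a411b7c5bdf2bdb467db9c7c8a7fd16e6fbcddbdb7e105233bec3f8c2ad0522bbf43fbb2ada6481bdb3758ef396d32d48619cf9f6deb5bbb6095433677f78d550bd2bdf46bccedb19b729c626f8cdd571437ae3d94e36c85572adf17dc2d482a96fef1efc2dee3bf86de1dba11ca1bfc6dec5bb09ca1c743eb8b6f19dc3e30f550af40a18371a02411f67238e7df0af7d5f68b82810f8617e62a9df127032295f40b9b8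337b76c484048cdfb03e306b4448ac7d1bea919576fbc6db0c83bdb5b588f398d32148419c89f706b76b0e1a1f9c6a70845b0c9157aa2e6d5fe8b91125412f77f78faf8fb61e6c7a7049b8f378d471d8c3bd85ed17460c376f0d9088f415c737f8f75f525519ef6e8a915efa2fd55edff7f7ed32fec379c6e98723affc37aa6ede72811d13ed0c739eb536f8a3bd7dc502df0c8a93bf9da77ef8d6d56dbd22867dc68e19ff9eea7184414487df0a8c17b71dbc3ef0f6d0ad40a3837dc28e85f71efc21903860fe60a9c6f5e032115e80b8e57f02ebc541c187dbaa24f4674048adfd03ea856fc5fb1a991f603ce0f4c091d0fe23d5636f85418e8bd68439c85a917c60dec4e3db862488258eff71f222cec5788d6d8ff61eb47b68491073e1b461cfc2d5dfef1f1824ac5e0890d8fc37ca233eedef8d3adfc77aab6df6a411ce3ef0477cfb895ea6fc4196eaf8e0d8ed71c37bf3554eaedc712071e1f1a0e383f582af8d5e18f018303b7044900486dfe03e5059f0ac38bee353a3fc07aa1ede12401ce06f0877d0b8b7ea47c4096f170c6b0c7e30f623d8425883bd0daa0f563e28f470e0a120a1f047b6c6c70ac31df7ad457ecaf085a20f071543068627bedc5120a3306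1c1c2c1df822c0c560c5c11a851f803db0f6309600ef836a03f68f843d1038384a107421bdc1e283050dc10e8a17b6fc4160c2b8e2e38d418f823d0421003a20dec0f1018306e3078e0d8a3e30f43090219881e3034304841820044108a03d006600c60080211457a28cc318c313605380fc01aa02de02400ce00c02b8146018c0189b6e9c77e38d5556fbd208671c7d81ad0122067c07801be01a80701ba01dc0e3015502f40218071f7deb6d48a39f7de186fbe6a29f1037a03540f001b603880403bc05a804700fb030c07cc053e38ef7d6aabe0836db71049080f7038a03880e30140c701eb015e04180db80248617befc515c517186b181c7028402021606fc0158117006b1c7c71e84120c06047c01e80120c36080000d8209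

/-- the representatives -/
def m0 : ℕ := 2 ^ 1 + 2 ^ 129 + 2 ^ 36 + 2 ^ 100

/-- the form on codes -/
def bc (v w : ℕ) : Bool := (v.testBit 0 && w.testBit 3 ^^ v.testBit 3 && w.testBit 0) ^^
  (v.testBit 1 && w.testBit 4 ^^ v.testBit 4 && w.testBit 1) ^^
  (v.testBit 2 && w.testBit 5 ^^ v.testBit 5 && w.testBit 2)

theorem b6_vc (v w : ℕ) : b6 (vc v) (vc w) = bt (bc v w) := by
  simp [b6, vc, bc, Fin.sum_univ_three, bt_xor, bt_and, add_assoc]

theorem cover : fc (go 2075 cert m0) (fun m => bif (List.range 64).all fun v => (List.range 64).all fun w =>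
    bc v w || v + 64 * w == 0 || m.testBit (v + 64 * w) then 1 else 0) = 1 := by decide +kernel

theorem cover' {v w : ℕ} (hv : v < 64) (hw : w < 64) (h : bc v w = false) :
    (v = 0 ∧ w = 0) ∨ (go 2075 cert m0).testBit (v + 64 * w) = true := by
  have := cover
  rw [fc_eq] at this
  generalize go 2075 cert m0 = m at this ⊢
  rw [Bool.cond_eq_ite] at this
  split_ifs at this with k
  simp only [List.all_eq_true, List.mem_range] at k
  have := k v hv w hw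
  simp only [h, Bool.false_or, Bool.or_eq_true, beq_iff_eq] at this
  exact this.imp_left (by omega)

theorem m0_bit {p : ℕ} (h : m0.testBit p = true) : p = 1 ∨ p = 129 ∨ p = 36 ∨ p = 100 := by
  by_cases l : p < 130
  · exact (by decide +kernel : ∀ p < 130, m0.testBit p = true → p = 1 ∨ p = 129 ∨ p = 36 ∨ p = 100) p l h
  · rw [Nat.testBit_lt_two_pow ((show m0 < 2 ^ 130 by decide +kernel).trans_le
      (Nat.pow_le_pow_right (by norm_num) (by omega)))] at h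
    exact absurd h (by decide)

section G
variable {G : Type u} [Group G]

/-- conjugate modulo `⟨ζ⟩` under the centralizer of `ζ` -/
def C (ζ a a' : G) : Prop := ∃ h ∈ cen1 ζ, h * a * h⁻¹ * a'⁻¹ ∈ zpowers ζ

theorem C.trans {ζ a b c : G} (h : C ζ a b) (k : C ζ b c) : C ζ a c := by
  obtain ⟨g, hg, n, e⟩ := h
  obtain ⟨g', hg', e'⟩ := k
  refine ⟨g' * g, mul_mem hg' hg, ?_⟩
  have c1 : Commute g' ζ := mem_centralizer_singleton_iff.1 hg'
  have : g' * g * a * (g' * g)⁻¹ * c⁻¹ = g' * (g * a * g⁻¹ * b⁻¹) * g'⁻¹ * (g' * b * g'⁻¹ * c⁻¹) := by group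
  rw [this, ← e, (c1.zpow_right n).eq, mul_inv_cancel_right]
  exact mul_mem (zpow_mem_zpowers _ _) e'

theorem C.orb {ζ a r y : G} (h : C ζ a r) (h2 : ζ * ζ = 1) (hy : y ∈ cen1 ζ) (e : y * r * y⁻¹ = ζ * r) :
    a ∈ orb (cen1 ζ) r := by
  obtain ⟨g, hg, n, k⟩ := h
  have : g * a * g⁻¹ = r ∨ g * a * g⁻¹ = ζ * r := by
    have k' : g * a * g⁻¹ = ζ ^ n * r := by rw [eq_comm, ← eq_mul_inv_iff_mul_eq]; exact k
    have z2 : ζ ^ (2 : ℤ) = 1 := by rw [zpow_two, h2]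
    rcases Int.even_or_odd' n with ⟨m, rfl | rfl⟩
    · left; rw [k', zpow_mul, z2]; simp
    · right; rw [k', zpow_add, zpow_mul, z2]; simp
  rcases this with k | k
  · exact ⟨g⁻¹, inv_mem hg, by rw [← k]; group⟩
  · exact ⟨g⁻¹ * y, mul_mem (inv_mem hg) hy, by
      rw [show g⁻¹ * y * r * (g⁻¹ * y)⁻¹ = g⁻¹ * (y * r * y⁻¹) * g by group, e, ← k]; group⟩

theorem C.of_map (b : Bs G) {h a a' : N0} (hh : h * z = z * h) (k : h * a * h⁻¹ * a'⁻¹ ∈ zpowers z) :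
    C (b.ι z) (b.ι a) (b.ι a') :=
  ⟨b.ι h, mem_centralizer_singleton_iff.2 (by rw [← map_mul, hh, map_mul]), by
    simpa only [map_mul, map_inv, MonoidHom.map_zpowers] using mem_map_of_mem b.ι k⟩

end G

theorem xz (i j : Fin 5) (h : i < 2 ∧ i ≠ j) : x i j * z = z * x i j := by
  apply enc_inj
  simp only [z, enc_mul, enc_e, enc_x]
  revert i j; decide +kernel

theorem q1 : qp 1 = e 0 2 := Rep.eq (c := ec 0 2) ⟨by decide +kernel, by decide +kernel⟩ (rep_e _ _)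
theorem q2 : qp 129 = a4 :=
  Rep.eq (c := mulc (ec 0 2) (ec 1 3)) ⟨by decide +kernel, by decide +kernel⟩ ((rep_e _ _).mul (rep_e _ _))
theorem q3 : qp 36 = s 0 :=
  Rep.eq (c := mulc (ec 0 4) (xc 0 4)) ⟨by decide +kernel, by decide +kernel⟩ ((rep_e _ _).mul (rep_x _ _))
theorem q4 : qp 100 = c4 :=
  Rep.eq (c := mulc (mulc (ec 0 4) (xc 0 4)) (ec 1 2)) ⟨by decide +kernel, by decide +kernel⟩
    (((rep_e _ _).mul (rep_x _ _)).mul (rep_e _ _))
theorem q0 : qq (vc 0) (vc 0) = 1 := Rep.eq (c := (0, idc)) ⟨by decide +kernel, by decide +kernel⟩ Rep.one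

theorem y1 : x 1 2 * e 0 2 * (x 1 2)⁻¹ = z * e 0 2 := by
  apply enc_inj; simp only [z, enc_mul, enc_e, enc_x, x_inv]; decide +kernel
theorem y2 : x 0 3 * a4 * (x 0 3)⁻¹ = z * a4 := by
  apply enc_inj; simp only [z, a4, enc_mul, enc_e, enc_x, x_inv]; decide +kernel
theorem y3 : x 1 4 * s 0 * (x 1 4)⁻¹ = z * s 0 := by
  apply enc_inj; simp only [z, s, enc_mul, enc_e, enc_x, x_inv]; decide +kernel
theorem y4 : x 0 2 * c4 * (x 0 2)⁻¹ = z * c4 := by
  apply enc_inj; simp only [z, c4, s, enc_mul, enc_e, enc_x, x_inv]; decide +kernel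
theorem y0 : x 1 2 * x 2 1 * z * (x 1 2 * x 2 1)⁻¹ = e 0 2 := by
  apply enc_inj; simp only [z, _root_.mul_inv_rev, enc_mul, enc_e, enc_x, x_inv]; decide +kernel

theorem jobOR : JobOR.{u} := fun mf G _ _ b K κ k ka kd q hq h2 => by
  have l1 : ∀ p, p % 64 < 64 := fun p => Nat.mod_lt _ (by norm_num)
  have lx : ∀ p p', p % 64 ^^^ p' % 64 < 64 := fun p p' => Nat.xor_lt_two_pow (n := 6) (l1 _) (l1 _)
  have dK : ∀ c ∈ K, ∀ f a1 a2 a3 a4, (∀ v, κ c v = f v) → Ac f a1 a2 a3 a4 → ∀ p,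
      C (b.ι z) (b.ι (qp p)) (b.ι (qp (dv a1 a2 a3 a4 p))) := fun c hc f a1 a2 a3 a4 e ac p => by
    refine ⟨c, ka.KH hc, ?_⟩
    rw [dv, qp_mk (ac _ (l1 _)).1 (ac _ (l1 _)).1, ← funext (ac _ (l1 _)).2, ← funext (ac _ (l1 _)).2, ← e, ← e]
    exact kd.act c hc _ _
  have dJ : ∀ (m : N0) (c : ℕ × ℕ), Rep m c → m⁻¹ = m → m ∈ J → ∀ a1 a2 a3 a4, Ac (κc c) a1 a2 a3 a4 → ∀ p,
      C (b.ι z) (b.ι (qp p)) (b.ι (qp (dv a1 a2 a3 a4 p))) := fun m c r i hm a1 a2 a3 a4 =>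
    dK _ (ka.JK (mem_map_of_mem _ hm)) _ _ _ _ _ fun v => (kd.κJ m hm v).trans (κ6_eq r i v)
  have st : ∀ g p, C (b.ι z) (b.ι (qp p)) (b.ι (qp (gen g p))) := fun g p => by
    match g with
    | 0 =>
      refine C.of_map b (xz 0 1 (by decide)) ?_
      rw [gen, qp_mk (lx _ _) (l1 _), vc_xor]; exact mf.q.c01 _ _
    | 1 =>
      refine C.of_map b (xz 1 0 (by decide)) ?_
      rw [gen, qp_mk (l1 _) (lx _ _), vc_xor]; exact mf.q.c10 _ _
    | 2 => exact dJ _ _ (rep_x _ _) (x_inv _ _) (mem_J_of (rep_x _ _) (by decide +kernel)) _ _ _ _ ac2 p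
    | 3 => exact dJ _ _ (rep_x _ _) (x_inv _ _) (mem_J_of (rep_x _ _) (by decide +kernel)) _ _ _ _ ac3 p
    | 4 => exact dJ _ _ (rep_x _ _) (x_inv _ _) (mem_J_of (rep_x _ _) (by decide +kernel)) _ _ _ _ ac4 p
    | 5 => exact dJ _ _ (rep_x _ _) (x_inv _ _) (mem_J_of (rep_x _ _) (by decide +kernel)) _ _ _ _ ac5 p
    | 6 => exact dJ _ _ (rep_e _ _) (e_inv _ _) (mem_J_of (rep_e _ _) (by decide +kernel)) _ _ _ _ ac6 p
    | _ + 7 => exact dK _ kd.kK _ _ _ _ _ kd.κk ac7 p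
  have z2 : b.ι z * b.ι z = 1 := by rw [← map_mul, mf.q.xs.z_sq, map_one]
  obtain ⟨q, hq, rfl⟩ := hq
  have q2' : q * q = 1 := b.inj (by rw [map_mul, h2, map_one])
  obtain ⟨v, w, hvw⟩ := (mf.q.mem q).1 hq
  obtain ⟨v, lv, rfl⟩ := vc_sur v
  obtain ⟨w, lw, rfl⟩ := vc_sur w
  have mq : qq (vc v) (vc w) ∈ Q := (mf.q.mem _).2 ⟨_, _, .inl rfl⟩
  have zc := mf.q.xs.z_comm _ mq
  have sq : qq (vc v) (vc w) * qq (vc v) (vc w) = 1 := by
    rcases hvw with rfl | rfl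
    · exact q2'
    · rwa [mul_assoc, ← mul_assoc z, zc, mul_assoc, mf.q.xs.z_sq, mul_one] at q2'
  have hb : bc v w = false := by
    rw [mf.q.sq, b6_vc] at sq
    cases e : bc v w
    · rfl
    · rw [e] at sq; exact absurd ((pow_one z).symm.trans sq) mf.q.xs.z_ne
  rcases cover' lv lw hb with ⟨rfl, rfl⟩ | hm
  · rw [q0] at hvw
    rcases hvw with rfl | rfl
    · exact .inl (map_one _)
    · exact .inr (.inl ⟨1, one_mem _, by simp⟩)
  have c0 : C (b.ι z) (b.ι q) (b.ι (qp (v + 64 * w))) := C.of_map b (h := 1) (by simp) (by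
    rw [qp_mk lv lw]
    rcases hvw with rfl | rfl
    · simp
    · rw [← zc]; simp)
  obtain ⟨r, hr, c1⟩ := go_sound (P := fun p => ∃ r, m0.testBit r = true ∧ C (b.ι z) (b.ι (qp p)) (b.ι (qp r)))
    (fun g p ⟨r, hr, c⟩ => ⟨r, hr, (st g p).trans c⟩) _ _ _
    (fun p hp => ⟨p, hp, 1, one_mem _, by simp⟩) _ hm
  have fin : ∀ (i j : Fin 5) (r : N0), i < 2 ∧ i ≠ j → x i j * r * (x i j)⁻¹ = z * r → C (b.ι z) (b.ι q) (b.ι r) →
      b.ι q ∈ orb b.H (b.ι r) := fun i j r h e c =>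
    c.orb z2 (y := b.ι (x i j)) (mem_centralizer_singleton_iff.2 (by rw [← map_mul, xz i j h, map_mul]))
      (by rw [← map_inv, ← map_mul, ← map_mul, e, map_mul])
  have c2 := c0.trans c1
  rcases m0_bit hr with rfl | rfl | rfl | rfl
  · rw [q1] at c2
    obtain ⟨h, hh, e⟩ := fin _ _ _ (by decide) y1 c2
    refine .inr (.inl ⟨h * b.ι (x 1 2 * x 2 1), mul_mem (mem_sup_right hh) (mem_sup_left ⟨_, rfl⟩), ?_⟩)
    rw [← e, ← y0, map_mul b.ι (_ * z), map_mul b.ι _ z, map_inv]; group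
  · rw [q2] at c2; exact .inr (.inr (.inl (fin _ _ _ (by decide) y2 c2)))
  · rw [q3] at c2; exact .inr (.inr (.inr (.inl (fin _ _ _ (by decide) y3 c2))))
  · rw [q4] at c2; exact .inr (.inr (.inr (.inr (fin _ _ _ (by decide) y4 c2))))

end H88.JXO
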