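/- CG, job GC, first part: the centralizer of `x`, the twisted conjugate, elements centralizing `D`. -/
import Cfsg.Agent.H88.CGKit
import Cfsg.Agent.H88.ASMain

set_option autoImplicit false
set_option linter.unusedSectionVars false

namespace H88.CG

open Subgroup Cfsg H98 H14 H1.Gold H86.L34 H88.AS
open H6 (F4)
open H88.TE (El sqs mc1)

universe u
variable {G : Type u} [Group G] [Finite G] {d : GD G} {R : Subgroup G} {r : F4 → G} {g k s : G}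

local instance : Fact (Nat.Prime 2) := ⟨Nat.prime_two⟩

theorem mem_KA {B : Subgroup G} (hB : B ≤ d.A) (h : g ∈ d.K ⊔ B) : ∃ k ∈ d.K, ∃ a ∈ B, k * a = g :=
  mem_sup_of_commutator_eq_bot (commutator_eq_bot_iff_le_centralizer.2 (centralizer_anti hB)) h

theorem cKA (hk : k ∈ d.K) {a : G} (ha : a ∈ d.A) : Commute k a := (hk a ha).symm

theorem two_of_sq (h : k * k = 1) : IsPGroup 2 (zpowers k) :=
  isPGroup_zpowers (k := 1) ((pow_two _).trans h)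

namespace GP
variable (p : GP d R r)
include p

theorem r0 : r 0 = 1 := by simpa using p.add 0 0
theorem rR (c : F4) : r c ∈ R := (p.mem _).2 ⟨c, rfl⟩
theorem rK (c : F4) : r c ∈ d.K := p.syl.le (p.rR c)
theorem r_sq (c : F4) : r c * r c = 1 := by rw [← p.add, F4.add_self, p.r0]
theorem r_ord {c : F4} (n : c ≠ 0) : orderOf (r c) = 2 :=
  orderOf_two_of_mul_self (p.r_sq c) fun e => n (p.inj c e)
theorem r_ext {a b : F4} (e : r a = r b) : a = b := by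
  have := p.inj (a + b) (by rw [p.add, e, p.r_sq])
  rwa [add_eq_zero_iff_eq_neg] at this
theorem el : El R := fun x hx => by obtain ⟨c, rfl⟩ := (p.mem x).1 hx; exact p.r_sq c
theorem card : Nat.card R = 4 := by
  have := Nat.card_range_of_injective (f := r) fun a b => p.r_ext
  rw [show Nat.card F4 = 4 by simp; rfl] at this
  rw [← this]
  exact Nat.card_congr (Equiv.setCongr (Set.ext fun x => p.mem x))

/-- an involution of `K` centralizing a Sylow subgroup -/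
theorem mem_of_sq (hk : k ∈ d.K) (hc : k ∈ cen R) (h : k * k = 1) : k ∈ R :=
  p.syl.le_of_le_normalizer' (two_of_sq h) (zpowers_le.2 hk)
    (zpowers_le.2 (centralizer_le_normalizer _ hc)) (mem_zpowers k)

end GP

variable (g0 : G0 d) (g1 : G1 d) (p : GP d R r)
include g0

theorem x_A₀ : d.x ∈ d.A₀ := ⟨g0.toGR.xA, mc1.2 rfl⟩

theorem C₀_le : cen d.A₀ ≤ cen1 d.x := fun _ h => mc1.2 (h _ (x_A₀ g0)).symm

omit g0 in
theorem K_le₀ : d.K ≤ cen d.A₀ := centralizer_anti inf_le_left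

theorem vz_ext {s t e s' t' e' : F4} (h : d.v s t * d.z e = d.v s' t' * d.z e') : s = s' ∧ t = t' ∧ e = e' := by
  have c : ∀ e s t, Commute (d.z e) (d.v s t) := fun _ _ _ => g0.uv ..
  have h1 : d.v s t * d.z e * (d.v s' t' * d.z (e' + t' * s')) = 1 := by
    rw [h, (c ..).mul_mul_mul_comm, g0.vv, F4.add_self, F4.add_self, g0.toGR.v0, one_mul, g0.toGR.zz,
      g0.toGR.zz, ← add_assoc e', F4.add_self, zero_add, F4.add_self, g0.toGR.z0]
  rw [(c ..).mul_mul_mul_comm, g0.vv, mul_assoc, g0.toGR.zz, g0.toGR.zz, ← (c ..).eq] at h1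
  obtain ⟨-, -, -, h2, h3, -⟩ := g0.inj 0 0 _ _ _ 0 (by rw [g0.toGR.l0, mul_one]; exact h1)
  obtain rfl : s = s' := add_eq_zero_iff_eq_neg.1 h2
  obtain rfl : t = t' := add_eq_zero_iff_eq_neg.1 h3
  exact ⟨rfl, rfl, g0.toGR.z_inj (mul_left_cancel h)⟩

theorem x_ord : orderOf d.x = 3 :=
  haveI : Fact (Nat.Prime 3) := ⟨Nat.prime_three⟩
  orderOf_eq_prime g0.x3 fun e => by
    have h1 := g0.xv 1 0
    rw [e, one_mul, inv_one, mul_one] at h1
    exact absurd (vz_ext g0 (congrArg (· * d.z 0) h1)).1 (by decide)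

theorem z_not {e : F4} (h : d.z e ∈ cen d.A₀) : e = 0 := by
  have := g0.toGR.nz e
  rw [h d.n ⟨g0.nA, mc1.2 g0.xn.symm⟩, mul_inv_cancel_right] at this
  exact (g0.hm.ext this).2.2

include g1

theorem sqN : sqs d.N ≤ d.K ⊔ d.A := (closure_le _).2 (by
  rintro _ ⟨y, hy, rfl⟩
  rcases g1.out2 y hy y hy with h | h | h
  exacts [mul_mem h h, mul_mem h h, h])

omit g0 in
theorem k_sq {a : G} (hk : k ∈ d.K) (ha : a ∈ d.A) (h : k * a * (k * a) = 1) : k * k = 1 := by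
  have e : k * k = (a * a)⁻¹ := eq_inv_of_mul_eq_one_left (by
    rw [← h, (cKA hk ha).symm.mul_mul_mul_comm])
  exact mem_bot.1 (g1.zk.le ⟨e ▸ d.A.inv_mem (mul_mem ha ha), mul_mem hk hk⟩)

omit g0 in
theorem QA_two : IsPGroup 2 d.QA := IsPGroup.of_card (n := 10) g1.cardQ

theorem QA_le : d.QA ≤ d.D := fun q hq => by
  obtain ⟨a, b, e, s, t, rfl⟩ := (g1.memQ q).1 hq
  exact mul_mem (g0.toGR.uD ..) (g0.toGR.vD ..)

include p

theorem sylC : IsSyl 2 R (cen d.A₀) := by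
  refine isSyl_of_isSyl_normalizer ⟨le_inf (p.syl.le.trans K_le₀) le_normalizer, p.syl.isPGroup,
    fun Q hQ h1 h2 => p.syl.eq_of_le hQ h1 fun q hq => ?_⟩
  obtain ⟨k, hk, a, ha, e⟩ := mem_KA (zpowers_le.2 g0.toGR.xA) (g1.c0 ⟨std_mem_normalizer' g0.std
    (p.r_ord one_ne_zero) (p.rK 1) (p.syl.le (conj_mem_of_mem_normalizer (h2 hq).2 (p.rR 1))), (h2 hq).1⟩)
  obtain ⟨i, rfl⟩ := ha
  obtain ⟨n, hn⟩ := isPGroup_iff_forall.1 hQ q hq
  have h3 : q ^ 3 ∈ d.K := by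
    rw [← e, (cKA hk (zpow_mem g0.toGR.xA i)).mul_pow, ← zpow_natCast (_ ^ i), ← zpow_mul, mul_comm i,
      zpow_mul, zpow_natCast, g0.x3, one_zpow, mul_one]
    exact pow_mem hk 3
  exact zpowers_le.2 h3 (mem_zpowers_pow_iff.2 ((Nat.Coprime.pow_right n (by norm_num)).coprime_dvd_right
    (orderOf_dvd_of_pow_eq_one hn)))

theorem in_cj (os : orderOf s = 2) (h : s ∈ cen d.A₀) : ∃ c ∈ cen d.A₀, s ∈ cj c d.K := by
  obtain ⟨c, hc, h1⟩ := (sylC g0 g1 p).exists_le_cj (two_of_sq (by rw [← pow_two, ← os, pow_orderOf_eq_one]))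
    (zpowers_le.2 h)
  exact ⟨c, hc, cj_mono c p.syl.le (h1 (mem_zpowers s))⟩

theorem key (hg : g ∈ cen1 d.x) (os : orderOf s = 2) (h1 : s ∈ cen d.A₀) (h2 : s ∈ cj g (cen d.A₀)) :
    g ∈ nor d.A₀ := by
  obtain ⟨c, hc, k1⟩ := in_cj g0 g1 p os h1
  obtain ⟨c', hc', k2⟩ := in_cj g0 g1 p (s := g⁻¹ * s * g⁻¹⁻¹) (by rwa [orderOf_conj']) (by
    simpa using mem_cj.1 h2)
  have k3 := same g0.std.2.1 os k1 (g' := g * c') (by rw [← cj_cj, mem_cj]; simpa using k2)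
  have k4 : c⁻¹ * (g * c') ∈ d.N := g0.std.2.2.2.ge (cj_eq_self_iff.1 (by rw [← cj_cj, ← k3, cj_inv_cj]))
  have k5 : c⁻¹ * (g * c') ∈ nor d.A₀ := inf_normalizer_le_normalizer_inf ⟨k4, le_normalizer
    (mul_mem (inv_mem (C₀_le g0 hc)) (mul_mem hg (C₀_le g0 hc')))⟩
  have := mul_mem (mul_mem (centralizer_le_normalizer _ hc) k5) (inv_mem (centralizer_le_normalizer _ hc'))
  rwa [mul_inv_cancel_left, mul_inv_cancel_right] at this

theorem std₀ : IsStandardSubgroup (d.A₀.subgroupOf (cen1 d.x)) := by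
  have h : d.A₀ ≤ cen1 d.x := inf_le_right
  have r1 : r 1 ∈ cen d.A₀ := K_le₀ (p.rK 1)
  have ot : orderOf (⟨r 1, C₀_le g0 r1⟩ : cen1 d.x) = 2 := by
    rw [← p.r_ord one_ne_zero]; exact (orderOf_coe _).symm
  have nn : ∀ g : cen1 d.x, (g : G) ∈ nor d.A₀ → g ∈ nor ((cen d.A₀).subgroupOf (cen1 d.x)) := fun g hg =>
    cj_eq_self_iff.1 (by rw [cj_sub, cj_eq_self (normalizer_le_normalizer_centralizer _ hg)])
  refine ⟨quasi_of_mulEquiv g0.qs₀ (subgroupOfEquivOfLe h).symm, ?_, fun g _ e => ?_, ?_⟩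
  · rw [centralizer_subgroupOf h]
    refine ⟨even_iff_two_dvd.2 (two_dvd_card_of_mem (t := ⟨r 1, _⟩) r1 ot), fun g hg => ?_⟩
    by_contra h2
    obtain ⟨y, hy, oy⟩ := exists_involution_mem (even_iff_two_dvd.1 (Nat.not_odd_iff_even.1 h2))
    exact hg (nn g (key g0 g1 p g.2 ((orderOf_coe y).trans oy) hy.1 ((cj_sub g _).le hy.2)))
  · have := congrArg (map (cen1 d.x).subtype) e
    rw [map_commutator, Subgroup.map_bot, map_cj, map_subgroupOf_eq_of_le h, commutator_comm,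
      commutator_eq_bot_iff_le_centralizer] at this
    have h1 := (sylC g0 g1 p).card_le (H98.isPGroup_cj (g : G) g1.syl₀.isPGroup)
      ((cj_mono (g : G) g1.syl₀.le).trans this)
    have h2 : g0.hm.A ≤ d.U := fun _ ⟨_, _, e⟩ => subset_closure ⟨_, _, _, e⟩
    have h3 := card_le_of_le h2
    rw [g0.hm.card_A, show Nat.card F4 = 4 by simp; rfl] at h3
    rw [card_cj, p.card] at h1
    omega
  · rw [centralizer_subgroupOf h, ← subgroupOf_normalizer_eq h]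
    exact Subgroup.ext fun g => ⟨nn g, fun hg => key g0 g1 p g.2 (s := g * r 1 * (g : G)⁻¹)
      (by rw [orderOf_conj', p.r_ord one_ne_zero])
      (conj_mem_of_mem_normalizer hg (x := ⟨r 1, C₀_le g0 r1⟩) r1) (conj_mem_cj r1)⟩

theorem twist : ∃ g ∈ cen1 d.x, ∀ c, r c * d.z c ∈ cj g d.K := by
  obtain ⟨g, -, hg⟩ := p.tw
  have gr := g0.toGR
  have cz : ∀ c c', Commute (d.z c) (r c') := fun c c' => (cKA (p.rK c') (g0.uA ..)).symm
  let T : Subgroup G :=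
    { carrier := {t | ∃ c, r c * d.z c = t}
      mul_mem' := by
        rintro _ _ ⟨c, rfl⟩ ⟨c', rfl⟩
        exact ⟨c + c', by rw [p.add, ← gr.zz, (cz c c').symm.mul_mul_mul_comm]⟩
      one_mem' := ⟨0, by rw [p.r0, gr.z0, one_mul]⟩
      inv_mem' := by
        rintro _ ⟨c, rfl⟩
        exact ⟨c, eq_inv_of_mul_eq_one_left (by rw [(cz c c).mul_mul_mul_comm, p.r_sq, gr.z_sq, one_mul])⟩ }
  have sq : ∀ c, r c * d.z c * (r c * d.z c) = 1 := fun c => by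
    rw [(cz c c).mul_mul_mul_comm, p.r_sq, gr.z_sq, one_mul]
  have ne : ∀ c, r c * d.z c = 1 → c = 0 := fun c e => p.inj c (mem_bot.1 (g1.zk.le
    ⟨eq_inv_of_mul_eq_one_left e ▸ d.A.inv_mem (g0.uA ..), p.rK c⟩))
  have eT : El T := by rintro _ ⟨c, rfl⟩; exact sq c
  have cT : Nat.card T = 4 := by
    have := Nat.card_range_of_injective (f := fun c => r c * d.z c) fun a b e => by
      have := ne (a + b) (by rw [p.add, ← gr.zz, (cz a b).symm.mul_mul_mul_comm, show r a * d.z a = _ from e, sq])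
      rwa [add_eq_zero_iff_eq_neg] at this
    rwa [show Nat.card F4 = 4 by simp; rfl] at this
  have sT : IsSyl 2 (cj g⁻¹ T) d.K := p.syl.of_card_ge (H98.isPGroup_cj _ eT.two)
    (le_cj_iff.1 (by rintro _ ⟨c, rfl⟩; exact hg c)) (by rw [card_cj, cT, p.card])
  have DT : d.D ≤ cen T := by
    rintro δ hδ _ ⟨c, rfl⟩
    exact ((cKA (p.rK c) hδ.1).mul_left (g1.dZ hδ _ (gr.zZ c))).eq
  have DN : d.D ≤ cj g d.N := fun δ hδ => mem_cj.2 (std_centralizer_le g0.std (t := g⁻¹ * (r 1 * d.z 1) * g)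
    (by simpa using (orderOf_conj' g⁻¹ _).trans (orderOf_two_of_mul_self (sq 1) fun e => one_ne_zero (ne 1 e)))
    (mem_cj.1 (hg 1)) (mc1.2 (by
      have := DT hδ _ ⟨1, rfl⟩
      calc g⁻¹ * δ * g * (g⁻¹ * (r 1 * d.z 1) * g) = g⁻¹ * (δ * (r 1 * d.z 1)) * g := by group
        _ = _ := by rw [← this]; group)))
  have D1 : d.D ≤ cj g (d.K ⊔ d.A) := g1.sqD.trans ((closure_le _).2 (by
    rintro _ ⟨y, hy, rfl⟩
    exact mem_cj.2 (sqN g0 g1 (subset_closure ⟨_, mem_cj.1 (DN hy), by group⟩))))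
  have inv : ∀ δ ∈ d.D, δ * δ = 1 → δ ∈ cj g (cj g⁻¹ T ⊔ d.A) := fun δ hδ e => by
    obtain ⟨k, hk, a, ha, e1⟩ := mem_KA le_rfl (mem_cj.1 (D1 hδ))
    rw [mem_cj, ← e1]
    refine mul_mem_sup (sT.le_of_le_normalizer' (two_of_sq (k_sq g1 hk ha (by
      rw [e1, show g⁻¹ * δ * g * (g⁻¹ * δ * g) = g⁻¹ * (δ * δ) * g by group, e]; simp))) (zpowers_le.2 hk)
      (zpowers_le.2 (centralizer_le_normalizer _ fun t ht => ?_)) (mem_zpowers k)) ha
    have h1 : t * (k * a) = k * a * t := by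
      obtain ⟨t, ht, rfl⟩ := ht
      have := DT hδ t ht
      rw [e1]
      calc g⁻¹ * t * g⁻¹⁻¹ * (g⁻¹ * δ * g) = g⁻¹ * (t * δ) * g := by group
        _ = g⁻¹ * δ * g * (g⁻¹ * t * g⁻¹⁻¹) := by rw [this]; group
    rwa [mul_assoc, ← (cKA (sT.le ht) ha).eq, ← mul_assoc, ← mul_assoc, mul_left_inj] at h1
  have D2 : d.D ≤ cj g d.A := g1.sqD.trans ((closure_le _).2 (by
    rintro _ ⟨y, hy, rfl⟩
    have := mem_cj.1 (g1.dgen _ (fun a => inv _ (gr.uD ..) (by rw [← pow_two, g0.hm.sq, mul_zero, g0.hm.one]))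
      (fun t => inv _ (gr.lD t) (gr.l_sq t)) (inv _ gr.τD g0.ττ) hy)
    obtain ⟨t, ht, a, ha, e⟩ := mem_sup_of_commutator_eq_bot
      (commutator_eq_bot_iff_le_centralizer.2 sT.le) this
    refine mem_cj.2 ?_
    rw [show g⁻¹ * (y * y) * g = g⁻¹ * y * g * (g⁻¹ * y * g) by group, ← e,
      (cKA (sT.le ht) ha).symm.mul_mul_mul_comm, eT.cj _ t ht, one_mul]
    exact mul_mem ha ha))
  obtain ⟨c, hc, e⟩ := g1.lg (g⁻¹ * d.z 1 * g⁻¹⁻¹) (by simpa using mem_cj.1 (D2 (gr.uD ..)))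
    (by rw [orderOf_conj', gr.z_ord one_ne_zero]) (cj g⁻¹ d.QA)
    (le_inf (le_cj_iff.1 ((QA_le g0 g1).trans D2)) (by
      rintro _ ⟨q, hq, rfl⟩
      refine mc1.2 ?_
      show g⁻¹ * q * g⁻¹⁻¹ * _ = _ * (g⁻¹ * q * g⁻¹⁻¹)
      rw [conj_mul, conj_mul, (mc1.1 (QA_le g0 g1 hq).2).eq]))
    (H98.isPGroup_cj _ (QA_two g1)) (by rw [card_cj, g1.cardQ]; norm_num)
  have e1 : (g * c)⁻¹ * d.z 1 * (g * c)⁻¹⁻¹ = d.z 1 := by
    rw [show (g * c)⁻¹ * d.z 1 * (g * c)⁻¹⁻¹ = c⁻¹ * (g⁻¹ * d.z 1 * g⁻¹⁻¹) * c by group, ← e]; group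
  obtain ⟨c', hc', e'⟩ := g1.x3 ((g * c)⁻¹ * d.x * (g * c)⁻¹⁻¹) ⟨by
      have := mul_mem (mul_mem (inv_mem hc) (mem_cj.1 (D2 gr.xD))) hc
      simpa [mul_assoc] using this, mc1.2 (by
      rw [← e1, Commute, SemiconjBy, conj_mul, conj_mul, (g0.xu ..).eq])⟩
    (by rw [orderOf_conj', x_ord g0])
  refine ⟨g * c * c', mc1.2 ?_, fun a => ?_⟩
  · calc g * c * c' * d.x = g * c * (c' * d.x * c'⁻¹) * c' := by group
      _ = _ := by rw [e']; group
  · rw [mul_assoc, ← cj_cj, cj_eq_self (normalizer_le_normalizer_centralizer _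
      (le_normalizer (mul_mem hc hc'.1)))]
    exact hg a

section
variable {b : G} {a : F4} (b2 : b * b = 1) (bu : ∀ a' b' c, Commute b (d.u a' b' c)) (bx : Commute b d.x)
  (br : ∀ c, b * r c * b⁻¹ = r c * d.z (c * a))
include bu br

theorem b_nor : b ∈ nor (cen (R ⊔ d.Z)) := by
  refine normalizer_le_normalizer_centralizer _ (mem_normalizer_of_cj_le ?_)
  rw [cj_sup]
  refine sup_le ?_ ?_
  · rintro _ ⟨t, ht, rfl⟩
    obtain ⟨c, rfl⟩ := (p.mem t).1 ht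
    exact show b * r c * b⁻¹ ∈ _ from (br c).symm ▸ mul_mem_sup ht (g0.toGR.zZ _)
  · rintro _ ⟨t, ht, rfl⟩
    obtain ⟨c, rfl⟩ := g0.toGR.mem_Z.1 ht
    exact mem_sup_right (show b * d.z c * b⁻¹ ∈ _ by rwa [(bu ..).eq, mul_inv_cancel_right])

omit bu br in
theorem D_le : d.D ≤ cen (R ⊔ d.Z) := by
  rw [cen, H98.centralizer_sup]
  exact le_inf (fun δ hδ t ht => (cKA (p.syl.le ht) hδ.1).eq) g1.dZ

omit bu br in
theorem C_dec (hg : g ∈ cen (R ⊔ d.Z)) : ∃ k ∈ d.K, ∃ δ ∈ d.D, k * δ = g :=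
  mem_KA inf_le_left (g1.cz ⟨std_centralizer_le g0.std (p.r_ord one_ne_zero) (p.rK 1)
    (mc1.2 (hg _ (mem_sup_left (p.rR 1))).symm), centralizer_anti le_sup_right hg⟩)

include bx in
theorem b_v (s t : F4) : ∃ s' t' e, b * d.v s t * b⁻¹ = d.v s' t' * d.z e := by
  have gr := g0.toGR
  have n := b_nor g0 g1 p bu br
  have hT : cj b d.QA ≤ cen (R ⊔ d.Z) := cj_le_of_le ((QA_le g0 g1).trans (D_le g0 g1 p)) n
  have h1 := g1.o2D (cj b d.QA) (fun q hq => by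
      obtain ⟨k, hk, δ, hδ, rfl⟩ := C_dec g0 g1 p (hT hq)
      exact mul_mem_sup hk hδ) (H98.isPGroup_cj _ (QA_two g1)) fun δ hδ => by
    obtain ⟨k, hk, δ', hδ', e⟩ := C_dec g0 g1 p (conj_mem_of_mem_normalizer' n (D_le g0 g1 p hδ))
    refine (cj_normalizer b _).le (mem_cj.2 (e ▸ mul_mem (centralizer_le_normalizer _
      (centralizer_anti ((QA_le g0 g1).trans inf_le_left) hk)) (g1.dQ hδ')))
  have cz : ∀ e s t, Commute (d.z e) (d.v s t) := fun _ _ _ => g0.uv ..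
  have cm : ∀ s t, d.x * d.v s t * d.x⁻¹ * (d.v s t)⁻¹ =
      d.v (F4.w * s) (F4.v * t) * d.z (F4.v * (s * t)) := fun s t => by
    rw [g0.xv, mul_inv_eq_iff_eq_mul, mul_assoc, (cz ..).eq, ← mul_assoc, g0.vv, mul_assoc, gr.zz]
    rw [(by decide : ∀ s : F4, F4.w * s + s = F4.v * s), (by decide : ∀ s : F4, F4.v * s + s = F4.w * s),
      (by decide : ∀ s t : F4, F4.v * t * s + F4.v * (s * t) = 0), gr.z0, mul_one]
  obtain ⟨k, hk, q, hq, e⟩ := mem_KA ((QA_le g0 g1).trans inf_le_left) (h1 (conj_mem_cj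
    ((g1.memQ _).2 ⟨0, 0, 0, F4.v * s, F4.w * t, rfl⟩)))
  obtain ⟨a', b', e', s', t', rfl⟩ := (g1.memQ q).1 hq
  rw [g0.hm.one, one_mul] at e
  have h2 := cm (F4.v * s) (F4.w * t)
  rw [(by decide : ∀ s : F4, F4.w * (F4.v * s) = s), (by decide : ∀ s : F4, F4.v * (F4.w * s) = s)] at h2
  have h3 : Commute d.x (k * d.u a' b' e') := (cKA hk gr.xA).symm.mul_right (g0.xu ..)
  have h4 : ∀ s t, Commute (k * d.u a' b' e') (d.v s t) := fun s t =>
    (cKA hk (g0.vA ..)).mul_left (g0.uv ..)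
  refine ⟨F4.w * s', F4.v * t', F4.v * (s' * t') + F4.v * (F4.v * s * (F4.w * t)), ?_⟩
  rw [← gr.zz, ← mul_assoc, ← cm, eq_mul_inv_iff_mul_eq.2 h2.symm, inv_eq_of_mul_eq_one_right (gr.z_sq _),
    ← conj_mul, (bu ..).eq, mul_inv_cancel_right, mul_left_inj]
  generalize d.v (F4.v * s) (F4.w * t) = y at e
  calc _ = b * d.x * b⁻¹ * (b * y * b⁻¹) * (b * d.x * b⁻¹)⁻¹ * (b * y * b⁻¹)⁻¹ := by group
    _ = d.x * (k * d.u a' b' e') * d.v s' t' * d.x⁻¹ * (d.v s' t')⁻¹ * (k * d.u a' b' e')⁻¹ := by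
      rw [← e, bx.eq, mul_inv_cancel_right]; group
    _ = k * d.u a' b' e' * (d.x * d.v s' t' * d.x⁻¹ * (d.v s' t')⁻¹) * (k * d.u a' b' e')⁻¹ := by
      rw [h3.eq]; group
    _ = _ := by
      rw [g0.xv, ((h4 ..).mul_right (h4 ..).inv_right).eq, mul_inv_cancel_right]

include b2 bx in
theorem b_cv (s t : F4) : Commute b (d.v s t) := by
  have gr := g0.toGR
  choose f f' ε h using b_v g0 g1 p bu bx br
  have cz : ∀ e s t, Commute (d.z e) (d.v s t) := fun _ _ _ => g0.uv ..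
  have m : ∀ s t s' t', ε (s + s') (t + t') + t * s' = f' s t * f s' t' + (ε s t + ε s' t') := fun s t s' t' => by
    have := congrArg (fun y => b * y * b⁻¹) (g0.vv s t s' t')
    simp only [← conj_mul, h] at this
    rw [(bu ..).eq, mul_inv_cancel_right, (cz ..).mul_mul_mul_comm, g0.vv, mul_assoc, mul_assoc, gr.zz,
      gr.zz, gr.zz] at this
    exact (vz_ext g0 this).2.2.symm
  have X : ∀ s t, f (F4.v * s) (F4.w * t) = F4.v * f s t ∧ f' (F4.v * s) (F4.w * t) = F4.w * f' s t ∧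
      ε (F4.v * s) (F4.w * t) = ε s t := fun s t => by
    refine vz_ext g0 ?_
    have e : d.x * d.z (ε s t) * d.x⁻¹ = d.z (ε s t) := mul_inv_eq_iff_eq_mul.2 (g0.xu ..).eq
    rw [← h, ← g0.xv, ← g0.xv, ← e, conj_mul, ← h]
    calc _ = b * d.x * d.v s t * (b * d.x)⁻¹ := by group
      _ = _ := by rw [bx.eq]; group
  have z : ε 0 0 = 0 := (vz_ext g0 (s' := 0) (t' := 0) (by rw [← h, gr.v0, gr.z0]; simp)).2.2
  have a1 := m 1 0 1 0
  have a2 := m 0 1 0 1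
  have a3 := m 1 0 0 1
  have a4 := m 0 1 1 0
  have a5 := m 1 0 0 F4.w
  have a6 := m 0 F4.w 1 0
  have a7 := m 1 0 F4.v 0
  have a8 := m 0 1 0 F4.w
  have x1 := X 1 0
  have x2 := X F4.v 0
  have x3 := X 0 1
  have x4 := X 0 F4.w
  simp only [F4.add_self, z, mul_zero, mul_one, zero_mul, add_zero, zero_add,
    (by decide : 1 + F4.v = F4.w), (by decide : 1 + F4.w = F4.v), (by decide : F4.v * F4.v = F4.w),
    (by decide : F4.w * F4.w = F4.v)] at a1 a2 a3 a4 a5 a6 a7 a8 x1 x2 x3 x4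
  rw [x3.1] at a5
  rw [x3.2.1, a5] at a6
  rw [a3] at a4
  rw [x2.2.2, x1.2.2, x1.1, F4.add_self] at a7
  rw [x4.2.2, x3.2.2, x3.1, F4.add_self] at a8
  obtain ⟨k1, k2, k3⟩ : f' 1 0 = 0 ∧ f 0 1 = 0 ∧ f' 0 1 * f 1 0 = 1 :=
    (by decide : ∀ α γ α' γ' : F4, 0 = γ * α → 0 = γ' * α' → γ * α' + 1 = γ' * α →
      γ * (F4.v * α') + F4.w = F4.w * γ' * α → γ = 0 ∧ α' = 0 ∧ γ' * α = 1) _ _ _ _ a1 a2
      (by linear_combination a4) (by linear_combination a6)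
  simp only [k1, k2, mul_zero, zero_mul, add_zero] at a7 a8 x1 x2 x3 x4
  have h1 : ∀ s, b * d.v s 0 * b⁻¹ = d.v (s * f 1 0) 0 := fun s => by
    rcases s with _ | _ | _ | _
    · exact (by rw [zero_mul, gr.v0]; simp : b * d.v 0 0 * b⁻¹ = d.v (0 * f 1 0) 0)
    · exact (by rw [h, k1, a7, gr.z0, mul_one, one_mul] : b * d.v 1 0 * b⁻¹ = d.v (1 * f 1 0) 0)
    · rw [h, x2.1, x2.2.1, x2.2.2, x1.1, x1.2.1, x1.2.2, a7, gr.z0, mul_one, mul_zero, ← mul_assoc]; rfl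
    · rw [h, x1.1, x1.2.1, x1.2.2, a7, gr.z0, mul_one]
  have k4 : f 1 0 = 1 := by
    have := h1 (1 * f 1 0)
    rw [← h1, show b * (b * d.v 1 0 * b⁻¹) * b⁻¹ = b * b * d.v 1 0 * (b * b)⁻¹ by group, b2] at this
    exact (by decide : ∀ a : F4, 1 = 1 * a * a → a = 1) _
      (vz_ext g0 (e := 0) (e' := 0) (by simpa using this)).1
  rw [k4, mul_one] at k3
  have h2 : ∀ t, b * d.v 0 t * b⁻¹ = d.v 0 t := fun t => by
    rcases t with _ | _ | _ | _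
    · exact (by rw [gr.v0]; simp : b * d.v 0 0 * b⁻¹ = d.v 0 0)
    · exact (by rw [h, k2, k3, a8, gr.z0, mul_one] : b * d.v 0 1 * b⁻¹ = d.v 0 1)
    · rw [h, x3.1, x3.2.1, x3.2.2, k3, a8, gr.z0, mul_one, mul_one]
    · rw [h, x4.1, x4.2.1, x4.2.2, x3.1, x3.2.1, x3.2.2, k3, a8, gr.z0, mul_one, mul_one, mul_zero]; rfl
  rw [gr.v_dec]
  exact Commute.mul_right (mul_inv_eq_iff_eq_mul.1 (by rw [h1, k4, mul_one])) (mul_inv_eq_iff_eq_mul.1 (h2 t))

include b2 bx in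
theorem b_D : d.D ≤ cen1 b := by
  have gr := g0.toGR
  have n := b_nor g0 g1 p bu br
  have cQ : ∀ q ∈ d.QA, Commute b q := fun q hq => by
    obtain ⟨a, b, e, s, t, rfl⟩ := (g1.memQ q).1 hq
    exact (bu ..).mul_right (b_cv g0 g1 p b2 bu bx br s t)
  have DC := D_le g0 g1 p
  have inv : ∀ δ ∈ d.D, δ * δ = 1 → δ ∈ H21.TE.Cm DC b := fun δ hδ e => ⟨hδ, by
    have h0 := mul_mem (conj_mem_of_mem_normalizer n (DC hδ)) (inv_mem (DC hδ))
    obtain ⟨k, hk, δ', hδ', e1⟩ := C_dec g0 g1 p h0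
    have h1 : δ' ∈ d.Z := g1.cQ ⟨hδ'.1, fun q hq => mul_left_cancel (a := k) (by
      have h2 := (cQ _ (conj_mem_of_mem_normalizer' (g1.dQ hδ) hq)).inv_left.eq
      rw [← mul_assoc, (cKA hk (QA_le g0 g1 hq).1).eq, mul_assoc, ← mul_assoc k, e1]
      calc _ = q * b * δ * b⁻¹ * δ⁻¹ := by group
        _ = b * δ * ((δ⁻¹ * q * δ) * b⁻¹) * δ⁻¹ := by rw [← (cQ q hq).eq]; group
        _ = _ := by rw [← h2]; group)⟩
    have h2 : k ∈ R := p.mem_of_sq hk (centralizer_anti le_sup_left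
      ((mul_mem_cancel_right (DC hδ')).1 (e1 ▸ h0))) (k_sq g1 hk (mul_mem hδ'.1 hδ.1) (by
        rw [← mul_assoc k, e1, inv_mul_cancel_right, conj_mul, e]; simp))
    have := inv_mem (e1 ▸ mul_mem_sup h2 h1 : b * δ * b⁻¹ * δ⁻¹ ∈ R ⊔ d.Z)
    simpa [mul_assoc] using this⟩
  refine g1.sqD.trans ((closure_le _).2 ?_)
  rintro _ ⟨y, hy, rfl⟩
  have h1 := (g1.dgen _ (fun a => inv _ (gr.uD ..) (by rw [← pow_two, g0.hm.sq, mul_zero, g0.hm.one]))
    (fun t => inv _ (gr.lD t) (gr.l_sq t)) (inv _ gr.τD g0.ττ) hy).2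
  have h2 := DC hy _ h1
  obtain ⟨t, ht, ζ, hζ, e⟩ := mem_sup_of_commutator_eq_bot (commutator_eq_bot_iff_le_centralizer.2
    fun t ht ζ hζ => (DC (by obtain ⟨e, rfl⟩ := gr.mem_Z.1 hζ; exact gr.uD ..) t (mem_sup_left ht)).symm) h1
  obtain ⟨ε, rfl⟩ := gr.mem_Z.1 hζ
  have h3 : t * d.z ε * (t * d.z ε) = 1 := by
    rw [(cKA (p.syl.le ht) (g0.uA ..)).symm.mul_mul_mul_comm, p.el t ht, gr.z_sq, one_mul]
  rw [← e] at h2
  have h4 : y * b = t * d.z ε * b * y := by rw [e]; group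
  refine mc1.2 ?_
  calc y * y * b = y * (t * d.z ε) * b * y := by rw [mul_assoc, h4]; group
    _ = t * d.z ε * (y * b) * y := by rw [← h2]; group
    _ = t * d.z ε * (t * d.z ε) * b * (y * y) := by rw [h4]; group
    _ = _ := by rw [h3, one_mul]

end

end H88.CG
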