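/- CG, job GC, second part: the tower for `L₃(4)` inside the centralizer of `x`. -/
import Cfsg.Agent.H88.CGCa
import Cfsg.Agent.H21.TEAsm
import Cfsg.Agent.H95.TES3
import Cfsg.Agent.H33.TEResc

set_option autoImplicit false
set_option linter.unusedSectionVars false

namespace H88.CG

open Subgroup Cfsg H98 H14 H1.Gold H86.L34 H88.AS
open H6 (F4)
open H88.TE (El sqs mc1 Dt Fr0 Fr Pr Sz SD SQ)

universe u
variable {G : Type u} [Group G] [Finite G] {d : GD G} {R : Subgroup G} {r : F4 → G}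

local instance : Fact (Nat.Prime 2) := ⟨Nat.prime_two⟩

variable (g0 : G0 d) (g1 : G1 d) (p : GP d R r)

/-- the frame of `A₀` in the centralizer of `x` -/
def dt : Dt (cen1 d.x) where
  A := d.A₀.subgroupOf _
  u a b c := ⟨d.u a b c, mc1.2 (g0.xu ..).symm⟩
  h := ⟨d.h, mc1.2 g0.xh.symm⟩
  n := ⟨d.n, mc1.2 g0.xn.symm⟩
  m := ⟨d.m, mc1.2 g0.toGR.xm.symm⟩

theorem dt_K : (dt g0).K = (cen d.A₀).subgroupOf _ := centralizer_subgroupOf inf_le_right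

theorem dt_mem {a : cen1 d.x} (h : (a : G) ∈ d.A) : a ∈ (dt g0).A := ⟨h, a.2⟩

theorem dt_U : (dt g0).U = d.U.subgroupOf _ := Subgroup.ext fun g =>
  ⟨fun h => (closure_le (d.U.subgroupOf _)).2 (by rintro _ ⟨a, b, c, rfl⟩; exact subset_closure ⟨a, b, c, rfl⟩) h,
    fun h => let ⟨a, b, c, e⟩ := g0.toGR.mem_U.1 h; subset_closure ⟨a, b, c, Subtype.ext e⟩⟩

theorem dt_Z : (dt g0).Z = d.Z.subgroupOf _ := Subgroup.ext fun g =>
  ⟨fun h => (closure_le (d.Z.subgroupOf _)).2 (by rintro _ ⟨a, rfl⟩; exact subset_closure ⟨a, rfl⟩) h,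
    fun h => let ⟨a, e⟩ := g0.toGR.mem_Z.1 h; subset_closure ⟨a, Subtype.ext e⟩⟩

theorem x_K (i : ℕ) {g : cen1 d.x} (h : ↑g = d.x ^ i) : g ∈ (dt g0).K := fun a _ =>
  Subtype.ext (by rw [coe_mul, coe_mul, h]; exact ((mc1.1 a.2).pow_right i).eq)

include g1 p

theorem fr0 : Fr0 (dt g0) := by
  have gr := g0.toGR
  have hm : HM (dt g0).u := g0.hm.res (X := cen1 d.x) (by rintro _ ⟨a, b, c, rfl⟩; exact mc1.2 (g0.xu ..).symm)
  have one : ∀ {g : cen1 d.x}, (g : G) = 1 → g ∈ (dt g0).K := fun h => x_K g0 0 (h.trans (pow_zero _).symm)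
  have nu : ∀ a c, (dt g0).n * (dt g0).u a 0 c * (dt g0).n⁻¹ = (dt g0).u c 0 a :=
    fun a c => Subtype.ext (g0.nu a c)
  have mu : ∀ a c, (dt g0).m * (dt g0).u 0 a c * (dt g0).m⁻¹ = (dt g0).u 0 c a :=
    fun a c => Subtype.ext (gr.mu a c)
  have e1 : d.τ * d.m * d.τ⁻¹ = d.n := by
    rw [GD.m, gr.τ_inv]; simp only [← mul_assoc, g0.ττ, one_mul]; rw [mul_assoc, g0.ττ, mul_one]
  have nm : ((dt g0).n * (dt g0).m) ^ 3 ∈ (dt g0).K := one g0.nm3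
  exact
    { std := std₀ g0 g1 p
      zodd := fun a ha hk => by
        rw [dt_K] at hk
        obtain ⟨k, h1, _, ⟨i, rfl⟩, e⟩ := mem_KA (zpowers_le.2 gr.xA) (g1.c0 ⟨le_normalizer ha.1, hk⟩)
        obtain rfl : k = 1 := mem_bot.1 (g1.zk.le ⟨(mul_mem_cancel_right (zpow_mem gr.xA i)).1 (e ▸ ha.1), h1⟩)
        rw [← orderOf_coe, show (a : G) = _ from e.symm, one_mul]
        exact Odd.of_dvd_nat (n := 3) (by decide) (x_ord g0 ▸ orderOf_dvd_of_mem_zpowers ⟨i, rfl⟩)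
      hm := hm
      uA := fun _ _ _ => dt_mem g0 (g0.uA ..)
      syl := dt_U g0 ▸ g1.syl₀.subgroupOf inf_le_right
      hA := dt_mem g0 g0.hA
      h3 := Subtype.ext g0.h3
      hu := fun _ _ _ => Subtype.ext (g0.hu ..)
      nA := dt_mem g0 g0.nA
      nn := Subtype.ext g0.nn
      nu := nu
      mA := dt_mem g0 gr.mA
      mm := Subtype.ext gr.mm
      mu := mu
      nh := x_K g0 2 g0.nh
      mh := x_K g0 4 (by
        have e : d.τ * d.h * d.τ⁻¹ = d.h := by rw [← g0.hτ.eq, mul_inv_cancel_right]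
        show d.m * d.h * d.m * d.h = d.x ^ 4
        rw [← e, GD.m, conj_mul, conj_mul, conj_mul, g0.nh, ← conj_pow, g0.τx, inv_pow,
          inv_eq_iff_mul_eq_one, ← pow_add, show 2 + 4 = 3 * 2 from rfl, pow_mul, g0.x3, one_pow])
      nv := one g0.nu3
      mv := one (by
        have e := g0.τu 0 1 0
        rw [zero_mul, add_zero] at e
        show (d.m * d.u 1 0 0) ^ 3 = 1
        rw [← e, GD.m, conj_mul, conj_pow, g0.nu3]; simp)
      nm := nm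
      br₁ := fun _ h => H33.TR.br_gen hm (Subtype.ext g0.nn) nu mu (centralizer_anti (by
        rintro _ ⟨a, c, rfl⟩; exact dt_mem g0 (g0.uA ..))) nm h
      br₂ := fun c h => H33.TR.br_gen hm.swap (Subtype.ext gr.mm) (by simpa using mu) (by simpa using nu)
        (centralizer_anti (by rintro _ ⟨a, c, rfl⟩; exact dt_mem g0 (g0.uA ..))) (one (by
          show (d.m * d.n) ^ 3 = 1
          rw [show d.m * d.n = d.τ * (d.n * d.m) * d.τ⁻¹ by rw [← conj_mul, e1, GD.m], conj_pow, g0.nm3]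
          simp)) (y := c) (by simpa using h)
      gen := fun B h1 h2 h3 a ha => by
        obtain ⟨b, hb, e⟩ := g0.gen₀ (B.map (cen1 d.x).subtype) (fun g hg => ⟨⟨g, (g1.syl₀.le hg).2⟩,
          h1 (dt_U g0 ▸ hg), rfl⟩) ⟨_, h2, rfl⟩ ⟨_, h3, rfl⟩ ha
        exact (Subtype.ext e : b = a) ▸ hb
      cenz := fun a ha h => by
        obtain ⟨i, a', b, c, e⟩ := g1.cenz₀ a ha (congrArg Subtype.val h.eq)
        exact ⟨⟨_, pow_mem (mc1.2 rfl) i⟩, x_K g0 i rfl, a', b, c, Subtype.ext e⟩ }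

include g0 in
omit g1 in
theorem r_H (c : F4) : r c ∈ cen1 d.x := C₀_le g0 (K_le₀ (p.rK c))

theorem pr0 (f : Fr (dt g0)) : Pr (dt g0) true (R.subgroupOf _) fun c => ⟨r c, r_H g0 p c⟩ where
  syl := dt_K g0 ▸ (sylC g0 g1 p).subgroupOf (C₀_le g0)
  mem := fun g => (p.mem g).trans ⟨fun ⟨c, e⟩ => ⟨c, .inl rfl, Subtype.ext e⟩,
    fun ⟨c, _, e⟩ => ⟨c, congrArg Subtype.val e⟩⟩
  add := fun c c' _ _ => Subtype.ext (p.add c c')
  inj := fun c _ e => p.inj c (congrArg Subtype.val e)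
  noKI := fun a ha ⟨o, g, h⟩ => by
    obtain ⟨b, -, rfl⟩ := f.cls a ha o
    rw [dt_K, cj_sub] at h
    have h1 := mem_cj.1 (show (b : G) * d.z 1 * (b : G)⁻¹ ∈ _ from h)
    obtain ⟨c, -, h2⟩ := in_cj g0 g1 p (s := (g : G)⁻¹ * b * d.z 1 * ((g : G)⁻¹ * b)⁻¹)
      (by rw [orderOf_conj', g0.toGR.z_ord one_ne_zero]) (by simpa [mul_assoc] using h1)
    exact p.noL (H88.TE.ki_cj.1 ⟨by rw [orderOf_conj', g0.toGR.z_ord one_ne_zero], c, h2⟩)
  tw := by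
    obtain ⟨g, hg, h⟩ := twist g0 g1 p
    have k : ∀ c, (⟨r c, r_H g0 p c⟩ * (dt g0).z c : cen1 d.x) ∈ cj ⟨g, hg⟩ (dt g0).K := fun c => by
      rw [dt_K, cj_sub]; exact cj_mono g K_le₀ (h c)
    refine ⟨⟨g, hg⟩, fun n => ?_, fun c _ => k c⟩
    have := k 1
    rw [cj_eq_self (normalizer_le_normalizer_centralizer _ n)] at this
    exact one_ne_zero (z_not g0 ((mul_mem_cancel_left (K_le₀ (p.rK 1))).1 ((dt_K g0).le this)))

theorem gam {O : Subgroup (cen1 d.x)} {β : F4 → cen1 d.x} {γ₁ γ₂ : F4}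
    (l : H88.TE.Loc (dt g0) true (R.subgroupOf _) (fun c => ⟨r c, r_H g0 p c⟩) O β γ₁ γ₂)
    (βD : ∀ a, ∀ g ∈ d.D, Commute (β a : G) g) : γ₁ = γ₂ := by
  have gr := g0.toGR
  have h1 := congrArg (fun y : cen1 d.x => d.τ * y * d.τ⁻¹) (l.s₁.vw 1 1)
  have h2 := congrArg Subtype.val (l.s₂.vw 1 1)
  have e1 : d.τ * β 1 * d.τ⁻¹ = β 1 := by rw [← (βD 1 _ gr.τD).eq, mul_inv_cancel_right]
  have e2 : d.τ * r γ₁ * d.τ⁻¹ = r γ₁ := by rw [← (cKA (p.rK _) g0.τA).eq, mul_inv_cancel_right]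
  simp only [dt, Dt.swap, coe_mul, coe_inv, one_pow, mul_one, mul_zero, add_zero] at h1 h2
  let c := MulAut.conj d.τ
  change c _ = c _ at h1
  have e3 : ∀ a b e, c (d.u a b e) = d.u b a (e + a * b) := g0.τu
  simp only [map_mul, map_inv, show c (β 1) = β 1 from e1, show c (r γ₁) = r γ₁ from e2, e3,
    show c d.n = d.m from rfl, mul_zero, zero_mul, add_zero] at h1
  rw [h1, mul_assoc, mul_assoc _ (r γ₂), mul_right_inj] at h2
  refine p.r_ext (mul_inv_eq_one.1 (mem_bot.1 (g1.zk.le ⟨show _ ∈ d.A from ?_, d.K.mul_mem (p.rK _) (d.K.inv_mem (p.rK _))⟩)))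
  rw [eq_mul_inv_of_mul_eq h2, mul_assoc (r γ₂), (cKA (p.rK γ₂) (mul_mem (g0.uA ..) (inv_mem (g0.uA ..)))).eq,
    mul_inv_cancel_right]
  exact mul_mem (g0.uA ..) (inv_mem (g0.uA ..))

omit g1 p in
theorem c1_of {O Q : Subgroup (cen1 d.x)} {β ρ : F4 → cen1 d.x} {R' : Subgroup (cen1 d.x)} {j : cen1 d.x}
    (q : SQ ⟨dt g0, R', O, ρ, β⟩ j Q) :
    C1 ⟨d, R, O.map (cen1 d.x).subtype ⊓ d.K, r, fun a => β a⟩ (Q.map (cen1 d.x).subtype) := by
  have nr : ∀ {g : cen1 d.x} {X : Subgroup (cen1 d.x)}, g ∈ nor X → (g : G) ∈ nor (X.map (cen1 d.x).subtype) :=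
    fun hg => map_le_normalizer_map _ le_rfl ⟨_, hg, rfl⟩
  have ZH : d.Z ≤ cen1 d.x := fun g hg => by
    obtain ⟨e, rfl⟩ := g0.toGR.mem_Z.1 hg
    exact mc1.2 (g0.xu ..).symm
  have eZ : (dt g0).Z.map (cen1 d.x).subtype = d.Z := by rw [dt_Z, map_subgroupOf_eq_of_le ZH]
  refine ⟨q.ex.1.1.map _, (card_map_of_injective (cen1 d.x).subtype_injective).trans q.card, ?_, ?_,
    fun a e h => ⟨_, q.v0 a e h, rfl⟩, ?_, ?_, fun g hg => nr (g := ⟨g, hg.2⟩) (q.nZ ⟨?_, ?_⟩), ?_⟩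
  · rintro _ ⟨a, ha, rfl⟩
    exact (q.sq a ha).imp (congrArg Subtype.val) (congrArg Subtype.val)
  · rintro _ ⟨a, ha, rfl⟩ _ ⟨b, hb, rfl⟩
    exact (q.cm a ha b hb).imp (congrArg Subtype.val) (congrArg Subtype.val)
  · rintro _ ⟨a, ha, rfl⟩
    refine ⟨⟨?_, eZ ▸ nr (q.le ha).1.2⟩, a.2⟩
    rintro _ ⟨⟨o, ho, rfl⟩, -⟩
    exact congrArg Subtype.val ((q.le ha).1.1 o ho)
  · by_contra n
    obtain ⟨a, ha, e⟩ := q.mv
    have h : Q ≤ cen1 ((dt g0).z F4.w) := q.gen.trans ((closure_le _).2 fun b hb => mc1.2 (by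
      rcases q.cm b hb.1 _ (q.v0 0 F4.w (.inl rfl)) with h | h
      · exact mul_inv_eq_iff_eq_mul.1 h
      · exact absurd ⟨_, ⟨b, hb.1, rfl⟩, congrArg Subtype.val hb.2,
          (congrArg Subtype.val h).trans (g0.toGR.zz ..)⟩ n))
    rw [(mc1.1 (h ha)).eq, mul_inv_cancel_right] at e
    exact absurd (g0.toGR.z_inj (congrArg Subtype.val e)) (by decide)
  · exact centralizer_le_normalizer _ fun a ha => Subtype.ext (hg.1 a (eZ ▸ ⟨a, ha, rfl⟩))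
  · exact mc1.2 (Subtype.ext (hg.1 _ (g0.toGR.zZ 1)).symm)
  · rintro _ ⟨a, ha, rfl⟩ h1 h2 h3
    obtain ⟨g, hg, e⟩ := q.tr a ha (Subtype.ext h1) (fun e => h2 (congrArg Subtype.val e))
      fun e => h3 (congrArg Subtype.val e)
    exact ⟨g, nr hg, congrArg Subtype.val e⟩

omit g1 p

theorem jobGC : JobGC.{u} := fun G _ _ d R r g0 g1 p => by
  have f := H44.Te.jobF2 _ _ (fr0 g0 g1 p)
  have pr := pr0 g0 g1 p f
  obtain ⟨O, β, γ₁, γ₂, l⟩ := H88.TE.exists_loc f pr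
  have βD : ∀ a, ∀ g ∈ d.D, Commute (β a : G) g := fun a g hg => (mc1.1 (b_D g0 g1 p (a := a)
    (congrArg Subtype.val (by
      have h0 : β 0 = 1 := by simpa using l.add 0 0
      rw [← l.add, F4.add_self, h0] : β a * β a = 1))
    (fun _ _ _ => congrArg Subtype.val (l.βu ..).eq) (mc1.1 (β a).2)
    (fun c => congrArg Subtype.val (l.βr a c (.inl rfl))) hg)).symm
  obtain rfl := gam g0 g1 p l βD
  obtain rfl : γ₁ = 1 := (by decide : ∀ a : F4, a * a = 1 → a = 1) _ (H48.TeS1.jobS1 _ _ _ _ O β _ _ f pr l)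
  have h : Sz ⟨dt g0, _, O, _, β⟩ := ⟨f, pr, l⟩
  have a := H92.TES.jobS2 _ _ h
  have b := H95.TE.jobS3 _ _ h a
  have c := H21.TE.jobS4 _ _ h a b
  obtain ⟨x, j, k⟩ := H21.TE.jobS5 _ _ h a b c
  obtain ⟨Q, q⟩ := H52.TeS6.jobS6 h _ _ x j h a b c k
  refine ⟨_, _, _, ⟨g0, g1, p, ?_, ?_, fun k hk c n e => ?_, fun a b => congrArg Subtype.val (l.add a b), βD,
    ?_, fun a c => congrArg Subtype.val (l.βr a c (.inl rfl)), fun a => congrArg Subtype.val (l.hβ a),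
    fun y a => ?_, fun y a => ?_⟩, c1_of g0 q⟩
  · rintro _ ⟨⟨o, ho, rfl⟩, hk⟩
    exact ⟨hk, fun t ht => congrArg Subtype.val
      ((l.od.le ho).2 ⟨t, C₀_le g0 (K_le₀ (p.syl.le ht))⟩ ht)⟩
  · exact l.od.odd.of_dvd_nat ((card_dvd_of_le inf_le_left).trans
      (card_map_of_injective (cen1 d.x).subtype_injective).dvd)
  · obtain ⟨o, ho, c', e'⟩ := H92.TES.dec h (k := ⟨k, C₀_le g0 (K_le₀ hk)⟩) n (dt_K g0 ▸ K_le₀ hk)
      (Subtype.ext e.eq)
    have e1 : k = o * r c' := congrArg Subtype.val e'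
    exact ⟨o, ⟨⟨o, ho, rfl⟩, (mul_mem_cancel_right (p.rK c')).1 (e1 ▸ hk)⟩, c', e1⟩
  · rintro a _ ⟨⟨o, ho, rfl⟩, -⟩
    exact congrArg Subtype.val (l.βO a o ho).eq
  · have := l.s₁.wβ y a
    simp only [one_mul] at this
    exact congrArg Subtype.val this
  · have := l.s₁.vw y a
    simp only [one_mul] at this
    exact congrArg Subtype.val this

end H88.CG
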