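/- CG (blueprints/CG.md): the assembly of the jobs. -/
import Cfsg.Agent.H88.CGKit
import Cfsg.Agent.H88.TELoc
import Cfsg.Agent.H88.ASMain
import Cfsg.Agent.H95.G24

set_option autoImplicit false

namespace H88.CG

open Subgroup Cfsg H98 H14 H1.Gold H88.AS Equiv
open H6 (F4)

universe u

structure Jobs : Prop where
  fr : JobFR.{u}
  fb : JobFB.{u}
  fa : JobFA.{u}
  g1 : JobG1.{u}
  gp : JobGP.{u}
  gc : JobGC.{u}
  af : AF
  ca : JobCA.{u}
  w : JobW.{u}
  sc : JobSC.{u}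
  cq : JobCQ.{u}
  cs : JobCS.{u}
  b0 : JobB0.{u}
  b4 : JobB4.{u}
  fin : JobEnd.{u}

variable {G : Type u} [Group G] [Finite G]

theorem local_of (j : Jobs.{u}) (hG : H99.Wr.AS G) (φ : Γ →* G) (hφ : Function.Injective φ)
    (hA : IsStandardSubgroup φ.range) (hn : ¬ φ.range.Normal) (hR : ¬ PRankLE 2 1 (cen φ.range)) :
    ∃ (s : SG G) (Q : Subgroup G), s.toGD = frm φ ∧ Cg s ∧ C1 s Q := by
  have r := j.fr G φ hφ
  have g0 : G0 (frm φ) := ⟨r, j.fb G φ hφ r, j.fa G φ hφ, hA⟩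
  have g1 := j.g1 G _ g0
  obtain ⟨t, ht, ot⟩ := exists_involution_mem (even_iff_two_dvd.1 hA.2.1.1)
  have hL : φ.range ≤ normalClosure (cen φ.range : Set G) := (std_le hG hA).trans (hG.le_of_nor
    (fun e => ne_one_of_two ot (mem_bot.1 (e ▸ subset_normalClosure ht)))
    (le_top.trans (normalizer_eq_top _).ge))
  obtain ⟨R, ρ, p⟩ := j.gp G _ g0 g1 hR (H88.TE.ex_pair hA hn hL
    ⟨⟨(frm φ).z 1, hL (r.uA ..)⟩, ⟨(frm φ).z F4.w, hL (r.uA ..)⟩,
      fun e => absurd (r.hm.inj (congrArg Subtype.val e)).2.2 (by decide),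
      fun e => absurd (r.hm.inj (congrArg Subtype.val e)).2.2 (by decide),
      fun e => absurd (r.z_inj (congrArg Subtype.val e)) (by decide),
      Subtype.ext (r.z_sq _), Subtype.ext (r.z_sq _), Subtype.ext (r.zu ..).eq⟩)
  obtain ⟨O, β, Q, h, c⟩ := j.gc G _ R ρ g0 g1 p
  exact ⟨_, Q, rfl, h, c⟩

theorem co1_of (j : Jobs.{u}) [IsSimpleGroup G] {s : SG G} {Q₁ : Subgroup G} (h : Cg s)
    (c1 : C1 s Q₁) : Spor.IsoCo1 G := by
  obtain ⟨θ, c⟩ := j.ca G s j.af h
  have n := j.sc G s θ j.af h c (j.w G s θ j.af h c)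
  obtain ⟨Q, q⟩ := j.cq G s θ Q₁ j.af h c n c1
  obtain ⟨S, t⟩ := j.cs G s θ Q j.af h c n q
  exact j.fin G s θ Q S j.af h c n q t (j.b4 G s θ Q S j.af h c n q t (j.b0 G s θ Q j.af h c n q t.n0))

theorem as_of (hO : oddCore G = ⊥) {A : Subgroup G} (hA : IsStandardSubgroup A) (hN : ¬ A.Normal)
    (hR : ¬ PRankLE 2 1 (cen A)) : H99.Wr.AS G := by
  obtain ⟨t, h, ht⟩ := exists_involution_mem (even_iff_two_dvd.1 hA.2.1.1)
  rcases Cfsg.Agent.S1347.result A hA hO t ht h with h1 | ⟨-, -, -, -, -, -, -, h1⟩ | h1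
  · exact absurd h1 hN
  · refine absurd (prankLE_iff.2 fun B hB _ => (card_le_of_le hB).trans ?_) hR
    rw [cen, h1, Nat.card_zpowers, ht]
    rfl
  · refine ((H11.Wr.std_red hO hA).resolve_left hN).resolve_left fun ⟨f⟩ => ?_
    have := h1.2.1
    have h2 : normalClosure (A : Set G) = layer G := by
      refine le_antisymm (normalClosure_le_normal h1.1) ?_
      rcases (normalClosure_normal.subgroupOf (layer G) :
        ((normalClosure (A : Set G)).subgroupOf _).Normal).eq_bot_or_eq_top with h3 | h3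
      · refine absurd ?_ (quasi_sub_commutator_ne_bot hA.1)
        rw [subgroupOf_eq_bot, disjoint_iff] at h3
        rw [le_bot_iff.1 (h3 ▸ le_inf le_normalClosure h1.1 : A ≤ ⊥), commutator_bot_left]
      · exact subgroupOf_eq_top.1 h3
    have h3 := (f.symm.trans (MulEquiv.subgroupCongr h2)).isSimpleGroup
    have h4 : (⊥ : Subgroup A) ≠ ⊤ := fun h5 => quasi_sub_commutator_ne_bot hA.1 (by
      rw [show A = ⊥ from by
        simpa [← MonoidHom.range_eq_map] using congrArg (map A.subtype) h5.symm, commutator_bot_left])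
    rcases (inferInstance : (MonoidHom.fst A A).ker.Normal).eq_bot_or_eq_top with h5 | h5
    · exact h4 (eq_top_iff.2 fun a _ => congrArg Prod.snd
        (mem_bot.1 (h5 ▸ rfl : ((1 : A), a) ∈ (⊥ : Subgroup (A × A)))))
    · exact h4 (eq_top_iff.2 fun a _ => (h5 ▸ mem_top (a, (1 : A)) : _ ∈ (MonoidHom.fst A A).ker))

omit [Finite G] in
/-- `R` lies in every normal subgroup that contains `A` -/
theorem Cg.R_le {s : SG G} (h : Cg s) {X : Subgroup G} [n : X.Normal] (hA : s.A ≤ X) : s.R ≤ X := by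
  have hβ : ∀ a, s.β a ∈ X := fun a => by
    have := mul_mem (hA h.g0.hA) (n.conj_mem _ (inv_mem (hA h.g0.hA)) (s.β (F4.w * a)))
    rw [inv_eq_of_mul_eq_one_right (h.β_sq _), ← mul_assoc, ← mul_assoc, h.hβ, ← h.add] at this
    rwa [(by decide : ∀ a : F4, F4.w * (F4.w * a) + F4.w * a = a)] at this
  have hw : s.w₁ 1 ∈ X := n.conj_mem _ (hβ 1) _
  intro g hg
  obtain ⟨c, rfl⟩ := (h.gp.mem g).1 hg
  have := h.vw 1 c ▸ n.conj_mem _ hw (s.u 0 c 0)
  rw [mul_mem_cancel_right (hA (h.g0.uA ..)), mul_mem_cancel_left (mul_mem hw (hβ _))] at this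
  simpa using this

theorem s1767_of (j : Jobs.{u}) (hO : oddCore G = ⊥) (A : Subgroup G) (hA : IsStandardSubgroup A)
    {F : Type*} [Field F] [Fintype F] (hF : Fintype.card F = 4)
    (hAX : Nonempty (A ≃* Lie.chevG2.group F)) (hR : ¬ PRankLE 2 1 (cen A)) :
    A.Normal ∨ Spor.IsoCo1 (normalClosure (A : Set G)) := by
  by_cases hN : A.Normal
  · exact .inl hN
  right
  have hG := as_of hO hA hN hR
  obtain ⟨e⟩ := hAX
  obtain ⟨e1⟩ := H95.G24.equiv_K F hF
  obtain ⟨e2⟩ := H95.G24.equiv_F4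
  obtain ⟨φ, hφ, rfl⟩ : ∃ φ : Γ →* G, Function.Injective φ ∧ φ.range = A :=
    ⟨A.subtype.comp ((e2.symm.trans e1).trans e.symm).toMonoidHom,
      A.subtype_injective.comp (MulEquiv.injective _), by
        rw [MonoidHom.range_comp, MonoidHom.range_eq_top.2 (MulEquiv.surjective _),
          ← MonoidHom.range_eq_map, range_subtype]⟩
  obtain ⟨s, -, e, h, -⟩ := local_of j hG φ hφ hA hN hR
  have eA : s.A = φ.range := congrArg GD.A e
  rw [closure_eq hG hA]
  set X := generalizedFittingSubgroup G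
  have hAX : φ.range ≤ X := std_le hG hA
  have hRX := h.R_le (eA ▸ hAX)
  have := hG.1
  let ψ : Γ →* X := φ.codRestrict X fun a => hAX ⟨a, rfl⟩
  have eψ : ψ.range = φ.range.subgroupOf X := Subgroup.ext fun x =>
    ⟨fun ⟨a, e⟩ => ⟨a, congrArg Subtype.val e⟩, fun ⟨a, e⟩ => ⟨a, Subtype.ext e⟩⟩
  have lR : s.R.subgroupOf X ≤ cen (φ.range.subgroupOf X) := by
    rw [cen, centralizer_subgroupOf hAX]; exact fun _ k => eA ▸ h.gp.syl.le k
  have eR : H88.TE.El (s.R.subgroupOf X) := fun r hr => Subtype.ext (by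
    obtain ⟨c, k⟩ := (h.gp.mem _).1 hr
    exact (k ▸ h.r_sq c : X.subtype r * X.subtype r = 1))
  obtain ⟨s', Q, -, h', c'⟩ := local_of j (as_sub hG le_rfl).2 ψ
    (fun a b e => hφ (congrArg Subtype.val e))
    (eψ ▸ std_sub hA hAX (eA ▸ h.r_K 1) (hRX (h.r_R 1)) (h.r_ord one_ne_zero))
    (fun k => hN (by
      have h1 : X ≤ φ.range := hG.le_of_nor (fun e => quasi_sub_commutator_ne_bot hA.1 (by
        rw [e, commutator_bot_left])) ((normal_subgroupOf_iff_le_normalizer hAX).1 (eψ ▸ k))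
      rw [le_antisymm hAX h1]; infer_instance))
    (fun k => by
      have := prankLE_iff.1 (eψ ▸ k) _ lR (ea_iff.2 ⟨fun a ha b hb => eR.comm ha hb,
        fun a ha => (pow_two a).trans (eR a ha)⟩)
      rw [card_subgroupOf_of_le hRX, h.card_R] at this
      omega)
  exact co1_of j h' c'

end H88.CG
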