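import Cfsg.Agent.H20.DGSpec

/-! Tower DG (S3579), slot B1: the orbit of length `p ^ 2` of a Sylow subgroup. -/

set_option autoImplicit false

namespace H88.DGB1

open Subgroup MulAction Cfsg H98 H20.DG

universe u v

theorem exA {G : Type u} [Group G] [Finite G] {p : ℕ} (hp : p.Prime) {P U : Subgroup G}
    (hP : IsPGroup p P) (hU : U.relIndex P = p ^ 2) :
    ∃ A : Subgroup G, A ≤ P ∧ A.relIndex P = p ∧ P ≤ normalizer (A : Set G) ∧ P ⊓ U ≤ A := by
  have := Fact.mk hp
  obtain ⟨n, hn⟩ := (IsPGroup.iff_card.1 (hP.to_subgroup (U.subgroupOf P)))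
  have hc : Nat.card P = p ^ (n + 2) := by
    rw [← (U.subgroupOf P).card_mul_index, hn, pow_add]
    congr 1
  obtain ⟨K, hK, hUK⟩ := Sylow.exists_subgroup_card_pow_succ (G := P) (p := p) (n := n)
    (by rw [hc]; exact pow_dvd_pow _ (by omega)) hn
  have hi : K.index = p := by
    have h := K.card_mul_index
    rw [hK, hc, pow_succ p (n + 1)] at h
    exact Nat.eq_of_mul_eq_mul_left (pow_pos hp.pos _) h
  have hs : (K.map P.subtype).subgroupOf P = K :=
    comap_map_eq_self_of_injective P.subtype_injective K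
  have hle : K.map P.subtype ≤ P := map_subtype_le K
  refine ⟨K.map P.subtype, hle, by rw [relIndex, hs, hi], ?_, ?_⟩
  · rw [← normal_subgroupOf_iff_le_normalizer hle, hs]
    apply normal_of_index_eq_minFac_card
    rw [hi, hc, hp.pow_minFac (by omega)]
  · rintro x ⟨h1, h2⟩
    exact ⟨⟨x, h1⟩, hUK h2, rfl⟩

theorem jobB1 : JobB1.{u, v} := by
  intro hEL G Ω _ _ _ _ p q P h hl hP ⟨ω, hω⟩
  have hp := h.pp
  have := Fact.mk hp
  have h5 := h.five hl
  have hq := h.qq.pos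
  have hnd : ¬ p ∣ P.index := by
    have := hP.not_dvd_relIndex
    rwa [relIndex_top_right] at this
  have hpow : ∀ a : Ω, ∃ k, (stabilizer G a).relIndex P = p ^ (k + 1) := by
    intro a
    obtain ⟨k, hk⟩ := hP.isPGroup.index ((stabilizer G a).subgroupOf P)
    rcases k with _ | k
    · exfalso
      have h1 : P ≤ stabilizer G a := relIndex_eq_one.1 (by rw [relIndex, hk, pow_zero])
      apply hnd
      refine Dvd.dvd.trans ?_ (index_dvd_of_le h1)
      rw [h.index]
      exact ⟨2 * q, by ring⟩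
    · exact ⟨k, hk⟩
  have hc : ∀ s : Set Ω, s.ncard + sᶜ.ncard = 2 * p * q := fun s => by
    rw [Set.ncard_add_ncard_compl, h.card]
  have h2 : (stabilizer G ω).relIndex P = p ^ 2 := by
    obtain ⟨k, hk⟩ := hpow ω
    have h1 := hc (Ob P ω)
    rw [ncard_Ob, hk] at h1
    rw [hk] at hω ⊢
    have a1 : 2 ≤ k + 1 := (Nat.pow_le_pow_iff_right hp.one_lt).1 hω
    have a2 : p ^ (k + 1) < p ^ 3 := by
      have : 2 * p * q < p ^ 3 := by nlinarith [Nat.mul_le_mul h5 hl.le]
      omega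
    have a3 := (Nat.pow_lt_pow_iff_right hp.one_lt).1 a2
    congr 1
    omega
  have hO : (Ob P ω).ncard = p ^ 2 := by rw [ncard_Ob, h2]
  have hcO := hc (Ob P ω)
  rw [hO] at hcO
  have hin : ∀ a ∈ Ob P ω, (stabilizer G a).relIndex P = p ^ 2 := fun a ha => by
    rw [← ncard_Ob, ← (isOr_Ob P ω).eq_Ob ha, hO]
  have hout : ∀ a, a ∉ Ob P ω → (stabilizer G a).relIndex P = p := by
    intro a ha
    obtain ⟨k, hk⟩ := hpow a
    have hs : Ob P a ⊆ (Ob P ω)ᶜ := by
      rintro _ ⟨g, hg, rfl⟩ ⟨x, hx, e⟩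
      exact ha ⟨g⁻¹ * x, mul_mem (inv_mem hg) hx, by rw [mul_smul, e, inv_smul_smul]⟩
    have h1 := Set.ncard_le_ncard hs
    rw [ncard_Ob, hk] at h1
    have a2 : p ^ (k + 1) < p ^ 2 := by
      have : 2 * p * q < 2 * p ^ 2 := by nlinarith
      omega
    have a3 := (Nat.pow_lt_pow_iff_right hp.one_lt).1 a2
    have : k = 0 := by omega
    rw [hk, this, zero_add, pow_one]
  obtain ⟨A, hAP, hi, hn, hU⟩ := exA hp hP.isPGroup h2
  have hinP : ∀ a ∈ Ob P ω, P ⊓ stabilizer G a ≤ A := by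
    rintro _ ⟨g, hg, rfl⟩ x ⟨hx, hx2⟩
    have h1 : g⁻¹ * x * g ∈ A := hU ⟨P.mul_mem (P.mul_mem (P.inv_mem hg) hx) hg, by
      have hx3 : x • g • ω = g • ω := hx2
      show (g⁻¹ * x * g) • ω = ω
      rw [mul_smul, mul_smul, hx3, inv_smul_smul]⟩
    have h3 := (mem_normalizer_iff.1 (hn hg) _).1 h1
    simpa [mul_assoc] using h3
  have hinO : ∀ a ∈ Ob P ω, (stabilizer G a).relIndex A = p := by
    intro a ha
    have h1 := relIndex_mul_relIndex (P ⊓ stabilizer G a) A P (hinP a ha) hAP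
    have h3 : (P ⊓ stabilizer G a).relIndex A = (stabilizer G a).relIndex A := by
      rw [← inf_relIndex_left A, ← inf_assoc, inf_eq_left.2 hAP, inf_relIndex_left]
    rw [h3, hi, inf_relIndex_left, hin a ha, sq] at h1
    exact Nat.eq_of_mul_eq_mul_right hp.pos h1
  refine ⟨A, Ob P ω, hP, hAP, hi, hn, ?_, hO, ?_, isOr_Ob P ω, hinP, hinO, hout, ?_⟩
  · refine hEL G Ω p A hp h.faith (hP.isPGroup.to_le hAP) fun a => ?_
    by_cases ha : a ∈ Ob P ω
    · exact (hinO a ha).le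
    · rw [← hout a ha]
      exact relIndex_le_of_le_right hAP (by rw [hout a ha]; exact hp.ne_zero)
  · rw [← Set.ncard_pos]
    rcases Nat.eq_zero_or_pos (Ob P ω)ᶜ.ncard with e | e
    · exfalso
      rw [e] at hcO
      have e2 : p = 2 * q := Nat.eq_of_mul_eq_mul_left hp.pos (by nlinarith)
      have := (Nat.prime_dvd_prime_iff_eq Nat.prime_two hp).1 ⟨q, e2⟩
      omega
    · exact e
  · intro a ha
    refine isSyl_of_not_dvd_relIndex inf_le_right (hP.isPGroup.to_le inf_le_left) fun hd => hnd ?_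
    have e1 := relIndex_mul_index (inf_le_right : P ⊓ stabilizer G a ≤ _)
    have e2 := relIndex_mul_index (inf_le_left : P ⊓ stabilizer G a ≤ _)
    rw [inf_relIndex_left, hout a ha, ← e1, h.index] at e2
    obtain ⟨c, hc2⟩ := hd
    rw [hc2] at e2
    exact ⟨c * 2 * q, Nat.eq_of_mul_eq_mul_left hp.pos (by rw [e2]; ring)⟩

end H88.DGB1
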