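import Cfsg.Agent.H96.U2ISpec

/-! S3275, chapter U2I, job NV: no element of order three of `M` normalises `Q ∩ R`. -/

set_option autoImplicit false

namespace H88.DPUNV

open Subgroup Cfsg H98 H48.DP H96.U2I
open scoped commutatorElement

universe u

variable {G : Type u} [Group G] [Finite G]

/-- If a Sylow 2-subgroup centralises `x` modulo `K` and a 2-element inverts `x` modulo `K`,
then `x * x ∈ K`. -/
theorem key {T K : Subgroup G} {x s : G} {k : ℕ} (hT : IsSyl 2 T ⊤) (TK : T ≤ No K)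
    (hx : x ∈ No K) (hc : ∀ t ∈ T, ⁅t, x⁆ ∈ K) (hs : s ∈ No K) (s2 : s ^ 2 ^ k = 1)
    (hi : s * x * s⁻¹ * x ∈ K) : x * x ∈ K := by
  have : Fact (Nat.Prime 2) := ⟨Nat.prime_two⟩
  have xL : x ∈ K ⊔ zpowers x := mem_sup_right (mem_zpowers x)
  have nL : ∀ g ∈ No K, g * x * g⁻¹ ∈ K ⊔ zpowers x → g ∈ No (K ⊔ zpowers x) := by
    intro g hg h
    apply mem_normalizer_of_cj_le
    rw [cj_sup, cj_eq_self hg]
    refine sup_le le_sup_left ?_
    rw [cj, MonoidHom.map_zpowers, zpowers_le]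
    exact h
  have h1 : K ⊔ zpowers x ≤ stab T K := by
    refine sup_le (fun a ha => ⟨le_normalizer ha, fun t ht => ?_⟩) (zpowers_le.2 ⟨hx, hc⟩)
    rw [commutatorElement_def]
    exact mul_mem (conj_mem_of_mem_normalizer (TK ht) ha) (inv_mem ha)
  have h2 : T ≤ stab (K ⊔ zpowers x) K :=
    le_stab_iff.2 ⟨TK, by rw [commutator_comm]; exact (le_stab_iff.1 h1).2⟩
  have TN : T ≤ No (K ⊔ zpowers x) ⊓ No K := fun t ht => ⟨nL t (TK ht) (by
    have := mul_mem (mem_sup_left (hc t ht)) xL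
    rwa [commutatorElement_def, inv_mul_cancel_right] at this), TK ht⟩
  have sN : s ∈ No (K ⊔ zpowers x) ⊓ No K := ⟨nL s hs (by
    have := mul_mem (mem_sup_left hi) (inv_mem xL)
    rwa [mul_inv_cancel_right] at this), hs⟩
  obtain ⟨n, hn, e⟩ := (hT.of_le TN le_top).exists_cj_le (isPGroup_zpowers s2) (zpowers_le.2 sN)
  have h3 := conj_mem_of_mem_normalizer' (le_normalizer_stab inf_le_left inf_le_right hn)
    (h2 (e (conj_mem_cj (mem_zpowers s))))
  rw [show n⁻¹ * (n * s * n⁻¹) * n = s by group] at h3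
  have h4 := mul_mem (h3.2 x xL) hi
  rwa [commutatorElement_def, show x * s * x⁻¹ * s⁻¹ * (s * x * s⁻¹ * x) = x * x by group] at h4

/-- Job NV of the chapter U2I. -/
theorem jobNV : JobNV.{u} := by
  intro hh G _ _ M Q T R V y c v e he e3 hn
  obtain ⟨h, hH, hM⟩ := hh G M (No V) e y c.ti he (v.MV e he hn) e3 v.yV c.y3
  obtain ⟨q, hq, qR⟩ := c.nQ
  have qT := c.QT hq
  have NK : No V ≤ No (Ce V) := normalizer_le_normalizer_centralizer V
  have xH : h * y * h⁻¹ ∈ No V := mul_mem (mul_mem hH v.yV) (inv_mem hH)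
  have hi : h * q * h⁻¹ * (h * y * h⁻¹) * (h * q * h⁻¹)⁻¹ * (h * y * h⁻¹) ∈ Ce V := by
    have := conj_mem_of_mem_normalizer (NK hH) (v.RV (c.inv q qT qR))
    convert this using 1
    group
  obtain ⟨k, hk⟩ := c.syl.isPGroup ⟨q, qT⟩
  have q2 : (h * q * h⁻¹) ^ 2 ^ k = 1 := by
    have : q ^ 2 ^ k = 1 := by simpa using congrArg Subtype.val hk
    rw [conj_pow, this, mul_one, mul_inv_cancel]
  have xx : h * y * h⁻¹ * (h * y * h⁻¹) ∉ Ce V := fun k => v.yy (by
    have := conj_mem_of_mem_normalizer' (NK hH) k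
    rwa [show h⁻¹ * (h * y * h⁻¹ * (h * y * h⁻¹)) * h = y * y by group] at this)
  refine xx (key c.syl (v.TV.trans NK) (NK xH) ?_
    (NK (mul_mem (mul_mem hH (v.TV qT)) (inv_mem hH))) q2 hi)
  generalize h * y * h⁻¹ = x at hM xH
  have cK : ∀ r ∈ Ce V, ⁅r, x⁆ ∈ Ce V := fun r hr => by
    have := mul_mem hr (conj_mem_of_mem_normalizer (NK xH) (inv_mem hr))
    rwa [commutatorElement_def, show r * x * r⁻¹ * x⁻¹ = r * (x * r⁻¹ * x⁻¹) by group]
  have h1 : x * q⁻¹ * x⁻¹ ∈ Q := conj_mem_of_mem_normalizer (c.MQ hM) (inv_mem hq)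
  have h2 : x * q⁻¹ * x⁻¹ ∉ R := fun k => qR (v.QV q hq (by
    have := conj_mem_of_mem_normalizer' (NK xH) (v.RV k)
    rwa [show x⁻¹ * (x * q⁻¹ * x⁻¹) * x = q⁻¹ by group, inv_mem_iff] at this))
  have h3 : ⁅q, x⁆ ∈ Ce V := by
    have := v.RV (c.mul q qT _ (c.QT h1) qR h2)
    rwa [commutatorElement_def, show q * x * q⁻¹ * x⁻¹ = q * (x * q⁻¹ * x⁻¹) by group]
  intro t ht
  by_cases tR : t ∈ R
  · exact cK t (v.RV tR)
  have h4 := v.RV (c.mul t ht q⁻¹ (inv_mem qT) tR (fun k => qR (inv_mem_iff.1 k)))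
  have h5 := mul_mem (conj_mem_of_mem_normalizer (le_normalizer h4) h3) (cK _ h4)
  convert h5 using 1
  simp only [commutatorElement_def]
  group

end H88.DPUNV
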