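import Cfsg.Agent.H96.U2CenSpec

/-! S3275, chapter U2F, central case, job TRg: offenders contain transvections. -/

set_option autoImplicit false

namespace H88.DPWTRg

open Subgroup Cfsg H98 H96.Cen
open scoped commutatorElement

universe u

/-- Job TRg of the central case. -/
theorem jobTRg : JobTRg.{u} := by
  intro tr trl G _ _ M M0 Q Q0 F U A B z v hA el hB cm ix
  obtain ⟨W, _, _, s, nM, two, -, kq, -, -, md⟩ := trl G M M0 Q Q0 F U z v
  obtain ⟨hm, hc⟩ := md A hA el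
  have nA : A ≤ nn U (zpowers z) := hA.trans nM
  have i1 : (s.im B).index ≤ B.relIndex U := by
    rw [s.index_eq]
    exact relIndex_le_of_le_left (fun b hb => s.mem_pre.2 ⟨hB hb, s.ψ_mem_im (hB hb) hb⟩)
      index_ne_zero_of_finite
  obtain ⟨h1, h2⟩ := tr W (s.bar F) (s.bar A) (s.im B) hm (fun a ha p hp => by
    obtain ⟨x, hx, rfl⟩ := s.exists_α ha
    obtain ⟨b, hb, hb', rfl⟩ := hp
    rw [s.α_ψ (nA hx) hb, (cm x hx b hb').eq, mul_inv_cancel_right]) (hc ▸ i1.trans ix)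
  refine ⟨hc ▸ h1.trans i1, fun K hK hn => ?_⟩
  obtain ⟨a', ha', hk, c, c0, ⟨p, hp⟩, hall⟩ := h2 (s.bar (A ⊓ K)) fun k => hn fun a ha => by
    obtain ⟨x, hx, e⟩ := s.exists_α (k (s.α_mem nA ha))
    obtain ⟨x1, x2⟩ := mem_inf.1 hx
    have m : x⁻¹ * a ∈ A := mul_mem (inv_mem x1) ha
    have : s.α (x⁻¹ * a) = 1 := by
      rw [s.α_mul (inv_mem (nA x1)) (nA ha), s.α_inv (nA x1), e, inv_mul_cancel]
    have := mul_mem x2 (hK (mem_inf.2 ⟨m, (kq _ (hA m) (el _ m)).1 this⟩))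
    rwa [mul_inv_cancel_left] at this
  obtain ⟨a, ha, rfl⟩ := s.exists_α ha'
  obtain ⟨b, hb, rfl⟩ := s.surj p
  have key : ∀ x ∈ U, s.α a • s.ψ x = s.ψ x + c → s.ψ ⁅a, x⁆ = c := fun x hx e => by
    rw [s.α_ψ (nA ha) hx] at e
    rw [commutatorElement_def, s.mul _ (conj_mem_of_mem_normalizer (mem_inf.1 (nA ha)).1 hx) _
      (inv_mem hx), s.inv hx, e]
    abel
  have mU : ∀ x ∈ U, ⁅a, x⁆ ∈ U := fun x hx => Sec.cmem (nA ha) hx
  refine ⟨a, ha, fun k => hk (s.α_mem (inf_le_left.trans nA) (mem_inf.2 ⟨ha, k⟩)), ⁅a, b⁆,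
    fun k => c0 ((key b hb hp).symm.trans ((s.ker _ (mU b hb)).2 k)), ⟨b, hb, rfl⟩,
    fun x hx => ?_⟩
  rcases hall (s.ψ x) with e | e
  · exact Or.inl ((s.smul_eq_iff (nA ha) hx).1 e)
  · refine Or.inr ((s.ker _ (mul_mem (mU x hx) (mU b hb))).1 ?_)
    rw [s.mul _ (mU x hx) _ (mU b hb), key x hx e, key b hb hp, two]

end H88.DPWTRg
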