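import Cfsg.Agent.H63.KgvSpec

/-! Tower KGV, slot JVL: values of `gam` of an induced character. -/

set_option autoImplicit false

namespace H88.KgvVL

open Finset Cfsg H63.Kgv MulAction

universe u

theorem orb_prod {α : Type} [Fintype α] (σ : Equiv.Perm α) (A B : α → ℂ) (m : α → ℕ)
    (hA : ∀ u, A (σ u) = A u) (hB : ∀ u, B (σ u) = B u) (hm : ∀ u, m (σ u) = m u)
    (h : ∀ u, m u ≠ 0 → A u ^ Function.minimalPeriod (σ • ·) u = B u ^ Function.minimalPeriod (σ • ·) u) :
    ∏ u, A u ^ m u = ∏ u, B u ^ m u := by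
  classical
  have inv : ∀ {β : Type} (F : α → β), (∀ u, F (σ u) = F u) → ∀ u v,
      v ∈ orbit (Subgroup.zpowers σ) u → F v = F u := by
    intro β F hF u v ⟨⟨g, hg⟩, e⟩
    obtain ⟨k, rfl⟩ := (mem_powers_iff_mem_zpowers.2 hg)
    subst e
    show F ((σ ^ k) u) = F u
    induction k with
    | zero => rfl
    | succ k ih => rw [pow_succ', Equiv.Perm.mul_apply, hF, ih (Subgroup.pow_mem _ (Subgroup.mem_zpowers _) _)]
  let π : α → orbitRel.Quotient (Subgroup.zpowers σ) α := Quotient.mk''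
  rw [← prod_fiberwise univ π, ← prod_fiberwise univ π fun u => B u ^ m u]
  refine prod_congr rfl fun c _ => ?_
  induction c using Quotient.inductionOn' with | h u =>
  have mem : ∀ v, v ∈ univ.filter (fun v => π v = Quotient.mk'' u) ↔ v ∈ orbit (Subgroup.zpowers σ) u :=
    fun v => by
      rw [mem_filter, and_iff_right (mem_univ _)]
      exact Quotient.eq''.trans orbitRel_apply
  have hc : #(univ.filter (fun v => π v = Quotient.mk'' u)) = Function.minimalPeriod (σ • ·) u := by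
    rw [minimalPeriod_eq_card, ← Fintype.card_coe]
    exact Fintype.card_congr (Equiv.subtypeEquivRight mem)
  rw [prod_congr rfl (g := fun _ => A u ^ m u) fun v hv => by
      rw [inv A hA u v ((mem v).1 hv), inv m hm u v ((mem v).1 hv)],
    prod_congr rfl (f := fun v => B v ^ m v) (g := fun _ => B u ^ m u) fun v hv => by
      rw [inv B hB u v ((mem v).1 hv), inv m hm u v ((mem v).1 hv)],
    prod_const, prod_const, hc]
  by_cases h0 : m u = 0
  · simp [h0]
  · rw [← pow_mul, mul_comm, pow_mul, h u h0, ← pow_mul, mul_comm, pow_mul]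

theorem fib {K : Type} [Field K] [Fintype Kˣ] [DecidableEq Kˣ] {r : ℕ} (hr : r.Prime) {ω : Kˣ}
    (hω : orderOf ω = r) (w : Kˣ) :
    univ.filter (fun v : Kˣ => v ^ r = w ^ r) = (range r).image (fun i => w * ω ^ i) ∧
      Set.InjOn (fun i => w * ω ^ i) (range r) := by
  have hp : IsPrimitiveRoot ω r := hω ▸ IsPrimitiveRoot.orderOf ω
  have : NeZero r := ⟨hr.ne_zero⟩
  refine ⟨Finset.ext fun v => ?_, fun i hi j hj e => hp.pow_inj (mem_range.1 (mem_coe.1 hi))
    (mem_range.1 (mem_coe.1 hj)) (mul_left_cancel e)⟩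
  simp only [mem_filter, mem_univ, true_and, mem_image, mem_range]
  constructor
  · intro e
    obtain ⟨i, hi, e2⟩ := (IsPrimitiveRoot.coe_units_iff.2 hp).eq_pow_of_pow_eq_one
      (ξ := ((w⁻¹ * v : Kˣ) : K)) (by
        rw [← Units.val_pow_eq_pow_val, mul_pow, e, inv_pow, inv_mul_cancel, Units.val_one])
    refine ⟨i, hi, ?_⟩
    rw [← Units.val_pow_eq_pow_val, Units.val_inj] at e2
    rw [e2, mul_inv_cancel_left]
  · rintro ⟨i, -, rfl⟩
    rw [mul_pow, ← pow_mul, mul_comm i, pow_mul, hp.pow_eq_one, one_pow, mul_one]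

theorem job : JVL.{u} := by
  classical
  intro eg p _ M K _ _ θ a Hf hs E _ _ hE H _ r d x χ φ ω id hd hrd hω hχ
  have hr := id.pr
  have hp : p.Prime := Fact.out
  obtain ⟨uE, -⟩ := eg K θ E hs.inj
  obtain ⟨uH, xH⟩ := eg K θ H hs.inj
  have one : ∀ y : E, y ^ (Fintype.card K - 1) = 1 := fun y => by
    rw [hs.card]
    exact orderOf_dvd_iff_pow_eq_one.1 ((orderOf_dvd_natCard y).trans hE)
  have eφ : ∀ h : H, Eg θ φ h (em θ φ h) := fun h => xH φ h id.ch (Subtype.ext (one h))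
  obtain ⟨n, ρ, hρ⟩ := id.ch
  have cl : ∀ g h : H, φ (g * h * g⁻¹) = φ h := fun g h => by rw [← hρ]; exact ρ.char_conj h g
  have hn : φ 1 = n := by rw [← hρ, Representation.char_one]; simp
  refine ⟨n, hn, fun t ht => ⟨fun h => ?_, fun y h hy hh => ?_⟩⟩
  · have e : em θ χ (h : E) = fun u => ∑ j ∈ range r, em θ φ (MulAut.conjNormal (x ^ j) h) u := by
      refine uE χ h _ fun k => ?_
      rw [← Subgroup.coe_pow, id.on]
      simp only [map_pow (MulAut.conjNormal _), eφ _ k, Nat.cast_sum, sum_mul]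
      exact sum_comm
    simp only [gam, e, mul_sum, ← prod_pow_eq_pow_sum]
    exact prod_comm
  obtain ⟨m, hm⟩ : ∃ m, m = em θ φ h := ⟨_, rfl⟩
  have em1 : Eg θ φ h m := hm ▸ eφ h
  have cq : Nat.card (E ⧸ H) = r := id.idx
  have := Fact.mk hr
  have y1 : (y : E ⧸ H) ≠ 1 := fun e => hy ((QuotientGroup.eq_one_iff y).1 e)
  have oy : orderOf (y : E ⧸ H) = r := orderOf_eq_prime (by rw [← cq, pow_card_eq_one']) y1
  have on : ∀ k : ℕ, χ ((h : E) ^ k) = r * φ (h ^ k) := fun k => by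
    rw [← Subgroup.coe_pow, id.on, sum_congr rfl (g := fun _ => φ (h ^ k)) fun j _ => ?_, sum_const,
      card_range, nsmul_eq_mul]
    obtain ⟨i, hi⟩ := mem_zpowers_of_prime_card cq y1 (g' := ((x ^ j : E) : E ⧸ H))
    have h1 : x ^ j * (y ^ i)⁻¹ ∈ H := by
      rw [← QuotientGroup.eq_one_iff, QuotientGroup.mk_mul, QuotientGroup.mk_inv,
        QuotientGroup.mk_zpow, ← hi]
      exact mul_inv_cancel _
    rw [← cl ⟨_, h1⟩ (h ^ k)]
    congr 1
    apply Subtype.ext
    have c : Commute (y ^ i) ((h : E) ^ k) := by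
      rw [hh]
      exact ((Commute.refl y).zpow_left i).pow_right r |>.pow_right k
    simp only [MulAut.conjNormal_apply, Subgroup.coe_mul, Subgroup.coe_pow, Subgroup.coe_inv,
      mul_inv_rev, inv_inv]
    rw [mul_assoc (x ^ j * (y ^ i)⁻¹), ← mul_assoc ((h : E) ^ k), ← c.eq]
    group
  have cK : Nat.card Kˣ = p ^ M - 1 := by rw [Nat.card_units, Nat.card_eq_fintype_card, hs.card]
  have uo : ∀ u : Kˣ, u ^ (p ^ M - 1) = 1 := fun u => by rw [← cK, pow_card_eq_one']
  obtain ⟨N, hN⟩ : r ∣ p ^ M - 1 := hrd.trans (Nat.pow_sub_one_dvd_pow_sub_one p hd)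
  have pM : 1 < p ^ M := Nat.one_lt_pow hs.pos.ne' hp.one_lt
  have N0 : 0 < N := Nat.pos_of_ne_zero fun e => by rw [e, mul_zero] at hN; omega
  have s0 : ∑ u, m u = n := by
    have := em1 0
    simp only [pow_zero, mul_one, hn] at this
    exact_mod_cast this.symm
  have root : ∀ u, m u ≠ 0 → ∃ w : Kˣ, w ^ r = u := fun u hu => by
    have nm : ∀ v : Kˣ, ‖(θ v : ℂ) ^ N‖ = 1 := fun v => Complex.norm_eq_one_of_pow_eq_one
      (n := r) (by rw [← pow_mul, mul_comm, ← hN, ← Units.val_pow_eq_pow_val, ← map_pow, uo, map_one,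
        Units.val_one]) hr.ne_zero
    have h1 : h ^ N = 1 := Subtype.ext (by
      rw [Subgroup.coe_pow, hh, ← pow_mul, ← hN, ← hs.card, one, Subgroup.coe_one])
    have h2 := em1 N
    rw [h1, hn, ← s0] at h2
    have h3 : ∑ v : Kˣ, (m v : ℝ) * (1 - ((θ v : ℂ) ^ N).re) = 0 := by
      have := congrArg Complex.re h2
      simp only [Complex.natCast_re, Complex.re_sum, Complex.mul_re, Complex.natCast_im, zero_mul,
        sub_zero, Nat.cast_sum] at this
      simp only [mul_sub, mul_one, sum_sub_distrib, this, sub_self]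
    have h4 := (sum_eq_zero_iff_of_nonneg fun v _ => mul_nonneg (Nat.cast_nonneg _)
      (sub_nonneg.2 ((Complex.re_le_norm _).trans (nm v).le))).1 h3 u (mem_univ _)
    have h5 : ((θ u : ℂ) ^ N).re = 1 :=
      (sub_eq_zero.1 ((mul_eq_zero.1 h4).resolve_left (Nat.cast_ne_zero.2 hu))).symm
    have h6 : (θ u : ℂ) ^ N = 1 := by
      have h7 := Complex.sq_norm ((θ u : ℂ) ^ N)
      rw [nm, Complex.normSq_apply, h5] at h7
      exact Complex.ext h5 (mul_self_eq_zero.1 (by linarith))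
    have h7 : u ^ N = 1 := hs.inj (Units.ext (by rw [map_pow, map_one]; exact h6))
    obtain ⟨g, hg⟩ := IsCyclic.exists_monoid_generator (α := Kˣ)
    obtain ⟨k, rfl⟩ := hg u
    have og : orderOf g = r * N := by
      rw [← hN, ← cK]
      exact orderOf_eq_card_of_forall_mem_powers hg
    rw [← pow_mul, ← orderOf_dvd_iff_pow_eq_one, og] at h7
    obtain ⟨l, rfl⟩ := Nat.dvd_of_mul_dvd_mul_right N0 h7
    exact ⟨g ^ l, by rw [← pow_mul, mul_comm]⟩
  have e : em θ χ y = fun w => m (w ^ r) := by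
    refine uE χ y _ fun k => ?_
    by_cases hk : r ∣ k
    · obtain ⟨k, rfl⟩ := hk
      rw [pow_mul, ← hh, on, em1 k, mul_sum,
        ← sum_fiberwise univ (fun w : Kˣ => w ^ r) fun w => (m (w ^ r) : ℂ) * (θ w : ℂ) ^ (r * k)]
      refine sum_congr rfl fun u _ => ?_
      rw [sum_congr rfl (g := fun _ => (m u : ℂ) * (θ u : ℂ) ^ k) fun w hw => by
        rw [pow_mul, ← Units.val_pow_eq_pow_val, ← map_pow, (mem_filter.1 hw).2], sum_const, nsmul_eq_mul]
      by_cases h0 : m u = 0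
      · simp [h0]
      · obtain ⟨w, rfl⟩ := root u h0
        rw [(fib hr hω w).1, card_image_of_injOn (fib hr hω w).2, card_range]
    · rw [id.off _ fun e => hk (by
        rw [← oy, orderOf_dvd_iff_pow_eq_one, ← QuotientGroup.mk_pow]
        exact (QuotientGroup.eq_one_iff _).2 e)]
      have o1 : (θ ω : ℂ) ^ k ≠ 1 := fun e => hk (by
        rw [← hω, orderOf_dvd_iff_pow_eq_one]
        exact hs.inj (Units.ext (by rw [map_pow, map_one]; exact e)))
      have h1 := Equiv.sum_comp (Equiv.mulLeft ω) fun w : Kˣ => (m (w ^ r) : ℂ) * (θ w : ℂ) ^ k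
      have or : ω ^ r = 1 := hω ▸ pow_orderOf_eq_one ω
      simp only [Equiv.coe_mulLeft, mul_pow, or, one_mul, map_mul, Units.val_mul, mul_left_comm _ ((θ ω : ℂ) ^ k),
        ← mul_sum] at h1
      exact ((mul_left_eq_self₀.1 h1).resolve_left o1).symm
  have cop : (Nat.card Kˣ).Coprime (p ^ d) := by
    rw [cK]
    refine Nat.Coprime.pow_right _ (Nat.Coprime.symm ((Nat.Prime.coprime_iff_not_dvd hp).2 fun hd' => ?_))
    have := (Nat.dvd_sub_iff_right pM.le (dvd_pow_self p hs.pos.ne')).1 hd'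
    exact hp.one_lt.ne' (Nat.dvd_one.1 this)
  let σ : Equiv.Perm Kˣ := powCoprime cop
  have sa : ∀ u, σ u = u ^ p ^ d := fun _ => rfl
  have fr : ∀ s, s ≠ 0 → ∀ (j : ℕ) u, Hf s (u ^ p ^ j) = Hf s u := fun s h0 j u => by
    induction j with
    | zero => simp
    | succ j ih => rw [pow_succ, pow_mul, hs.frob s _ h0, ih]
  have d0 : d ≠ 0 := fun e => by rw [e, zero_dvd_iff] at hd; exact hs.pos.ne' hd
  have rt : (r : ZMod p) * t ≠ 0 := mul_ne_zero (fun e => by
    have h1 := (Nat.prime_dvd_prime_iff_eq hp hr).1 ((ZMod.natCast_eq_zero_iff _ _).1 e)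
    have := (Nat.dvd_sub_iff_right (Nat.one_le_pow _ _ hp.pos) (dvd_pow_self p d0)).1 (h1 ▸ hrd)
    exact hp.one_lt.ne' (Nat.dvd_one.1 this)) ht
  have mi : ∀ u, m (σ u) = m u := fun u => by
    have h1 : em θ φ h = fun v => m (σ.symm v) := uH φ h _ fun k => by
      rw [← Equiv.sum_comp σ]
      simp only [Equiv.symm_apply_apply]
      simp only [sa, map_pow, Units.val_pow_eq_pow_val, ← pow_mul]
      rw [← em1]
      apply mul_left_cancel₀ (Nat.cast_ne_zero.2 hr.ne_zero : (r : ℂ) ≠ 0)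
      rw [← on, ← on, mul_comm (p ^ d), pow_mul, hχ]
    conv_lhs => rw [hm, h1]
    simp
  have it : ∀ (j : ℕ) (u : Kˣ), (σ • ·)^[j] u = u ^ p ^ (d * j) := fun j u => by
    induction j with
    | zero => simp
    | succ j ih =>
      rw [Function.iterate_succ_apply', ih]
      show (u ^ p ^ (d * j)) ^ p ^ d = _
      rw [← pow_mul, ← pow_add, mul_add, mul_one]
  have key := orb_prod σ (fun u => (∏ w ∈ univ.filter (fun w : Kˣ => w ^ r = u), Hf t w) ^ d)
    (fun u => (∏ i ∈ range r, Hf t (ω ^ i) ^ d) * Hf (r * t) u ^ d) m (fun u => ?_)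
    (fun u => by rw [sa, fr _ rt]) mi fun u hu => ?_
  · rw [gam, gam, e, ← hm, ← prod_fiberwise univ fun w : Kˣ => w ^ r]
    simp only [mul_pow, prod_mul_distrib, prod_pow_eq_pow_sum, s0, ← pow_mul] at key
    rw [← key]
    refine prod_congr rfl fun u _ => ?_
    rw [← prod_pow]
    exact prod_congr rfl fun w hw => by simp only [(mem_filter.1 hw).2]
  · congr 1
    rw [prod_filter, prod_filter, ← Equiv.prod_comp σ]
    refine prod_congr rfl fun w _ => ?_
    have : σ w ^ r = σ (w ^ r) := by rw [sa, sa, ← pow_mul, ← pow_mul, mul_comm]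
    rw [this, sa w, fr _ ht]
    simp only [σ.apply_eq_iff_eq]
  · obtain ⟨w, rfl⟩ := root u hu
    obtain ⟨L, hL⟩ := hd
    have pe : Function.IsPeriodicPt (σ • ·) L (w ^ r) := by
      show (σ • ·)^[L] _ = _
      rw [it, ← hL, ← Nat.sub_add_cancel pM.le, pow_succ, uo, one_mul]
    have h1 := hs.prod r d ω hr ⟨L, hL⟩ hrd hω t (d * Function.minimalPeriod (σ • ·) (w ^ r)) w ht
      (dvd_mul_right _ _) (hL ▸ Nat.mul_dvd_mul_left d pe.minimalPeriod_dvd)
      (by rw [← it]; exact Function.iterate_minimalPeriod)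
    rw [(fib hr hω w).1, prod_image (fib hr hω w).2, ← pow_mul, ← prod_pow, h1, mul_pow, ← prod_pow]
    simp only [← pow_mul]

end H88.KgvVL
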