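/- S4780: the bound for the order of the module. -/
import Cfsg.Agent.H23.NDSpec
import Cfsg.Agent.H18.Misc2

set_option autoImplicit false

namespace H88.ND

open Subgroup MulAction H23.ND

universe u

theorem card_ne {α : Type*} [Finite α] (a : α) : Nat.card {x // x ≠ a} + 1 = Nat.card α := by
  classical
  rw [← Finite.card_option]
  exact Nat.card_congr (Equiv.optionSubtypeNe a)

variable {Γ Λ : Type u} [Group Γ] [Finite Γ] [CommGroup Λ] [MulDistribMulAction Γ Λ]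
  {B Z : Subgroup Γ} [hB : B.Normal] {h : Γ} {n : ℕ}

omit [Finite Γ] hB in
theorem smul_ne {l : Λ} (hl : l ≠ 1) (b : Γ) : b • l ≠ 1 := fun e =>
  hl (by rw [← inv_smul_smul b l, e, smul_one])

omit [Finite Γ] hB in
theorem st_le (d : AD Λ B h) (s : AS B h) {l : Λ} (hl : l ≠ 1) :
    ∃ b ∈ B, stabilizer Γ (b • l) ≤ center Γ ⊔ zpowers h := by
  obtain ⟨b, hb, k⟩ := s.cj (stabilizer Γ l) fun g hg => by_contra fun c => hl (d.fp g hg.2 c l hg.1)
  refine ⟨b, hb, fun g hg => ?_⟩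
  have := k (b⁻¹ * g * b) (by
    rw [mem_stabilizer_iff, mul_smul, mul_smul, mem_stabilizer_iff.1 hg, inv_smul_smul])
  rwa [show b * (b⁻¹ * g * b) * b⁻¹ = g by group] at this

theorem exists_t (d : AD Λ B h) (s : AS B h) (o : AO Λ B Z n) {l₀ : Λ} (h₀ : l₀ ≠ 1)
    (hS : stabilizer Γ l₀ ≤ center Γ ⊔ zpowers h) :
    ∃ t, t ∉ B ∧ ∀ l : Λ, l ≠ 1 → stabilizer Γ l ≤ center Γ ⊔ zpowers h → t • l = l := by
  let π := QuotientGroup.mk' B
  have zc : Z ≤ center Γ := fun g hg => by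
    rw [← o.sb _ h₀] at hg
    exact by_contra fun c => h₀ (d.fp g hg.2 c _ hg.1)
  have : Z.Normal := ⟨fun z hz g => by rwa [mem_center_iff.1 (zc hz) g, mul_inv_cancel_right]⟩
  have zs : ∀ l : Λ, l ≠ 1 → Z ≤ stabilizer Γ l := fun l hl => o.sb l hl ▸ inf_le_left
  have c : ∀ l : Λ, l ≠ 1 → Nat.card ((stabilizer Γ l).map π) * n = Z.index := fun l hl => by
    rw [← relIndex_ker, QuotientGroup.ker_mk', ← inf_relIndex_left, o.sb l hl, ← o.ix l hl,
      relIndex_mul_index (zs l hl)]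
  have n0 : 0 < n := Nat.pos_of_ne_zero (o.ix _ h₀ ▸ index_ne_zero_of_finite)
  have top : zpowers (π h) = ⊤ := by
    rw [← MonoidHom.map_zpowers, ← bot_sup_eq (map π _),
      ← (Subgroup.map_eq_bot_iff B).2 (QuotientGroup.ker_mk' B).ge, ← Subgroup.map_sup, d.gen]
    exact map_top_of_surjective π (QuotientGroup.mk'_surjective B)
  obtain ⟨g, hg, e⟩ := s.cy (stabilizer Γ l₀)
  have m : (stabilizer Γ l₀).map π = zpowers (π g) := by
    rw [e, Subgroup.map_sup, (Subgroup.map_eq_bot_iff _).2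
      (inf_le_right.trans (QuotientGroup.ker_mk' B).ge), bot_sup_eq, MonoidHom.map_zpowers]
  refine ⟨g ^ Z.relIndex (center Γ), fun k => d.nf _ h₀ ?_, fun l hl hl' => ?_⟩
  · obtain ⟨j, hj⟩ : orderOf (π g) ∣ Z.relIndex (center Γ) := orderOf_dvd_of_pow_eq_one (by
      rw [← map_pow]; exact (QuotientGroup.eq_one_iff _).2 k)
    have := c _ h₀
    rw [m, Nat.card_zpowers, ← relIndex_mul_index zc, ← relIndex_mul_index s.zb, hj, mul_assoc] at this
    rw [o.ix _ h₀, Nat.eq_of_mul_eq_mul_left (orderOf_pos _) this]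
    exact Dvd.intro_left _ (mul_assoc _ _ _)
  · have e' : (stabilizer Γ l₀).map π = (stabilizer Γ l).map π :=
      H18.eq_of_isCyclic_of_card_eq (K := zpowers (π h)) inferInstance (top ▸ le_top) (top ▸ le_top)
        (Nat.eq_of_mul_eq_mul_right n0 ((c _ h₀).trans (c _ hl).symm))
    obtain ⟨g', hg', k⟩ := e'.le (mem_map_of_mem π hg)
    have z : g'⁻¹ * g ∈ center Γ :=
      s.sb.le (mem_inf.2 ⟨mul_mem (inv_mem (hl' hg')) (hS hg), QuotientGroup.eq.1 k⟩)
    have : g ^ Z.relIndex (center Γ) ∈ stabilizer Γ l := by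
      rw [← mul_inv_cancel_left g' g,
        (show Commute g' (g'⁻¹ * g) from mem_center_iff.1 z g').mul_pow]
      exact mul_mem (pow_mem hg' _) (zs l hl (pow_relIndex_mem Z z))
    exact this

theorem jobAc4 : JobAc4.{u} := by
  intro Γ Λ _ _ _ _ _ _ B Z hB h n d s o
  obtain ⟨l, hl⟩ := exists_ne (1 : Λ)
  obtain ⟨b, -, hb⟩ := st_le d s hl
  obtain ⟨t, tB, ht⟩ := exists_t d s o (smul_ne hl b) hb
  let Y : Subgroup Λ :=
    { carrier := {y | t • y = y}
      mul_mem' := fun {a b} (ha : _ = _) (hb : _ = _) => (smul_mul' t a b).trans (by rw [ha, hb])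
      one_mem' := smul_one t
      inv_mem' := fun {a} (ha : _ = _) => (smul_inv' t a).trans (by rw [ha]) }
  have c1 := Nat.card_le_card_of_surjective
    (fun p : (B ⧸ (center Γ).subgroupOf B) × {y : Y // y ≠ 1} =>
      (⟨(p.1.out : Γ) • (p.2.1 : Λ), smul_ne (fun e => p.2.2 (Subtype.ext e)) _⟩ : {x : Λ // x ≠ 1}))
    fun ⟨x, hx⟩ => by
      obtain ⟨a, ha, k⟩ := st_le d s hx
      obtain ⟨z, hz⟩ := QuotientGroup.mk_out_eq_mul ((center Γ).subgroupOf B) ⟨a⁻¹, inv_mem ha⟩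
      have zc : ((z : B) : Γ)⁻¹ ∈ center Γ := inv_mem z.2
      refine ⟨(QuotientGroup.mk ⟨a⁻¹, inv_mem ha⟩, ⟨⟨((z : B) : Γ)⁻¹ • a • x, ?_⟩,
        fun e => smul_ne (smul_ne hx a) _ (congrArg Subtype.val e)⟩), Subtype.ext ?_⟩
      · change t • _ = _
        rw [← mul_smul, mem_center_iff.1 zc t, mul_smul, ht _ (smul_ne hx a) k]
      · change ((Quotient.out _ : B) : Γ) • _ = x
        rw [hz, coe_mul, mul_smul, smul_inv_smul, inv_smul_smul]
  obtain ⟨a, ha, ac⟩ := SetLike.not_le_iff_exists.1 d.ne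
  have K : ∀ y : Λ, t • y = y → t • a • y = a • y → y = 1 := fun y h1 h2 =>
    d.fp (t * a⁻¹ * t⁻¹ * a⁻¹⁻¹) (mul_mem (hB.conj_mem _ (inv_mem ha) t) (inv_mem (inv_mem ha)))
      (fun k => ac (inv_mem_iff.1 (d.fq t tB _ (inv_mem ha) k))) y (by
        rw [inv_inv, mul_smul, mul_smul, mul_smul, inv_smul_eq_iff.2 h2.symm, inv_smul_smul, h1])
  have c2 := Nat.card_le_card_of_injective (fun p : Y × Y => (p.1 : Λ) * a • (p.2 : Λ))
    fun ⟨y, u⟩ ⟨y', u'⟩ e => by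
      change (y : Λ) * a • (u : Λ) = y' * a • (u' : Λ) at e
      have e1 : a • ((u * u'⁻¹ : Y) : Λ) = ((y⁻¹ * y' : Y) : Λ) := by
        rw [coe_mul, coe_mul, coe_inv, coe_inv, smul_mul', smul_inv', mul_inv_eq_iff_eq_mul,
          mul_assoc, ← e, inv_mul_cancel_left]
      have e2 := K _ (u * u'⁻¹).2 (by rw [e1]; exact (y⁻¹ * y').2)
      rw [e2, smul_one] at e1
      exact Prod.ext (inv_mul_eq_one.1 (Subtype.ext e1.symm)) (mul_inv_eq_one.1 (Subtype.ext e2))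
  have : Nonempty {y : Y // y ≠ 1} :=
    ⟨⟨⟨b • l, ht _ (smul_ne hl b) hb⟩, fun e => smul_ne hl b (congrArg Subtype.val e)⟩⟩
  have c3 : 0 < Nat.card {y : Y // y ≠ 1} := Nat.card_pos
  rw [Nat.card_prod] at c1 c2
  rw [← card_ne (1 : Y), ← card_ne (1 : Λ)] at c2
  rw [← card_ne (1 : Λ)]
  change _ ≤ (center Γ).relIndex B * _ at c1
  generalize Nat.card {y : Y // y ≠ 1} = r at c1 c2 c3
  generalize Nat.card {x : Λ // x ≠ 1} = m at c1 c2 ⊢
  generalize (center Γ).relIndex B = N at c1 ⊢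
  have : r + 2 ≤ N := Nat.le_of_mul_le_mul_right (by nlinarith) c3
  nlinarith

end H88.ND
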