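import Cfsg.Agent.H66.RITSpec
import Cfsg.Agent.H70.R2L
import Cfsg.Agent.H70.R2S
import Cfsg.Agent.H30.C2G3a

/-! Tower RIT, job P1: two lines through a point and `q > 2` give diameter at most three. -/

set_option autoImplicit false

namespace H88.RITP1

open Cfsg Subgroup H98 H1.Gold H51.R2
open H70.R2 (LH)

universe u

section

variable {G : Type u} [Group G] {D : Set G}

/-- The chain lemma. -/
theorem chain {X A B Y : Subgroup G} (hX : H51.R2.Pt D X) (hA : H51.R2.Pt D A) (hB : H51.R2.Pt D B) (hY : H51.R2.Pt D Y)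
    (c1 : A ≤ cen X) (c2 : B ≤ cen A) (c3 : Y ≤ cen B) :
    Nr D X Y ∨ ∃ A B, Path D X A B Y := by
  by_cases n : Nr D X Y
  · exact Or.inl n
  have nA : ¬ Y ≤ cen A := fun k => n ⟨A, hA, cen_symm c1, k⟩
  have nB : ¬ B ≤ cen X := fun k => n ⟨B, hB, cen_symm k, c3⟩
  refine Or.inr ⟨A, B, ⟨hX, hA, fun e => nB (e ▸ c2), c1⟩, ⟨hA, hB, fun e => nA (e ▸ c3), c2⟩,
    ⟨hB, hY, fun e => nA (e ▸ c2), c3⟩, nB, nA⟩

variable [Finite G] {q : ℕ}

/-- The two lines through a point form an edge. -/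
theorem gc_of (l : LH D q) {A B X Y Y' : Subgroup G} (p : Path D X A B Y) (p' : Path D B A X Y') :
    H10.C2.GC (A ⊔ B) (A ⊔ X) ∧ 4 ≤ (A ⊔ B).relIndex (A ⊔ X) := by
  have h := l.h
  have hA := p.c2.pa
  have f := p.c2.fl
  have f' := p'.c2.fl
  have ne : A ⊔ B ≠ A ⊔ X := fun e => p'.n1 (le_sup_right.trans (e.ge.trans (h.ln_cen p.c2.fr)))
  have hi : (A ⊔ B) ⊓ (A ⊔ X) = A := le_antisymm (fun w hw => by_contra fun hn =>
    ne (h.ln_eq_of_mem f f' hw.1 hw.2 hn)) (le_inf f.le f'.le)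
  have el : ∀ {W}, Ln D W → IsElementaryAbelian 2 W := fun hW =>
    H10.C2.elem_of_forall fun a ha => by rw [pow_two, h.ln_sq hW ha]
  have nA : A ⊔ X ≤ nor (A ⊔ B) := (h.ln_le f').trans (h.M_fix f)
  have mv : ∀ {X A B Y : Subgroup G}, Path D X A B Y → ¬ nor (A ⊔ B) ≤ nor A := by
    intro X A B Y p k
    obtain ⟨y, hy, y1⟩ := p.c3.pb.exists_ne h
    exact h.not_nor p.symm hy y1 (k (h.M_fix p.c2.fr (h.le_M p.c3.pb p.c3.le hy)))
  have gc : H10.C2.GC (A ⊔ B) (A ⊔ X) := by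
    refine ⟨⟨el f.ln, el f'.ln, l.f1.Msup f f' ne ▸ l.syl H70.R2.jobS hA, nA,
      (h.ln_le f).trans (h.M_fix f'), fun x hx h2 => ?_⟩, hi.symm ▸ mv p, hi.symm ▸ mv p'⟩
    obtain ⟨w, hw, w', hw', rfl⟩ := (mem_sup_right_norm nA).1 hx
    have c : w * w' = w' * w := by
      rw [pow_two, mul_eq_one_iff_eq_inv, mul_inv_rev, H70.inv_of_sq (h.ln_sq f.ln hw),
        H70.inv_of_sq (h.ln_sq f'.ln hw')] at h2
      exact h2
    rcases h.ln_inf f f' ne hw hw' c with k | k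
    · exact Or.inr (mul_mem (f'.le k) hw')
    · exact Or.inl (mul_mem hw (f.le k))
  have ri : (A ⊔ B).relIndex (A ⊔ X) = q := by
    rw [← inf_relIndex_right, hi]
    have h1 := (A.subgroupOf (A ⊔ X)).card_mul_index
    rw [Nat.card_congr (subgroupOfEquivOfLe f'.le).toEquiv, h.ln_card f', l.fa.pt_card hA] at h1
    exact Nat.eq_of_mul_eq_mul_left (by have := l.four; omega) h1
  exact ⟨gc, ri ▸ l.four⟩

open H10.C2 in
/-- All edges are of type `L₃`. -/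
theorem all_of [IsSimpleGroup G] {U V : Subgroup G} (h : GC U V) (h4 : 4 ≤ U.relIndex V)
    (ht : TL U V) : H30.G3.All G := by
  have hL := H95.C2.jobLoc.{u}
  have hF := H95.C2.jobFus.{u}
  have hq : ∀ X Y : Subgroup G, GC X Y → 4 ≤ X.relIndex Y := fun X Y h' => by
    rw [h.relIndex_edge (lf_of hL h).idx1 h']; exact h4
  have hcm : ∀ X Y : Subgroup G, GC X Y → Cm X Y := fun X Y h' =>
    H51.C2.jobC H51.asThm hF G X Y h' (lf_of hL h') (lf_of hL h'.symm) (hq X Y h')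
      (h'.cc_inf_eq_bot H51.asch hF)
  intro X Y h'
  refine ⟨⟨h', lf_of hL h', lf_of hL h'.symm, H11.C2K.jobK G X Y h' (lf_of hL h')
    (lf_of hL h'.symm) (hq X Y h') (hcm X Y h'), hq X Y h'⟩, ?_⟩
  obtain ⟨g, ⟨rfl, rfl⟩ | ⟨rfl, rfl⟩⟩ := h.edge_cases h'
  · exact ht.cj g
  · exact ht.symm.cj g

theorem diam (l : LH D q) : H66.RIT.Diam D := by
  have h := l.h
  have := h.simple
  obtain ⟨A, hA⟩ := l.fa.ex
  obtain ⟨X, B, Y, p⟩ := l.exists_path hA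
  obtain ⟨Y', c', n'⟩ := h.ext p.c1.symm
  have p' : Path D B A X Y' := ⟨p.c2.symm, p.c1.symm, c', fun k => p.n1 (cen_symm k), n'⟩
  obtain ⟨gc, h4⟩ := gc_of l p p'
  have H := all_of gc h4 ⟨l.cc_eq p, l.cc_eq p'⟩
  have f := p.c2.fl
  have f' := p'.c2.fl
  have key : ∀ (g : G) (L : Subgroup G), H10.C2.GC (cj g (A ⊔ B)) L →
      ∃ P, H51.R2.Pt D P ∧ P ≤ cen (cj g A) ∧ H51.R2.Fl D P L := by
    intro g L e
    obtain ⟨k, e1, e2⟩ := H30.G3.flag gc e ⟨g, rfl⟩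
    have f1 := h.fl_cj k f
    have f2 := h.fl_cj k f'
    rw [e1] at f1
    rw [e2] at f2
    exact ⟨cj k A, f1.pt, f1.le.trans (h.ln_cen (h.fl_cj g f)), f2⟩
  intro P Q hP hQ
  obtain ⟨g, rfl⟩ := h.pt_cls hA hP
  obtain ⟨g', rfl⟩ := h.pt_cls hA hQ
  obtain ⟨L, e, e'⟩ := H.col_all gc (P := cj g (A ⊔ B)) (P' := cj g' (A ⊔ B)) ⟨g, rfl⟩ ⟨g', rfl⟩
  obtain ⟨P1, h1, c1, f1⟩ := key g L e
  obtain ⟨P2, h2, c2, f2⟩ := key g' L e'
  exact chain hP h1 h2 hQ c1 (f2.le.trans (h.ln_cen f1)) (cen_symm c2)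

end

/-- Job P1 of the tower RIT. -/
theorem jobP1 : H66.RIT.JobP1.{u} := fun _ _ _ _ _ h fa fc ft f1 q2 =>
  diam ⟨h, fa, fc, ft, f1, q2⟩

end H88.RITP1
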