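/- Sweeps over a coded group that evaluate words on a base only. -/
import Cfsg.Agent.H69.Std7

set_option autoImplicit false

namespace H88.STM

open H49 H69.Std

variable {M : Type} [Monoid M] {C : CS M}

/-- The test `p` on all words `[t₁, …, t_k]`. -/
noncomputable def goW (L : List (List (UG C))) : (List (UG C) → Bool) → Bool :=
  List.rec (motive := fun _ => (List (UG C) → Bool) → Bool) (fun p => p [])
    (fun T _ ih p => ih fun w => allB (fun t => p (t :: w)) T) L

theorem goW_spec {L : List (List (UG C))} {p : List (UG C) → Bool} (h : goW L p = true) {y : UG C}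
    (hy : inProd L y) : ∃ w, w.prod = y ∧ p w = true := by
  induction L generalizing p y with
  | nil => exact ⟨[], hy.symm, h⟩
  | cons T L ih =>
    obtain ⟨t, ht, z, hz, rfl⟩ := hy
    obtain ⟨w, rfl, k⟩ := ih h hz
    exact ⟨t :: w, List.prod_cons, allB_iff.1 k t ht⟩

/-- The test `p` on all words, the transversals being evaluated first. -/
noncomputable def allW (L : List (List (UG C))) (p : List (UG C) → Bool) : Bool :=
  frcLL L fun L => goW L p

theorem sweepW [Finite (UG C)] {ap : ℕ → ℕ → ℕ} {L : List (H49.Lv C)} (h : ubOK ap L = true)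
    {P : List (UG C) → Prop} [DecidablePred P] (hP : allW (trs L) (fun w => decide (P w)) = true)
    {x : UG C} (hx : x ∈ Subgroup.closure {s | s ∈ H49.topS L}) : ∃ w, w.prod = x ∧ P w := by
  rw [allW, frcLL_eq] at hP
  exact (goW_spec hP (inProd_of_ubOK h hx)).imp fun _ k => ⟨k.1, of_decide_eq_true k.2⟩

/-- Equality of products, decided on the base. -/
def EqW {A : Act C} {B : List ℕ} (_h : IsBase A B) (w w' : List (UG C)) : Prop := w.prod = w'.prod

noncomputable instance instDecEqW {A : Act C} {B : List ℕ} (h : IsBase A B) (w w' : List (UG C)) :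
    Decidable (EqW h w w') := decidable_of_iff (eqW A.ap B w w' = true) h.eqW_iff

/-- The images of the base under a product, as one number. -/
noncomputable def keyW (ap : ℕ → ℕ → ℕ) (n : ℕ) (B : List ℕ) (w : List (UG C)) : ℕ :=
  List.rec (motive := fun _ => ℕ) 0 (fun p _ ih => Nat.add (evW ap w p) (Nat.mul n ih)) B

theorem keyW_eq {A : Act C} {B : List ℕ} (h : ∀ p ∈ B, A.dom p = true) (n : ℕ) (w : List (UG C)) :
    keyW A.ap n B w = keyB A.ap n B w.prod := by
  induction B with
  | nil => rfl
  | cons p B ih =>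
    exact congrArg₂ Nat.add (evW_eq (h p List.mem_cons_self) w)
      (congrArg (Nat.mul n) (ih fun q hq => h q (List.mem_cons_of_mem _ hq)))

theorem memN_iff {n : ℕ} {L : List ℕ} : memN n L = true ↔ n ∈ L := by
  refine ⟨mem_of_memN, fun h => ?_⟩
  unfold memN
  rw [frc_eq]
  induction L with
  | nil => exact absurd h List.not_mem_nil
  | cons y L ih =>
    refine orB_iff.2 ?_
    rcases List.mem_cons.1 h with rfl | h
    exacts [Or.inl (Nat.beq_refl _), Or.inr (ih h)]

/-- A list with its keys. -/
structure Keyed (A : Act C) (B : List ℕ) (n : ℕ) (L : List (UG C)) (K : List ℕ) : Prop where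
  base : IsBase A B
  lt : ∀ a p, A.ap a p < n
  eq : L.map (keyB A.ap n B) = K

/-- Membership of a product in a list, decided by its key. -/
def MemW {A : Act C} {B : List ℕ} {n : ℕ} {L : List (UG C)} {K : List ℕ} (_h : Keyed A B n L K)
    (w : List (UG C)) : Prop := w.prod ∈ L

noncomputable instance instDecMemW {A : Act C} {B : List ℕ} {n : ℕ} {L : List (UG C)} {K : List ℕ}
    (h : Keyed A B n L K) (w : List (UG C)) : Decidable (MemW h w) :=
  decidable_of_iff (memN (keyW A.ap n B w) K = true) (by
    rw [memN_iff, keyW_eq h.base.1, MemW, ← h.eq, List.mem_map]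
    exact ⟨fun ⟨y, hy, e⟩ => h.base.eq_of_key h.lt e ▸ hy, fun k => ⟨_, k, rfl⟩⟩)

end H88.STM
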