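import Cfsg.Agent.H88.SuzEndL0
import Cfsg.Agent.H88.LocE
set_option maxRecDepth 1000000
set_option Elab.async false
namespace H88.SuzEnd
open H71 H81
noncomputable def D0_0 : ℕ := 0x3fffffffffffffffffffffffffffffffffffffffffffffffffffffffffffffffffffffffffffffffffffffffffffffffffffffffffffffffffffffffffffffffffffffffffffffffffffffffffffffffffffffffffffffffffffffffffffffffffffffffffffffffffffffffffffffffffffffffffffffffffffffffffffffffffffffffffffffffffffffffffffffffffffffffffffffffffffffffffffffffffffffffffffffffffffffffffffffffffffffffffffffffffffffffffffffffffffffffffffffffffffffffffffffffffffffffffffffffffffffffffffff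
noncomputable def S0_0 : Tr := (.node (nat_lit 896) (.node (nat_lit 384) (.node (nat_lit 128) (.leaf (nat_lit 0) (nat_lit 0xdf2f5591d2ac08fa695483e0d9cd952868171aa3d3db544e5045df2038ba16b81c3780cf501f70e17576d6865bd342dc))
 (.node (nat_lit 256) (.leaf (nat_lit 128) (nat_lit 0x68e705d050d57b1266febf5ad5f8c6f85b3d1f2f66b6681e5f3ae9d4ab8d72476ae15a099dfaae2c5416f60d115686ff))
 (.leaf (nat_lit 256) (nat_lit 0x969cacd9f97431a5d92c02f475d7141927aae9c289df9db91f6ccc4117e191c80d7e20468ee277fae357ce1d07dc605a))))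
 (.node (nat_lit 640) (.node (nat_lit 512) (.leaf (nat_lit 384) (nat_lit 0x98c83d04002a92de6eac4348435dda28adfa6f9c75ae137f13e45dec9226c228f2215cc4f51782551e5c63fd0dbc2e3c))
 (.leaf (nat_lit 512) (nat_lit 0x71b235454f1936f017ecef1ac5f21f9956b0c840c8290be7b1f48b9facf38fe830bad7f5670c847c76bef28f96040362)))
 (.node (nat_lit 768) (.leaf (nat_lit 640) (nat_lit 0x18c9b4d2432a4398f1176f6bedcd5040227f2937ae502d696c2c1413eb422848c8c69940d79b04732acddc3ec7959862))
 (.leaf (nat_lit 768) (nat_lit 0x12bd2f7499ca785916af992ee864400d758f90e88ac7111df79e1846a68f83a62ea69b17723886ea72e685480540d2c3)))))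
 (.node (nat_lit 1280) (.node (nat_lit 1024) (.leaf (nat_lit 896) (nat_lit 0xe589c76c6ddb19a83b09296097a5d92493d6a7c34122b36d40e9441bd990b8c669ee1bb7f3e203ad3ac0fffe742fb43d))
 (.node (nat_lit 1152) (.leaf (nat_lit 1024) (nat_lit 0xd10941c2661ca5dc9bf5a73d0f4c3578264f6fec93fd66ee2ef08dda7d06c65a0a0f9dc070ff27957bbd6c037932757a))
 (.leaf (nat_lit 1152) (nat_lit 0x3f50fd564862fd5d02b89bda97ead357697e662510f9ed35bb5b8fd1e2681a0ce0da805d034565940ad9d3483a505442))))
 (.node (nat_lit 1536) (.node (nat_lit 1408) (.leaf (nat_lit 1280) (nat_lit 0x3aad7678f1d200fe7715078db8e165cbf2f55fabad742fb7e6ffc160d91eaa1e51de01a6b50395e1418a40bb370d89b6))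
 (.leaf (nat_lit 1408) (nat_lit 0x9e7b8b4e1b77431ee6f0e49cbd9c38126d25603519241c28f70c6092e45045be712175ad230b022ba280a7424dcb637d)))
 (.node (nat_lit 1664) (.leaf (nat_lit 1536) (nat_lit 0x4fa44a179888337d6472836252fa65d5f4d499f8eb1bdb29ccb43ad3db48dde122dfe19d1df7d66456ae5025be329af7))
 (.leaf (nat_lit 1664) (nat_lit 0x222deace79a69b0cbcad6945ed6d22000d23fa5a1b5c3702d2c9bc971566bc00239b066778c4be286dfc877ea521ae))))))
noncomputable def v0_0 : Lv := ⟨(nat_lit 0), D0_0, 1782, wd LS [17,23,22,18,16,20,19,21], [0,3,4,0,1,5,6,3,7,4,2,6,1,0], S0_0, true, (nat_lit 0), (nat_lit 0), 0, 0, 0, []⟩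
noncomputable def D0_1 : ℕ := 0x3ffffffffffffffffffffffffffffffffffffffffffffffffffffffffffffffffffffffffffffffffffffffffffffffffffffffffffffffffffffffffffffffffffffffffffffffffffffffffffffffffffffffffffffffffffffffffffffffffffffffffffffffffffffffffffffffffffffffffffffffffffffffffffffffffffffffffffffffffffffffffffffffffffffffffffffffffffffffffffffffffffffffffffffffffffffe00000000000000000000000000000000000000000000000000000000000000000000000000000000000000000000000000000000
noncomputable def S0_1 : Tr := (.node (nat_lit 896) (.node (nat_lit 384) (.leaf (nat_lit 0) (nat_lit 0))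
 (.node (nat_lit 640) (.node (nat_lit 512) (.leaf (nat_lit 384) (nat_lit 0x247546711733f7d0cd6741f400000000ecda657fd6062d1bb1c4f12000000000f81f494693d0f3757d993eb800000000))
 (.leaf (nat_lit 512) (nat_lit 0x3fb7280a178fe9b809be11eb50e7f2fb2cb4d125bc648b848b99b71923eedb85b5d87e5cceb9e1fea7c2c71480347abb)))
 (.node (nat_lit 768) (.leaf (nat_lit 640) (nat_lit 0x7e7f7bed124ec9ed8ead18e98438a2d5fc65a868088a8ee2839f449a2be5e502ea02733a582b0564313829a426f128b0))
 (.leaf (nat_lit 768) (nat_lit 0x9aa225ca9c0485a7ffa7231fa319849e0899ccfa7da545d290e297ef1ef137c0360e728667ea758811d56a5129cf5f32)))))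
 (.node (nat_lit 1280) (.node (nat_lit 1024) (.leaf (nat_lit 896) (nat_lit 0xefa02417ce046428af7f0808f70d220a7472849c5e7b8be52ace156e280a9fef9370bcead77f79028bb177069bc9c6d0))
 (.node (nat_lit 1152) (.leaf (nat_lit 1024) (nat_lit 0x9070a4b2da36620370945be5c07ff4e095175761751e40136a06a473a72a4951640e3e32c0a9692e2bd0a965c1a1570d))
 (.leaf (nat_lit 1152) (nat_lit 0xc9f1a40f50aad7a95e98aec027355e60226fa254345834a427f04fbf4125a539be6bd08df4f2cdd1ad14775fc2a1ec25))))
 (.node (nat_lit 1536) (.node (nat_lit 1408) (.leaf (nat_lit 1280) (nat_lit 0x91818d5794107b17af7829c54a304913ab686c527a827a7eddc50edaf8e683df25a7873349e0379a3e2e1fdf06cf876e))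
 (.leaf (nat_lit 1408) (nat_lit 0xdfc98d6bd64c5956d6d84984e0d96728d112991a70de53e80d8671168044ef3d05dc4622712f0cb3ad17a02cc44449b8)))
 (.node (nat_lit 1664) (.leaf (nat_lit 1536) (nat_lit 0x6b537e84a33d0a9ecba118a16539febbdc386113fc706abd5e690cd400ddbce92d2d5664e7993fbf1d284eaaf4e02b16))
 (.leaf (nat_lit 1664) (nat_lit 0x395355bca16685be7bf7e84955013800031621e599c7190fd506f99b307c00003aba8eb0ef96cf2f39ddf7dab64c0b))))))
noncomputable def v0_1 : Lv := ⟨(nat_lit 417), D0_1, 1365, wd LS [22,21,25,23,26,19,20,24], [1,5,6,0,1,2,3,4,6,1,0,7,4,0], S0_1, true, (nat_lit 0), (nat_lit 0), 0, 0, 0, []⟩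
noncomputable def D0_2 : ℕ := 0x3ffffffffffffffffffffffffffffffffffffffffffffffffffffffffffffffffffffffffffffffffffffffffffffffffffffff8fff03fffffc7ff8e001f8fc01c0ff81c7e07fd6dc01fffff038e3ffc0fffff8ffffffe38038e38007ffffd8fff1f81c71ffffffff1ffe3f0001ffe3fe3f1ffe07007fde9c0000000003fffc0003fffcffffc0fff1c7ffffc7fff1f81c703fe380381c7fc71ffd67ffffffffffffffffffffffff000000000000000000000000000000000000000000000000000000000000000000000000000000000000000000000000000000000000000
noncomputable def S0_2 : Tr := (.node (nat_lit 896) (.node (nat_lit 384) (.leaf (nat_lit 0) (nat_lit 0))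
 (.node (nat_lit 640) (.node (nat_lit 512) (.leaf (nat_lit 384) (nat_lit 0x604ac0c32980a78000000000000000001684081c96654059800000000000000050450eb971434acfa000000000000000))
 (.leaf (nat_lit 512) (nat_lit 0x1410014200281011040185064000204000402c2180100062430a4000976cdd1810003d8280201014401265258f67938)))
 (.node (nat_lit 768) (.leaf (nat_lit 640) (nat_lit 0x800010e888ec80040f182c848029400000000c1101012402300003390c422617000025374272880e880056d1a80a4414))
 (.leaf (nat_lit 768) (nat_lit 0x30415062001000b0810000000000110f00200081600005014080000000002a100fe06094405005d148c00000000032c0)))))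
 (.node (nat_lit 1280) (.node (nat_lit 1024) (.leaf (nat_lit 896) (nat_lit 0x41508804110038f7910ea0110000c4202e811008602bc0002a004c2e0001218870f170140131b83ce311a01d0000e30))
 (.node (nat_lit 1152) (.leaf (nat_lit 1024) (nat_lit 0x2009e6408442841018008000000342344800098d08253a482002041800649500d40d58e68939d73218008818002e8b65))
 (.leaf (nat_lit 1152) (nat_lit 0xc0080048000004c048800863e400862f0000040000760011244016180303001000100d08006e004905c0125aa5008227))))
 (.node (nat_lit 1536) (.node (nat_lit 1408) (.leaf (nat_lit 1280) (nat_lit 0x8c25324e901000141847410a0000080831088431408f6022660082f4860016833bcdca897060c0284a7243f70600090c))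
 (.leaf (nat_lit 1408) (nat_lit 0x48881cc8140e48044803121240bc0900a7120207c8f1a421b6fc08288543e2f20c2c214199e7f30d03e36907c70a387e)))
 (.node (nat_lit 1664) (.leaf (nat_lit 1536) (nat_lit 0x41321511b08ca18016ee629b04a07095260522c80c605c65e10099407908846906d6511dca3e56fbd993401b753eaf5))
 (.leaf (nat_lit 1664) (nat_lit 0x1111959c2000332a18861601b56c02002aee282015c348556008e182029000000c98fc04dc3b00b6ea204a4f259906))))))
noncomputable def v0_2 : Lv := ⟨(nat_lit 444), D0_2, 1024, wd LS [24,22,26,23,25,27], [0,1,3,0,2,4,1,3,5,0,3,2,3], S0_2, true, (nat_lit 0), (nat_lit 0), 0, 0, 0, []⟩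
noncomputable def D0_3 : ℕ := 0x1f8000038000fc0000e00e001c0000000000000000007e001c0ff8fc7fc0e00e070001c00380000000000000001c0000e380001f80071c0000000e00000000000000000000007000000000fc0000000038000000000000000000000000000000038e00038038000000000000000000000000000000000000000000000000000ffffc0fff1c01f8fc7000000000000000000000000000000000000000000e07038038000000000000000000000000000000000000000000000000000000000000000000000000000000000000000000000000000000000000000000
noncomputable def S0_3 : Tr := (.node (nat_lit 896) (.node (nat_lit 384) (.leaf (nat_lit 0) (nat_lit 0))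
 (.node (nat_lit 640) (.node (nat_lit 512) (.leaf (nat_lit 384) (nat_lit 0xc0602001000000000000000000000000200008000000000000000000000))
 (.leaf (nat_lit 512) (nat_lit 0)))
 (.node (nat_lit 768) (.leaf (nat_lit 640) (nat_lit 0x2b4c0b5f100058205000000000000001d4300020040180d0200000))
 (.leaf (nat_lit 768) (nat_lit 0)))))
 (.node (nat_lit 1280) (.node (nat_lit 1024) (.leaf (nat_lit 896) (nat_lit 0x8000028008000000000000000000000304000100300000000000))
 (.node (nat_lit 1152) (.leaf (nat_lit 1024) (nat_lit 0x2800000000000000000000000000000050000000002000000000000000000000))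
 (.leaf (nat_lit 1152) (nat_lit 0x3000000000))))
 (.node (nat_lit 1536) (.node (nat_lit 1408) (.leaf (nat_lit 1280) (nat_lit 0x4000020000006800114000000040000000000c000001000060000000008))
 (.leaf (nat_lit 1408) (nat_lit 0x602080000203000100020000000000009c4540c0080000008001000000000000)))
 (.node (nat_lit 1664) (.leaf (nat_lit 1536) (nat_lit 0x100000000000000000004600100a6000000000000000000000000800040588))
 (.leaf (nat_lit 1664) (nat_lit 0x1f8000030000b00000800800000000000000000000000400002000))))))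
noncomputable def v0_3 : Lv := ⟨(nat_lit 459), D0_3, 180, wd LS [27,25,26], [0,1,2,0,1,2,0,1,2,0,2], S0_3, true, (nat_lit 0), (nat_lit 0), 0, 0, 0, []⟩
noncomputable def L0 : List Lv := [v0_0, v0_1, v0_2, v0_3]
theorem lok0 : LOK 1792 (H71.Suz.ρ).range L0 :=
  (LOK.cons (hLS.wd (w := [17,23,22,18,16,20,19,21]) (by decide +kernel))
  (LOK.cons (hLS.wd (w := [22,21,25,23,26,19,20,24]) (by decide +kernel))
  (LOK.cons (hLS.wd (w := [24,22,26,23,25,27]) (by decide +kernel))
  (LOK.cons (hLS.wd (w := [27,25,26]) (by decide +kernel))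
  LOK.nil))))
theorem lb0_0 : lbLv 11 1792 v0_0 [v0_1, v0_2, v0_3] = true := by decide +kernel
theorem lb0_1 : lbLv 11 1792 v0_1 [v0_2, v0_3] = true := by decide +kernel
theorem lb0_2 : lbLv 11 1792 v0_2 [v0_3] = true := by decide +kernel
theorem lb0_3 : lbLv 11 1792 v0_3 [] = true := by decide +kernel
theorem lb0 : LB 11 1792 L0 := ⟨lb0_0, ⟨lb0_1, ⟨lb0_2, ⟨lb0_3, trivial⟩⟩⟩⟩
theorem ch0 : Ch 1792 L0 (H71.Suz.ρ).range := lb_exact L0 _ lok0 lb0 (by rw [cardB]; decide +kernel)
theorem base : IsBase 1792 (H71.Suz.ρ).range [459,444,417,0] := ch0.isBase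
theorem hB : (H71.Suz.ρ).range ≤ supp 1792 :=
  (eq_of_lb (B' := (H71.Suz.ρ).range ⊓ supp 1792) inf_le_left (fun v hv a ha => (lok0 v hv a ha).mono ⟨(lok0 v hv a ha).2.1, (lok0 v hv a ha).supp⟩) lb0
    (by rw [cardB]; decide +kernel)).ge.trans inf_le_right
def la : ℕ := 9
def le : ℕ := 13
def lid : ℕ := 28
def l5 : ℕ := 41
def l7 : ℕ := 42
def A13 : Sl := ⟨[38,37,36,35,34,33,13,32,31,30,15,29,9], [[],
  [38],
  [37],
  [36],
  [35],
  [37,38],
  [36,38],
  [35,38],
  [34,38],
  [38,37],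
  [36,37],
  [33,37],
  [13,37],
  [35,36],
  [36,37,38],
  [35,37,38]], [[(1, []), (3, []), (9, []), (6, []), (7, [13,31,32,29,15]), (12, [13,30,29,15]), (0, [9]), (13, [13,15,31,32,29]), (4, [13,34,30,9,15]), (10, []), (15, [31,32,15,29]), (5, [33,30]), (14, [13,30,15,29]), (8, [13,34,9,29]), (11, [33,30,9]), (2, [31,32,15,29])],
  [(2, []), (5, []), (0, []), (10, []), (12, []), (1, []), (14, []), (15, [30,29,15]), (9, [34,9,29]), (8, [34,9]), (3, []), (13, [13,33,30,9,29]), (4, []), (11, [13,33,30,9,29]), (6, []), (7, [30,15,29])],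
  [(3, []), (6, []), (10, []), (0, [9]), (13, [30,15]), (14, []), (1, [9]), (8, [34,15,31,32,9]), (7, [34,31,32,15,29]), (15, [31,32,15,29]), (2, [9]), (12, [13,33,15,29]), (11, [13,33,29,15]), (4, [30,9,15]), (5, [9]), (9, [31,32,15,29])],
  [(4, []), (7, []), (2, [13]), (13, []), (0, []), (15, []), (8, [34,31,32,15]), (1, []), (6, [34,15,31,32,9,29]), (14, [15,31,32,9,29]), (10, [13,30,9,15]), (11, [13,30,15]), (12, [13,9]), (3, []), (9, [15,31,32,29]), (5, [])],
  [(0, [34]), (8, []), (2, [34,29]), (13, [13,34,9,29]), (4, [34]), (14, [34,9]), (1, [34,9,29]), (6, [34,15,31,32,9,29]), (7, [15,31,32,29]), (5, [34,9]), (11, [33,34,30,9]), (10, [34,33,30,29]), (12, [34,29]), (3, [13,34,9,29]), (15, [34,15,31,32,9,29]), (9, [34,31,32,15,29])],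
  [(0, [33]), (8, [13,34,15,32,15]), (11, []), (3, [33,30,15]), (4, [33,30,9,15]), (14, [13,15,32]), (7, [13,31,15]), (6, [13,30,31]), (1, [13,34,30,31]), (15, [13,30,31,15,29]), (12, [13,33,30,9,29]), (2, []), (10, [13,33,30,9,29]), (13, [33,9]), (5, [13,32,15]), (9, [13,30,31,15,29])],
  [(0, [13]), (7, [30,15,29]), (12, []), (3, [13,30,9,15]), (4, [13,9]), (15, [30,29,15]), (8, [34,15,31,32,9,29]), (1, [30,29,15]), (6, [34,31,32,15]), (14, [31,32,15]), (11, [13,33,30,9,29]), (10, [13,33,30,9,29]), (2, []), (13, [13,30,15]), (9, [31,32,9,15]), (5, [30,15,29])],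
  [(0, [32]), (6, [33,15,31,32,29]), (2, [32,29,15]), (3, [32]), (4, [32]), (15, [33,29,15]), (1, [33,15,31,32,9,29]), (8, [34,33,30,29,15]), (7, [33,34,30,15]), (14, [33,15,31,32,15]), (10, [32,29,15]), (11, [32,29,15]), (12, [32,29,15]), (13, [32]), (9, [33,31,32,9]), (5, [33,29,15])],
  [(0, [31]), (1, [13,33,15,31,32,9,15]), (2, [30,31]), (3, [30,31,9,15]), (4, [31]), (14, [13,33,15,31,32]), (6, [13,33,31,32]), (7, [13,33,15,31,32,9,15]), (8, [33,31,32,29]), (15, [13,33,30,29,15]), (10, [31,15]), (11, [30,31]), (12, [30,31]), (13, [30,31,9,15]), (5, [13,33,31,32,9,15]), (9, [13,33,29])],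
  [(0, [30]), (6, [30,9]), (2, [30]), (3, [30,9]), (4, [30]), (14, [30,9]), (1, [30,9]), (8, [34,15,31,32,9,15]), (7, [34,15,31,32,15]), (15, [15,31,32,15,29]), (10, [30,9]), (11, [30]), (12, [30]), (13, [30,9]), (5, [30,9]), (9, [31,32,29])],
  [(0, [15]), (6, [15]), (2, [9,15]), (3, [9,15]), (4, [15]), (14, [9,15]), (1, [15]), (8, [34,31,32]), (7, [34,31,32]), (15, [31,32,29]), (10, [15]), (11, [9,15]), (12, [9,15]), (13, [9,15]), (5, [9,15]), (9, [15,31,32,15,29])],
  [(0, [29]), (7, [15,31,32,9,29]), (2, [9,29]), (3, [9,29]), (4, [29]), (15, [31,32,9,15]), (8, [34,29]), (1, [15,31,32,9,29]), (6, [34,9]), (14, [29]), (10, [29]), (11, [9,29]), (12, [9,29]), (13, [9,29]), (9, [29]), (5, [31,32,9,15])],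
  [(0, [9]), (1, [9]), (2, [9]), (3, [9]), (4, [9]), (5, [9]), (6, [9]), (7, [9]), (8, [9]), (9, [9]), (10, [9]), (11, [9]), (12, [9]), (13, [9]), (14, [9]), (15, [9])]]⟩
theorem rA13 : relP LS [459,444,417,0] (schR A13) = true := by decide +kernel
def A9 : Sl := ⟨[34,33,13,32,31,30,15,29,9], [[],
  [34],
  [33],
  [13],
  [33,34],
  [13,34],
  [34,33],
  [13,33]], [[(1, []), (0, [9,29]), (6, []), (5, []), (7, [9,29]), (3, [9,29]), (2, [9,29]), (4, [])],
  [(2, []), (4, []), (0, []), (7, []), (1, []), (6, []), (5, []), (3, [])],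
  [(3, []), (5, []), (7, []), (0, []), (6, []), (1, []), (4, []), (2, [])],
  [(0, [32]), (1, [31,15,29]), (2, [32]), (3, [32]), (4, [31,15,29]), (5, [31,15,29]), (6, [31,15,29]), (7, [32])],
  [(0, [31]), (1, [15,32]), (2, [31]), (3, [31]), (4, [15,32]), (5, [15,32]), (6, [15,32]), (7, [31])],
  [(0, [30]), (1, [30,29]), (2, [30]), (3, [30]), (4, [30,29]), (5, [30,29]), (6, [30,29]), (7, [30])],
  [(0, [15]), (1, [29,15]), (2, [15]), (3, [15]), (4, [29,15]), (5, [29,15]), (6, [29,15]), (7, [15])],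
  [(0, [29]), (1, [29]), (2, [29]), (3, [29]), (4, [29]), (5, [29]), (6, [29]), (7, [29])],
  [(0, [9]), (1, [9]), (2, [9]), (3, [9]), (4, [9]), (5, [9]), (6, [9]), (7, [9])]]⟩
theorem rA9 : relP LS [459,444,417,0] (schR A9) = true := by decide +kernel
def A6 : Sl := ⟨[32,31,30,15,29,9], [[],
  [32],
  [31],
  [30],
  [31,32],
  [15,32],
  [30,31],
  [15,31,32]], [[(1, []), (0, []), (4, [9]), (5, [9]), (2, [9]), (3, [9]), (7, []), (6, [])],
  [(2, []), (4, []), (3, [15]), (6, [9]), (5, [9,15]), (7, [9]), (0, [9,15]), (1, [15])],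
  [(3, []), (1, [9,15]), (6, []), (0, []), (4, [15]), (5, [9,15]), (2, []), (7, [15])],
  [(0, [15]), (5, []), (2, [9,15]), (3, [15]), (7, []), (1, []), (6, [9,15]), (4, [])],
  [(0, [29]), (5, [15,29]), (6, [15,29]), (3, [9,29]), (4, [29]), (1, [29,15]), (2, [29,15]), (7, [9,29])],
  [(0, [9]), (1, [9]), (2, [9]), (3, [9]), (4, [9]), (5, [9]), (6, [9]), (7, [9])]]⟩
theorem rA6 : relP LS [459,444,417,0] (schR A6) = true := by decide +kernel
def A3 : Sl := ⟨[15,29,9], [[],
  [15],
  [29],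
  [9],
  [29,15],
  [9,15],
  [15,29],
  [9,29]], [[(1, []), (0, []), (6, []), (5, []), (7, []), (3, []), (2, []), (4, [])],
  [(2, []), (4, []), (3, []), (7, []), (5, []), (6, []), (1, []), (0, [])],
  [(3, []), (5, []), (7, []), (0, []), (6, []), (1, []), (4, []), (2, [])]]⟩
theorem rA3 : relP LS [459,444,417,0] (schR A3) = true := by decide +kernel
def AC : Sl := ⟨[34,33,13,10,11,14,40,39,32,31,30,15,29,9], [[],
  [34],
  [33],
  [13],
  [33,34],
  [13,34],
  [34,33],
  [13,33]], [[(1, []), (0, [9,29]), (6, []), (5, []), (7, [9,29]), (3, [9,29]), (2, [9,29]), (4, [])],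
  [(2, []), (4, []), (0, []), (7, []), (1, []), (6, []), (5, []), (3, [])],
  [(3, []), (5, []), (7, []), (0, []), (6, []), (1, []), (4, []), (2, [])],
  [(0, [10]), (1, [11,10,40,39,30,29]), (2, [10]), (3, [10]), (4, [11,10,40,39,30,29]), (5, [11,10,40,39,30,29]), (6, [11,10,40,39,30,29]), (7, [10])],
  [(0, [30,9,15]), (1, [30,15]), (2, [30,9,15]), (3, [30,9,15]), (4, [30,15]), (5, [30,15]), (6, [30,15]), (7, [30,9,15])],
  [(0, [15,29]), (1, [15]), (2, [15,29]), (3, [15,29]), (4, [15]), (5, [15]), (6, [15]), (7, [15,29])],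
  [(0, [40]), (1, [10,29,10,40,39,39,31,32]), (2, [40]), (3, [40]), (4, [10,29,10,40,39,39,31,32]), (5, [10,29,10,40,39,39,31,32]), (6, [10,29,10,40,39,39,31,32]), (7, [40])],
  [(0, [39]), (1, [39,39,32]), (2, [39]), (3, [39]), (4, [39,39,32]), (5, [39,39,32]), (6, [39,39,32]), (7, [39])],
  [(0, [32]), (1, [31,15,29]), (2, [32]), (3, [32]), (4, [31,15,29]), (5, [31,15,29]), (6, [31,15,29]), (7, [32])],
  [(0, [31]), (1, [15,32]), (2, [31]), (3, [31]), (4, [15,32]), (5, [15,32]), (6, [15,32]), (7, [31])],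
  [(0, [30]), (1, [30,29]), (2, [30]), (3, [30]), (4, [30,29]), (5, [30,29]), (6, [30,29]), (7, [30])],
  [(0, [15]), (1, [29,15]), (2, [15]), (3, [15]), (4, [29,15]), (5, [29,15]), (6, [29,15]), (7, [15])],
  [(0, [29]), (1, [29]), (2, [29]), (3, [29]), (4, [29]), (5, [29]), (6, [29]), (7, [29])],
  [(0, [9]), (1, [9]), (2, [9]), (3, [9]), (4, [9]), (5, [9]), (6, [9]), (7, [9])]]⟩
theorem rAC : relP LS [459,444,417,0] (schR AC) = true := by decide +kernel
def AL : Sl := ⟨[10,11,14,40,39,32,31,30,15,29,9], [[],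
  [10],
  [11,10],
  [39,10],
  [31,10],
  [30,10],
  [15,10],
  [29,10],
  [31,11,10],
  [30,11,10],
  [9,11,10],
  [31,39,10],
  [39,31,10],
  [32,31,10],
  [30,31,10],
  [15,31,10],
  [29,31,10],
  [10,29,10],
  [10,31,11,10],
  [40,39,31,10],
  [40,15,31,10]], [[(1, []), (0, []), (2, [30,9,15]), (10, [9]), (4, [30,40,39,30,9,15]), (14, [40,39,30,31,29,15]), (6, [15]), (17, []), (18, []), (13, [30,40,39,30,31]), (3, [9]), (16, [30,39,40,39,15,31,32,29,15]), (12, [39,40,31,29,15]), (9, [39,40,39,39,30,31,15,29]), (5, [39,40,39,39,31,32,15,29]), (19, [40,39,30,31,15,29]), (11, [39,40,39,31,32]), (7, []), (8, []), (15, [39,40,39,39,31,32]), (20, [31,9,29])],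
  [(0, [30,9,15]), (2, []), (1, []), (10, [39,39,9]), (8, []), (9, []), (7, [40]), (6, [40]), (4, []), (5, []), (3, [39,30,15]), (13, [39,40,39,32,29,15]), (15, [39,40,39,32,29,15]), (11, [30,40,15,31,32,15]), (16, [40]), (12, [30,40,15,31,32,15]), (14, [40]), (17, [39,40,31,32]), (18, [30,40,39,30,9,15]), (19, [39,40,39,39,30,9,29]), (20, [40])],
  [(0, [15,29]), (2, [40]), (1, [40]), (10, [40,39,39,9]), (11, [39,40,32,9]), (6, [40]), (5, [40]), (9, []), (13, [30,40,39,39,15,31,32,15,29]), (7, []), (3, [39,40,32,9]), (4, [40,39,39,9]), (12, [39,40,39,39,30,9,29]), (8, [30,40,39,39,15,31,32,15,29]), (14, [40]), (15, [40]), (16, [40]), (18, [39,39,31,15,29]), (17, [39,30,9]), (20, [39,40,39,32,29,15]), (19, [30,40,15,31,32,15])],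
  [(0, [40]), (1, [30,9,29]), (2, [40,30,9,29]), (3, [40,32,15,29]), (9, [39,40,39,30,29]), (11, [30,40,39,15,32,9]), (13, [39,40,29,15]), (8, [30,40,30,31,9,29]), (7, [39,40,39,30,29]), (4, [30,40,30,31,9,29]), (10, [39,40,39,39]), (5, [40,39,29,15]), (19, []), (6, [40,39,39,15,32,9,15]), (17, [39,40,39,39,31,32,15,29]), (20, []), (18, [39,31,15,29]), (14, [40,39,30,31,29,15]), (16, [39,39,30,31,29,15]), (12, []), (15, [])],
  [(0, [39]), (3, []), (2, [39,39,9]), (10, [39,30,15]), (12, []), (11, [39,40,39,39,30,9,29]), (4, [40,39,39,9]), (13, [39,39,9]), (16, [30,40,39,9,29]), (8, [40,39,39,9]), (1, [39,39,9]), (15, [39,40,32,9]), (6, [39,40,32,9]), (14, [30,40,39,9,29]), (7, [39,40,39,32,29,15]), (5, [30,40,39,9,29]), (9, [39,39,9]), (19, [30,40,39,39,15,32,29]), (17, [39,39,31,32,15,29]), (18, [30,39,40,39,39,15,31,32]), (20, [39,15,32,9,29])],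
  [(0, [32]), (2, [39,40,39,39,30,9,29]), (1, [39,40,39,39,30,9,29]), (10, [39,40,39,32,29,15]), (13, []), (5, [39,40,39,39,30,9,29]), (6, [39,40,39,39,30,9,29]), (7, [39,40,39,39,30,9,29]), (11, [30,40,15,31,32,15]), (9, [39,40,39,39,30,9,29]), (3, [30,40,15,31,32,15]), (8, [39,40,39,32,29,15]), (14, [39,39,9]), (4, []), (12, [39,30,15]), (16, [30,40,39,39,15,31,32,15,29]), (15, [30,40,39,39,15,31,32,15,29]), (20, [39,40,31,32,29]), (19, [30,31,15,29]), (18, [30,31,15,29]), (17, [30,39,40,30,31,9,15])],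
  [(0, [31]), (4, []), (8, []), (11, []), (10, []), (12, [30,40,15,31,32,15]), (16, [40]), (14, [40]), (3, [39,30,15]), (15, []), (13, [39,40,39,39,30,9,29]), (2, [39,39,9]), (6, [39,40,39,32,29,15]), (1, [39,40,39,39,30,9,29]), (9, []), (7, [40]), (5, [40]), (18, [30,40,15,31,32,9,15]), (17, [30,40,39,39,32,15]), (20, [39,40,39,15,32,9,15]), (19, [39,32,9])],
  [(0, [30]), (5, []), (9, []), (7, [40,39,39,9]), (14, []), (1, []), (10, []), (3, [39,40,32,9]), (16, [40]), (2, []), (6, []), (12, [30,40,39,39,15,31,32,15,29]), (11, [30,40,39,39,15,31,32,15,29]), (15, [39,40,39,39,30,9,29]), (4, []), (13, [39,40,39,39,30,9,29]), (8, [40]), (17, [30,39,40,39,15,31,32,9,15]), (18, [30,40,39,15,32,9,15]), (19, [15,32,15]), (20, [30,40,39,39,31,9,15])],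
  [(0, [15]), (6, []), (7, [40]), (9, [39,39,9]), (15, []), (10, []), (1, []), (2, [40]), (12, [30,40,15,31,32,15]), (3, [39,30,15]), (5, []), (16, [40,39,39,9]), (8, [39,40,39,32,29,15]), (14, [39,40,39,39,30,9,29]), (13, [39,40,39,39,30,9,29]), (4, []), (11, [39,40,32,9]), (17, [15,29]), (18, [30,39,40,39,30,31,9,15]), (19, [30,40,39,39,30,31,29,15]), (20, [40,32,15,29])],
  [(0, [29]), (7, []), (6, [40]), (5, [40,39,39,9]), (16, []), (1, [40]), (10, [40]), (3, [39,30,15]), (14, [40]), (2, [40]), (9, [40]), (15, [40,39,39,9]), (8, [30,40,39,9,29]), (12, [39,40,32,9]), (13, [30,40,39,39,15,31,32,15,29]), (4, [40]), (11, [39,30,15]), (18, [30,39,40,32,29]), (17, [39,32,9,15]), (20, [30,40,39,32,9,29]), (19, [39,15,32,9,29])],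
  [(0, [9]), (3, [39,30,15]), (10, []), (1, [39,39,9]), (11, [39,30,15]), (7, [40]), (9, []), (5, [40]), (13, [39,40,39,39,30,9,29]), (6, []), (2, []), (4, [39,39,9]), (14, [39,40,39,32,29,15]), (8, [39,40,39,39,30,9,29]), (12, [30,40,15,31,32,15]), (16, [40]), (15, [40]), (17, [30,40,39,15,32,9,15]), (18, [30,39,40,39,15,31,32,9,15]), (19, [40]), (20, [30,40,39,39,15,31,32,15,29])]]⟩
theorem rAL : relP LS [459,444,417,0] (schR AL) = true := by decide +kernel
def A1 : Sl := ⟨[40,39,32,31,30,15,29,9], [[],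
  [40],
  [39,40],
  [30,40],
  [30,39,40]], [[(1, []), (0, []), (3, [30,31,15]), (2, [31,9]), (4, [30,9])],
  [(0, [39]), (2, []), (3, [39,15,32]), (1, [39,39,31,9]), (4, [39,39,31,9])],
  [(0, [32]), (1, [15,32,29]), (2, [9]), (3, [15,32,15]), (4, [32,15,29])],
  [(0, [31]), (2, [39,32,29]), (1, [39,39,15,31,32,15]), (4, [39,30]), (3, [39,39,30,31,15])],
  [(0, [30]), (3, []), (4, []), (1, []), (2, [])],
  [(0, [15]), (3, [32,9]), (4, [15,29]), (1, [32,9]), (2, [15,29])],
  [(0, [29]), (3, [15,32,9,15]), (4, [30,15]), (1, [30,9,29]), (2, [15,32,15])],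
  [(0, [9]), (1, [32,29,15]), (2, [32,9]), (3, [32,29,15]), (4, [32,9])]]⟩
theorem rA1 : relP LS [459,444,417,0] (schR A1) = true := by decide +kernel
def A2 : Sl := ⟨[39,32,31,30,15,29,9], [[],
  [39],
  [39,39]], [[(1, []), (2, []), (0, [])],
  [(0, [32]), (1, [32,29,15]), (2, [29,15])],
  [(0, [31]), (1, [15,32,9]), (2, [15,31,32,9])],
  [(0, [30]), (1, [31,29]), (2, [30,31,29])],
  [(0, [15]), (1, [30,31,15,29]), (2, [30,31,9,29])],
  [(0, [29]), (1, [15,31,32,15,29]), (2, [31,32])],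
  [(0, [9]), (1, [30,15]), (2, [30,9,15])]]⟩
theorem rA2 : relP LS [459,444,417,0] (schR A2) = true := by decide +kernel
def CT : List Sl := [A13, A9, A6, A3]
theorem rCT : ∀ e ∈ CT.flatMap schR, evw (vL LS) e.1 = evw (vL LS) e.2 :=
  (List.forall_mem_append.2 ⟨of_relP base hLS rA13, (List.forall_mem_append.2 ⟨of_relP base hLS rA9, (List.forall_mem_append.2 ⟨of_relP base hLS rA6, (List.forall_mem_append.2 ⟨of_relP base hLS rA3, fun _ h => absurd h List.not_mem_nil⟩)⟩)⟩)⟩)
theorem oCT : schOK CT = true := by decide +kernel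
def CK : List Sl := [A9, A6, A3]
theorem rCK : ∀ e ∈ CK.flatMap schR, evw (vL LS) e.1 = evw (vL LS) e.2 :=
  (List.forall_mem_append.2 ⟨of_relP base hLS rA9, (List.forall_mem_append.2 ⟨of_relP base hLS rA6, (List.forall_mem_append.2 ⟨of_relP base hLS rA3, fun _ h => absurd h List.not_mem_nil⟩)⟩)⟩)
theorem oCK : schOK CK = true := by decide +kernel
def CU : List Sl := [A6, A3]
theorem rCU : ∀ e ∈ CU.flatMap schR, evw (vL LS) e.1 = evw (vL LS) e.2 :=
  (List.forall_mem_append.2 ⟨of_relP base hLS rA6, (List.forall_mem_append.2 ⟨of_relP base hLS rA3, fun _ h => absurd h List.not_mem_nil⟩)⟩)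
theorem oCU : schOK CU = true := by decide +kernel
def CC : List Sl := [AC, AL, A1, A2, A6, A3]
theorem rCC : ∀ e ∈ CC.flatMap schR, evw (vL LS) e.1 = evw (vL LS) e.2 :=
  (List.forall_mem_append.2 ⟨of_relP base hLS rAC, (List.forall_mem_append.2 ⟨of_relP base hLS rAL, (List.forall_mem_append.2 ⟨of_relP base hLS rA1, (List.forall_mem_append.2 ⟨of_relP base hLS rA2, (List.forall_mem_append.2 ⟨of_relP base hLS rA6, (List.forall_mem_append.2 ⟨of_relP base hLS rA3, fun _ h => absurd h List.not_mem_nil⟩)⟩)⟩)⟩)⟩)⟩)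
theorem oCC : schOK CC = true := by decide +kernel
def CL : List Sl := [AL, A1, A2, A6, A3]
theorem rCL : ∀ e ∈ CL.flatMap schR, evw (vL LS) e.1 = evw (vL LS) e.2 :=
  (List.forall_mem_append.2 ⟨of_relP base hLS rAL, (List.forall_mem_append.2 ⟨of_relP base hLS rA1, (List.forall_mem_append.2 ⟨of_relP base hLS rA2, (List.forall_mem_append.2 ⟨of_relP base hLS rA6, (List.forall_mem_append.2 ⟨of_relP base hLS rA3, fun _ h => absurd h List.not_mem_nil⟩)⟩)⟩)⟩)⟩)
theorem oCL : schOK CL = true := by decide +kernel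
def CK5_0 : Sl := ⟨[41,33,13], [[],
  [41],
  [41,41],
  [41,41,41],
  [41,41,41,41]], [[(1, []), (2, []), (3, []), (4, []), (0, [])],
  [(0, [33]), (1, [33]), (2, [33]), (3, [33]), (4, [33])],
  [(0, [13]), (1, [13]), (2, [13]), (3, [13]), (4, [13])]]⟩
theorem rCK5_0 : relP LS [459,444,417,0] (schR CK5_0) = true := by decide +kernel
def CK5_1 : Sl := ⟨[33,13], [[],
  [33],
  [13],
  [13,33]], [[(1, []), (0, []), (3, []), (2, [])],
  [(2, []), (3, []), (0, []), (1, [])]]⟩
theorem rCK5_1 : relP LS [459,444,417,0] (schR CK5_1) = true := by decide +kernel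
def CK5 : List Sl := [CK5_0, CK5_1]
theorem rCK5 : ∀ e ∈ CK5.flatMap schR, evw (vL LS) e.1 = evw (vL LS) e.2 :=
  (List.forall_mem_append.2 ⟨of_relP base hLS rCK5_0, (List.forall_mem_append.2 ⟨of_relP base hLS rCK5_1, fun _ h => absurd h List.not_mem_nil⟩)⟩)
theorem oCK5 : schOK CK5 = true := by decide +kernel
def CP5_0 : Sl := ⟨[41], [[],
  [41],
  [41,41],
  [41,41,41],
  [41,41,41,41]], [[(1, []), (2, []), (3, []), (4, []), (0, [])]]⟩
theorem rCP5_0 : relP LS [459,444,417,0] (schR CP5_0) = true := by decide +kernel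
def CP5 : List Sl := [CP5_0]
theorem rCP5 : ∀ e ∈ CP5.flatMap schR, evw (vL LS) e.1 = evw (vL LS) e.2 :=
  (List.forall_mem_append.2 ⟨of_relP base hLS rCP5_0, fun _ h => absurd h List.not_mem_nil⟩)
theorem oCP5 : schOK CP5 = true := by decide +kernel
def CK7_0 : Sl := ⟨[43,42,33,13], [[],
  [43],
  [43,43]], [[(1, []), (2, []), (0, [])],
  [(0, [42]), (1, [42]), (2, [42])],
  [(0, [33]), (1, [13,33]), (2, [13])],
  [(0, [13]), (1, [33]), (2, [13,33])]]⟩
theorem rCK7_0 : relP LS [459,444,417,0] (schR CK7_0) = true := by decide +kernel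
def CK7_1 : Sl := ⟨[42,33,13], [[],
  [42],
  [33],
  [13],
  [42,42],
  [33,42],
  [13,42],
  [13,33],
  [42,42,42],
  [33,42,42],
  [13,42,42],
  [13,33,42],
  [42,42,42,42],
  [33,42,42,42],
  [13,42,42,42],
  [13,33,42,42],
  [42,42,42,42,42],
  [33,42,42,42,42],
  [13,42,42,42,42],
  [13,33,42,42,42],
  [42,42,42,42,42,42],
  [33,42,42,42,42,42],
  [13,42,42,42,42,42],
  [13,33,42,42,42,42],
  [33,42,42,42,42,42,42],
  [13,42,42,42,42,42,42],
  [13,33,42,42,42,42,42],
  [13,33,42,42,42,42,42,42]], [[(1, []), (4, []), (5, []), (6, []), (8, []), (9, []), (10, []), (11, []), (12, []), (13, []), (14, []), (15, []), (16, []), (17, []), (18, []), (19, []), (20, []), (21, []), (22, []), (23, []), (0, []), (24, []), (25, []), (26, []), (2, []), (3, []), (27, []), (7, [])],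
  [(2, []), (5, []), (0, []), (7, []), (9, []), (1, []), (11, []), (3, []), (13, []), (4, []), (15, []), (6, []), (17, []), (8, []), (19, []), (10, []), (21, []), (12, []), (23, []), (14, []), (24, []), (16, []), (26, []), (18, []), (20, []), (27, []), (22, []), (25, [])],
  [(3, []), (6, []), (7, []), (0, []), (10, []), (11, []), (1, []), (2, []), (14, []), (15, []), (4, []), (5, []), (18, []), (19, []), (8, []), (9, []), (22, []), (23, []), (12, []), (13, []), (25, []), (26, []), (16, []), (17, []), (27, []), (20, []), (21, []), (24, [])]]⟩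
theorem rCK7_1 : relP LS [459,444,417,0] (schR CK7_1) = true := by decide +kernel
def CK7 : List Sl := [CK7_0, CK7_1]
theorem rCK7 : ∀ e ∈ CK7.flatMap schR, evw (vL LS) e.1 = evw (vL LS) e.2 :=
  (List.forall_mem_append.2 ⟨of_relP base hLS rCK7_0, (List.forall_mem_append.2 ⟨of_relP base hLS rCK7_1, fun _ h => absurd h List.not_mem_nil⟩)⟩)
theorem oCK7 : schOK CK7 = true := by decide +kernel
def CP7_0 : Sl := ⟨[42], [[],
  [42],
  [42,42],
  [42,42,42],
  [42,42,42,42],
  [42,42,42,42,42],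
  [42,42,42,42,42,42]], [[(1, []), (2, []), (3, []), (4, []), (5, []), (6, []), (0, [])]]⟩
theorem rCP7_0 : relP LS [459,444,417,0] (schR CP7_0) = true := by decide +kernel
def CP7 : List Sl := [CP7_0]
theorem rCP7 : ∀ e ∈ CP7.flatMap schR, evw (vL LS) e.1 = evw (vL LS) e.2 :=
  (List.forall_mem_append.2 ⟨of_relP base hLS rCP7_0, fun _ h => absurd h List.not_mem_nil⟩)
theorem oCP7 : schOK CP7 = true := by decide +kernel
def ST : List ℕ := [38,37,36,35,34,33,13,32,31,30,15,29,9]
def PT : List (ℕ × List ℕ) := [(44, [35,31,31,30,34]), (45, [37,33,36,29,33,29]), (46, [38,33,36,37,35,13,37,31])]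
theorem knT : ∀ l ∈ slpS PT ST, vL LS l ∈ (gen (vL LS) ST) :=
  slp_mem base hLS _ (fun _ h => mem_gen _ h) (by decide +kernel)
theorem leT : (gen (vL LS) ST) ≤ (H71.Suz.ρ).range := gen_le_of hLS (by decide +kernel)
instance finT : Finite (gen (vL LS) ST) := Finite.of_injective _ (Subgroup.inclusion_injective leT)
noncomputable def DT_0 : ℕ := 0xe001c0007fff03f00703ffff1ff1c7fffe3f1ff1fffc0e381f8fff0071c00071ffff8000e07fffe38fc71ff1fffc01f803fe07e38ff8e00e00e07fff038038fc71ff1c71cd9471f8ff81ffe00000e3fe3f000000ff81ffff8fffe38ffdac0e38038ff8e0003ffff0071f803803ffff1c7fc7fffe3afbfffffc0003f1f7fe380000fc0fff1c7ffffffffffc7fff1ff1ff1ff007038e000004c003fe38e383aafffffffff0001f8e1a1c71c7ff81ffff81f803fff81fffffe071c7e071ff1ff0415ffffffffe000071f81ff059dc01fc607007e3fff8fffe080fc737ffc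
noncomputable def ST_0 : Tr := (.leaf (nat_lit 0) (nat_lit 0))
noncomputable def vT_0 : Lv := ⟨(nat_lit 2), DT_0, 1024, wd LS [31,38,32,29,9,34,30,15,37,36,33,35,13], [0,1,2,3,4,6,7,8,10,11,0], ST_0, true, (nat_lit 0), (nat_lit 0), 0, 0, 0, []⟩
noncomputable def DT_1 : ℕ := 0x80000000000800000000000000000000000000000000000008000000000000000000000000000000000000000000000000010000000000000000000000000000000000000000000000000000000000000000000000000000000000000000000000000000000000000000000000000000000000000000000000000000000000000000000000000000000000000000000000000000000000000000000000000000000000010008001000000000020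
noncomputable def ST_1 : Tr := (.leaf (nat_lit 0) (nat_lit 0))
noncomputable def vT_1 : Lv := ⟨(nat_lit 5), DT_1, 8, wd LS [46,45,44], [0,1,2], ST_1, true, (nat_lit 0), (nat_lit 0), 0, 0, 0, []⟩
noncomputable def LT : List Lv := [vT_0, vT_1]
theorem lokT : LOK 1792 (gen (vL LS) ST) LT :=
  (LOK.cons (hLS.wdK knT (w := [31,38,32,29,9,34,30,15,37,36,33,35,13]) (by decide +kernel))
  (LOK.cons (hLS.wdK knT (w := [46,45,44]) (by decide +kernel))
  LOK.nil))
theorem lbT_0 : lbLv 11 1792 vT_0 [vT_1] = true := by decide +kernel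
theorem lbT_1 : lbLv 11 1792 vT_1 [] = true := by decide +kernel
theorem lbT : LB 11 1792 LT := ⟨lbT_0, ⟨lbT_1, trivial⟩⟩
theorem lowT : 8192 ≤ Nat.card (gen (vL LS) ST) := (by decide +kernel : 8192 ≤ prodN LT).trans (lb_le _ _ lokT lbT)
def SK : List ℕ := [34,33,13,32,31,30,15,29,9]
def PK : List (ℕ × List ℕ) := [(63, [34,9,31,34]), (64, [34,13,31,15,34])]
theorem knK : ∀ l ∈ slpS PK SK, vL LS l ∈ (gen (vL LS) SK) :=
  slp_mem base hLS _ (fun _ h => mem_gen _ h) (by decide +kernel)
theorem leK : (gen (vL LS) SK) ≤ (H71.Suz.ρ).range := gen_le_of hLS (by decide +kernel)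
instance finK : Finite (gen (vL LS) SK) := Finite.of_injective _ (Subgroup.inclusion_injective leK)
noncomputable def DK_0 : ℕ := 0x600140003aee035006033bb61b6145db6c2e1ad0ee780c30170d76006180006176bb0000c06dadc30d861b6173ac01b001ec06c30da8a00c00c06d6e030000c061801800000051a8ba81adc00000c35a1d000000a00186628c33000000000a300307b0600035bad006180028036cc0180cc00c0000000000000000000000000000d40bb6186db5baedb6cc3b6e1b60db146000018000000000000000000000db5cf67b3000000000186186db019edb01b0036b701b6a35a050c36000ed0d80000eebaecde60000000000000000000000600561bb580dd600000002bac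
noncomputable def SK_0 : Tr := (.leaf (nat_lit 0) (nat_lit 0))
noncomputable def vK_0 : Lv := ⟨(nat_lit 2), DK_0, 512, wd LS [31,29,15,32,34,30,9,33,13], [0,1,2,3,4,5,7,8,6,1], SK_0, true, (nat_lit 0), (nat_lit 0), 0, 0, 0, []⟩
noncomputable def LK : List Lv := [vK_0]
theorem lokK : LOK 1792 (gen (vL LS) SK) LK :=
  (LOK.cons (hLS.wdK knK (w := [31,29,15,32,34,30,9,33,13]) (by decide +kernel))
  LOK.nil)
theorem lbK_0 : lbLv 11 1792 vK_0 [] = true := by decide +kernel
theorem lbK : LB 11 1792 LK := ⟨lbK_0, trivial⟩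
theorem lowK : 512 ≤ Nat.card (gen (vL LS) SK) := (by decide +kernel : 512 ≤ prodN LK).trans (lb_le _ _ lokK lbK)
def SU : List ℕ := [32,31,30,15,29,9]
def PU : List (ℕ × List ℕ) := []
theorem knU : ∀ l ∈ slpS PU SU, vL LS l ∈ (gen (vL LS) SU) :=
  slp_mem base hLS _ (fun _ h => mem_gen _ h) (by decide +kernel)
theorem leU : (gen (vL LS) SU) ≤ (H71.Suz.ρ).range := gen_le_of hLS (by decide +kernel)
instance finU : Finite (gen (vL LS) SU) := Finite.of_injective _ (Subgroup.inclusion_injective leU)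
noncomputable def DU_0 : ℕ := 0x40000084001000000000004000120000000004200020000020004100000000100000004000000000120000040100000000020400000000004000000000804000000000000020000100000000804000000000000000000801000000000010020000400000000000000000020800000040000000000000000000000000000000000100004000000820000004100009000000008000000000000000000000000024200000000000000000000104000000024020000800000000000040048000000800800200000000000000000000000000001000008200000000004
noncomputable def SU_0 : Tr := (.leaf (nat_lit 0) (nat_lit 0))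
noncomputable def vU_0 : Lv := ⟨(nat_lit 2), DU_0, 64, wd LS [29,31,9,15,30,32], [0,1,2,3,4,5], SU_0, true, (nat_lit 0), (nat_lit 0), 0, 0, 0, []⟩
noncomputable def LU : List Lv := [vU_0]
theorem lokU : LOK 1792 (gen (vL LS) SU) LU :=
  (LOK.cons (hLS.wdK knU (w := [29,31,9,15,30,32]) (by decide +kernel))
  LOK.nil)
theorem lbU_0 : lbLv 11 1792 vU_0 [] = true := by decide +kernel
theorem lbU : LB 11 1792 LU := ⟨lbU_0, trivial⟩
theorem lowU : 64 ≤ Nat.card (gen (vL LS) SU) := (by decide +kernel : 64 ≤ prodN LU).trans (lb_le _ _ lokU lbU)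
def SL : List ℕ := [10,11,14,40,39,32,31,30,15,29,9]
def PL : List (ℕ × List ℕ) := [(47, [39,40,32,11,32,30,10,29,9]), (48, [31,10,11,32,39,15])]
theorem knL : ∀ l ∈ slpS PL SL, vL LS l ∈ (gen (vL LS) SL) :=
  slp_mem base hLS _ (fun _ h => mem_gen _ h) (by decide +kernel)
theorem leL : (gen (vL LS) SL) ≤ (H71.Suz.ρ).range := gen_le_of hLS (by decide +kernel)
instance finL : Finite (gen (vL LS) SL) := Finite.of_injective _ (Subgroup.inclusion_injective leL)
noncomputable def DL_0 : ℕ := 0x3fffffffffffffffffffffffffffffffffffffffffffffffffffffffffffffffffffffffffffffffffffffffffffffffffffffffffffffffffffffffffffffff007e07fc01c000003ffffffffffffffffffffffffffffe07fc7e38e3f00000003fffffffffffffffffffffffc7fffffffc0fc0fc01c000000000003ffc000000003ffc0fffffffffffffffffffc7ffffffffffc71c0fff007000000000000000000fffffffff0000000001fffffffffffff8ff8fffffffffe3fe3f1c7e00fff1f80001ffffffffe0000000000000000000003f1fffffff81ffe00000003ffc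
noncomputable def SL_0 : Tr := (.leaf (nat_lit 0) (nat_lit 0))
noncomputable def vL_0 : Lv := ⟨(nat_lit 2), DL_0, 1260, wd LS [10,40,31,39,29,32,15,30,9,14,11], [0,1,2,3,4,5,10,6,7,1,0,2,4,0], SL_0, true, (nat_lit 0), (nat_lit 0), 0, 0, 0, []⟩
noncomputable def DL_1 : ℕ := 0x3ffc000000000000000000000000000000000000000000000000000000000000000000000000000000000000000000000000000000000000000000000000000000000000000000000000000000000000000000000000000000000000000000000000000000000000000000000000000000000000000000000000000000000000000000000000000000000000000000000000003c000000000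
noncomputable def SL_1 : Tr := (.leaf (nat_lit 0) (nat_lit 0))
noncomputable def vL_1 : Lv := ⟨(nat_lit 38), DL_1, 16, wd LS [48,47], [0,1,0,1,0,1], SL_1, true, (nat_lit 0), (nat_lit 0), 0, 0, 0, []⟩
noncomputable def LL : List Lv := [vL_0, vL_1]
theorem lokL : LOK 1792 (gen (vL LS) SL) LL :=
  (LOK.cons (hLS.wdK knL (w := [10,40,31,39,29,32,15,30,9,14,11]) (by decide +kernel))
  (LOK.cons (hLS.wdK knL (w := [48,47]) (by decide +kernel))
  LOK.nil))
theorem lbL_0 : lbLv 11 1792 vL_0 [vL_1] = true := by decide +kernel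
theorem lbL_1 : lbLv 11 1792 vL_1 [] = true := by decide +kernel
theorem lbL : LB 11 1792 LL := ⟨lbL_0, ⟨lbL_1, trivial⟩⟩
theorem lowL : 20160 ≤ Nat.card (gen (vL LS) SL) := (by decide +kernel : 20160 ≤ prodN LL).trans (lb_le _ _ lokL lbL)
def SC : List ℕ := [34,33,13,10,11,14,40,39,32,31,30,15,29,9]
def PC : List (ℕ × List ℕ) := [(49, [34,33,31,10,33,15,11,13]), (50, [34,14,39,9]), (51, [33,14,10,40,10,32,40]), (52, [10,39,11,9]), (53, [9,10,9])]
theorem knC : ∀ l ∈ slpS PC SC, vL LS l ∈ (gen (vL LS) SC) :=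
  slp_mem base hLS _ (fun _ h => mem_gen _ h) (by decide +kernel)
theorem leC : (gen (vL LS) SC) ≤ (H71.Suz.ρ).range := gen_le_of hLS (by decide +kernel)
instance finC : Finite (gen (vL LS) SC) := Finite.of_injective _ (Subgroup.inclusion_injective leC)
noncomputable def DC_0 : ℕ := 0x3fffffffffffffffffffffffffffffffffffffffffffffffffffffffffffffffffffffffffffffffffffffffffffffffffffffffffffffffffffffffffffffff007e07fc01c000003ffffffffffffffffffffffffffffe07fc7e38e3f00000003fffffffffffffffffffffffc7fffffffc0fc0fc01c000000000003ffc000000003ffc0fffffffffffffffffffc7ffffffffffc71c0fff007000000000000000000fffffffff0000000001fffffffffffff8ff8fffffffffe3fe3f1c7e00fff1f80001ffffffffe0000000000000000000003f1fffffff81ffe00000003ffc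
noncomputable def SC_0 : Tr := (.leaf (nat_lit 0) (nat_lit 0))
noncomputable def vC_0 : Lv := ⟨(nat_lit 2), DC_0, 1260, wd LS [10,40,31,39,30,29,15,34,32,9,14,11,33,13], [0,1,2,3,4,5,6,13,9,12,0,5,0], SC_0, true, (nat_lit 0), (nat_lit 0), 0, 0, 0, []⟩
noncomputable def DC_1 : ℕ := 0x24804800920927ffc00000000000000000000000000001b0008186180d89388380000000000000000000000030000000031029031c36c4a840000000000000000000000000000000000000000028000000000030231000d883b6298000000000000000000000000000000000000000000006006000000000180040c30071000c0622520000000000000000000000000000000040000000120007c000000000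
noncomputable def SC_1 : Tr := (.leaf (nat_lit 0) (nat_lit 0))
noncomputable def vC_1 : Lv := ⟨(nat_lit 38), DC_1, 128, wd LS [49,51,50], [0,1,2,0,0,1,2,0,1,0,0], SC_1, true, (nat_lit 0), (nat_lit 0), 0, 0, 0, []⟩
noncomputable def LC : List Lv := [vC_0, vC_1]
theorem lokC : LOK 1792 (gen (vL LS) SC) LC :=
  (LOK.cons (hLS.wdK knC (w := [10,40,31,39,30,29,15,34,32,9,14,11,33,13]) (by decide +kernel))
  (LOK.cons (hLS.wdK knC (w := [49,51,50]) (by decide +kernel))
  LOK.nil))
theorem lbC_0 : lbLv 11 1792 vC_0 [vC_1] = true := by decide +kernel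
theorem lbC_1 : lbLv 11 1792 vC_1 [] = true := by decide +kernel
theorem lbC : LB 11 1792 LC := ⟨lbC_0, ⟨lbC_1, trivial⟩⟩
theorem lowC : 161280 ≤ Nat.card (gen (vL LS) SC) := (by decide +kernel : 161280 ≤ prodN LC).trans (lb_le _ _ lokC lbC)
def SK5 : List ℕ := [41,33,13]
def PK5 : List (ℕ × List ℕ) := []
theorem knK5 : ∀ l ∈ slpS PK5 SK5, vL LS l ∈ (gen (vL LS) SK5) :=
  slp_mem base hLS _ (fun _ h => mem_gen _ h) (by decide +kernel)
theorem leK5 : (gen (vL LS) SK5) ≤ (H71.Suz.ρ).range := gen_le_of hLS (by decide +kernel)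
instance finK5 : Finite (gen (vL LS) SK5) := Finite.of_injective _ (Subgroup.inclusion_injective leK5)
noncomputable def DK5_0 : ℕ := 0x20000000000880000000400000000000000000000010120000000000000100000000000000000000000000000000000000000000000000000000000000000000000000000000000000000000000000000000000102000820000000000000000000000000000000000000000000000000000000000000000000000000000000000000000004000000080020000002000000000000000000000000000000000000000000000000000000000000000000000000000000000000000000000000000000000000000000000000000000000000000000000000000000924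
noncomputable def SK5_0 : Tr := (.leaf (nat_lit 0) (nat_lit 0))
noncomputable def vK5_0 : Lv := ⟨(nat_lit 2), DK5_0, 20, wd LS [13,33,41], [0,1,2,2,2,2], SK5_0, true, (nat_lit 0), (nat_lit 0), 0, 0, 0, []⟩
noncomputable def LK5 : List Lv := [vK5_0]
theorem lokK5 : LOK 1792 (gen (vL LS) SK5) LK5 :=
  (LOK.cons (hLS.wdK knK5 (w := [13,33,41]) (by decide +kernel))
  LOK.nil)
theorem lbK5_0 : lbLv 11 1792 vK5_0 [] = true := by decide +kernel
theorem lbK5 : LB 11 1792 LK5 := ⟨lbK5_0, trivial⟩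
theorem lowK5 : 20 ≤ Nat.card (gen (vL LS) SK5) := (by decide +kernel : 20 ≤ prodN LK5).trans (lb_le _ _ lokK5 lbK5)
def SP5 : List ℕ := [41]
def PP5 : List (ℕ × List ℕ) := []
theorem knP5 : ∀ l ∈ slpS PP5 SP5, vL LS l ∈ (gen (vL LS) SP5) :=
  slp_mem base hLS _ (fun _ h => mem_gen _ h) (by decide +kernel)
theorem leP5 : (gen (vL LS) SP5) ≤ (H71.Suz.ρ).range := gen_le_of hLS (by decide +kernel)
instance finP5 : Finite (gen (vL LS) SP5) := Finite.of_injective _ (Subgroup.inclusion_injective leP5)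
noncomputable def DP5_0 : ℕ := 0x20000000000000000000000000000000000000000000000000000000000000000000000901000000000000000000000000000000000000000000000000000000000000000000000000000000000000000000000000000000000000001
noncomputable def SP5_0 : Tr := (.leaf (nat_lit 0) (nat_lit 0))
noncomputable def vP5_0 : Lv := ⟨(nat_lit 0), DP5_0, 5, wd LS [41], [0,0,0,0], SP5_0, true, (nat_lit 0), (nat_lit 0), 0, 0, 0, []⟩
noncomputable def LP5 : List Lv := [vP5_0]
theorem lokP5 : LOK 1792 (gen (vL LS) SP5) LP5 :=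
  (LOK.cons (hLS.wdK knP5 (w := [41]) (by decide +kernel))
  LOK.nil)
theorem lbP5_0 : lbLv 11 1792 vP5_0 [] = true := by decide +kernel
theorem lbP5 : LB 11 1792 LP5 := ⟨lbP5_0, trivial⟩
theorem lowP5 : 5 ≤ Nat.card (gen (vL LS) SP5) := (by decide +kernel : 5 ≤ prodN LP5).trans (lb_le _ _ lokP5 lbP5)
def SK7 : List ℕ := [43,42,33,13]
def PK7 : List (ℕ × List ℕ) := [(60, [33,33,33,43])]
theorem knK7 : ∀ l ∈ slpS PK7 SK7, vL LS l ∈ (gen (vL LS) SK7) :=
  slp_mem base hLS _ (fun _ h => mem_gen _ h) (by decide +kernel)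
theorem leK7 : (gen (vL LS) SK7) ≤ (H71.Suz.ρ).range := gen_le_of hLS (by decide +kernel)
instance finK7 : Finite (gen (vL LS) SK7) := Finite.of_injective _ (Subgroup.inclusion_injective leK7)
def SP7 : List ℕ := [42]
def PP7 : List (ℕ × List ℕ) := []
theorem knP7 : ∀ l ∈ slpS PP7 SP7, vL LS l ∈ (gen (vL LS) SP7) :=
  slp_mem base hLS _ (fun _ h => mem_gen _ h) (by decide +kernel)
theorem leP7 : (gen (vL LS) SP7) ≤ (H71.Suz.ρ).range := gen_le_of hLS (by decide +kernel)
instance finP7 : Finite (gen (vL LS) SP7) := Finite.of_injective _ (Subgroup.inclusion_injective leP7)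
noncomputable def DP7_0 : ℕ := 0x15000000000000000000000000000000000000000000000000000000000000000000000024000000800000000000000000000000000000000000000000000000000000000000000000000000000000000000000000000000000000001
noncomputable def SP7_0 : Tr := (.leaf (nat_lit 0) (nat_lit 0))
noncomputable def vP7_0 : Lv := ⟨(nat_lit 0), DP7_0, 7, wd LS [42], [0,0,0,0,0,0], SP7_0, true, (nat_lit 0), (nat_lit 0), 0, 0, 0, []⟩
noncomputable def LP7 : List Lv := [vP7_0]
theorem lokP7 : LOK 1792 (gen (vL LS) SP7) LP7 :=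
  (LOK.cons (hLS.wdK knP7 (w := [42]) (by decide +kernel))
  LOK.nil)
theorem lbP7_0 : lbLv 11 1792 vP7_0 [] = true := by decide +kernel
theorem lbP7 : LB 11 1792 LP7 := ⟨lbP7_0, trivial⟩
theorem lowP7 : 7 ≤ Nat.card (gen (vL LS) SP7) := (by decide +kernel : 7 ≤ prodN LP7).trans (lb_le _ _ lokP7 lbP7)
noncomputable def Oa : ℕ := 0x3ffffffffffffffffffffffffffffffffffffffffffffffffffffffffffffffffffffffffffffffffffffffffffffffffffffffffffffffffffffffffffffffffffffffffffffffffffffffffffffffffffffffffffffffffffffffffe3ffffbfffffffffffffffffffffffffffffffffffffffc7fffffefffffffffffbffffffffffdffffffffffffffffffffffffffffffffffffffffe3fffffdffffe3fffffbffffffffff6feffffffffffffffffffff8ffffffffffffffffffffffffffffffefffffffffffe9fe3fffffffefffffffffc7007e3ffffffffdc7fff7fffc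
theorem hOa : ∀ y, Oa.testBit y = true ↔ ∃ w ∈ [[9]], evw (vL LS) w y ≠ y :=
  of_movIs (m := 11) (by norm_num) hLS (by decide +kernel)
noncomputable def Oe : ℕ := 0x3ffffffffffffffffffffffffffffffffffffffffffffffffffffffffffffffffffffffffffffffffffffffffffffffffffffffffffffffffffffffffffffffffffffffffffffffffffffffffffffffffffffffffffffffffffffffffffffffffffffffffffffffffffffffffffffffffffffffffffffffffffffffffc3ffffffffffc0fffffffffffffffffffffffffffffffffffffffffffffffffffffffffffffffffffff000ffffff1ffffffffffffffffffffffffffffffffffffffffffffffffffffffffe001fffffffffffffffffe3ffffffffffffffffffffffffc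
theorem hOe : ∀ y, Oe.testBit y = true ↔ ∃ w ∈ [[13]], evw (vL LS) w y ≠ y :=
  of_movIs (m := 11) (by norm_num) hLS (by decide +kernel)
noncomputable def O5 : ℕ := 0x3fffffffffffffffffffffffffffffffffffffffffffffffffffffffffffffffffffffffffffffffffffffffffffffffffffffffffffffffffffffffffffffffffffffffffffffffffffffffffffffffffffffffffffffffffffffffffffffffffffffffffffffffffffffffffffffffffffffffffffffffffffffffffbffffffffffffffffffffffffffffffffffffffffffffffffffffffffffffffffffffffffffffffffffbffffffffffffffffffffffffffffffffffffffffffffffffffffffffffffffffffffffffffffffffffffffffffffffffffffffffffffffff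
theorem hO5 : ∀ y, O5.testBit y = true ↔ ∃ w ∈ [[41]], evw (vL LS) w y ≠ y :=
  of_movIs (m := 11) (by norm_num) hLS (by decide +kernel)
noncomputable def O7 : ℕ := 0x3fffffffffffffffffffffffffffffffffffffffffffffffffffffffffffffffffffffffffffffffffffffffffffffffffffffffffffffffffffffffffffffffffffffffffffffffffffffffffffffffffffffffffffffffffffffffffffffffffffffffffffffffffffffffffffffffffffffffffffffffffffffffffffffffffffffffffffffffffffffffffffffffffffffffffffffffffffffffffffffffffffffffffffffffffffffffffffffffffffffffffffffffffffffffffffffffffffffffffffffffffffffffffffffffffffffffffffffffffffffe3feffff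
theorem hO7 : ∀ y, O7.testBit y = true ↔ ∃ w ∈ [[42]], evw (vL LS) w y ≠ y :=
  of_movIs (m := 11) (by norm_num) hLS (by decide +kernel)
def R0 : List (List ℕ × List ℕ) := [([28], []),
  ([9,9], []),
  ([13,13], []),
  ([42,13], [13,42])]
theorem rR0 : ∀ e ∈ R0, evw (vL LS) e.1 = evw (vL LS) e.2 := of_relP base hLS (by decide +kernel)
def Re : List (List ℕ × List ℕ) := [([34,13], [13,34]),
  ([33,13], [13,33]),
  ([13,13], [13,13]),
  ([10,13], [13,10]),
  ([11,13], [13,11]),
  ([14,13], [13,14]),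
  ([40,13], [13,40]),
  ([39,13], [13,39]),
  ([32,13], [13,32]),
  ([31,13], [13,31]),
  ([30,13], [13,30]),
  ([15,13], [13,15]),
  ([29,13], [13,29]),
  ([9,13], [13,9])]
theorem rRe : ∀ e ∈ Re, evw (vL LS) e.1 = evw (vL LS) e.2 := of_relP base hLS (by decide +kernel)
def Ra : List (List ℕ × List ℕ) := [([34,9], [9,34]),
  ([33,9], [9,33]),
  ([13,9], [9,13]),
  ([32,9], [9,32]),
  ([31,9], [9,31]),
  ([30,9], [9,30]),
  ([15,9], [9,15]),
  ([29,9], [9,29]),
  ([9,9], [9,9])]
theorem rRa : ∀ e ∈ Ra, evw (vL LS) e.1 = evw (vL LS) e.2 := of_relP base hLS (by decide +kernel)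
def Rn : List (List ℕ × List ℕ) := [([34,10], [30,11,10,39,30,9,34]),
  ([34,11], [30,15,34]),
  ([34,14], [9,15,34]),
  ([34,40], [10,31,11,10,40,30,9,34]),
  ([34,39], [39,39,30,31,15,29,34]),
  ([34,32], [30,31,9,29,34]),
  ([34,31], [32,9,15,34]),
  ([34,30], [30,9,29,34]),
  ([34,15], [15,29,34]),
  ([34,29], [29,34]),
  ([34,9], [9,34]),
  ([33,10], [10,33]),
  ([33,11], [30,9,15,33]),
  ([33,14], [15,29,33]),
  ([33,40], [40,33]),
  ([33,39], [39,33]),
  ([33,32], [32,33]),
  ([33,31], [31,33]),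
  ([33,30], [30,33]),
  ([33,15], [15,33]),
  ([33,29], [29,33]),
  ([33,9], [9,33]),
  ([13,10], [10,13]),
  ([13,11], [30,9,15,13]),
  ([13,14], [15,29,13]),
  ([13,40], [40,13]),
  ([13,39], [39,13]),
  ([13,32], [32,13]),
  ([13,31], [31,13]),
  ([13,30], [30,13]),
  ([13,15], [15,13]),
  ([13,29], [29,13]),
  ([13,9], [9,13]),
  ([10,10], [10,10]),
  ([10,11], [11,10,30,9,15,10]),
  ([10,14], [11,10,40,15,29,10]),
  ([10,40], [30,9,29,10]),
  ([10,39], [9,11,10,9,10]),
  ([10,32], [11,10,39,40,39,39,15,32,29,10]),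
  ([10,31], [31,10,30,40,39,30,9,15,10]),
  ([10,30], [30,31,10,40,39,30,31,29,15,10]),
  ([10,15], [15,10,15,10]),
  ([10,29], [10,29,10,10]),
  ([10,9], [9,11,10,39,10]),
  ([11,10], [11,10,30,9,15,11]),
  ([11,11], [30,9,15,11]),
  ([11,14], [15,29,11]),
  ([11,40], [40,30,9,29,11]),
  ([11,39], [39,30,15,11]),
  ([11,32], [32,11]),
  ([11,31], [31,11]),
  ([11,30], [30,11]),
  ([11,15], [15,11]),
  ([11,29], [29,11]),
  ([11,9], [9,11]),
  ([14,10], [11,10,40,15,29,14]),
  ([14,11], [30,9,15,14]),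
  ([14,14], [15,29,14]),
  ([14,40], [40,30,9,29,14]),
  ([14,39], [39,15,32,9,29,14]),
  ([14,32], [32,14]),
  ([14,31], [30,31,9,15,14]),
  ([14,30], [30,9,14]),
  ([14,15], [9,15,14]),
  ([14,29], [9,29,14]),
  ([14,9], [9,14]),
  ([40,10], [10,40,30,9,29,40]),
  ([40,11], [15,29,40]),
  ([40,14], [30,9,15,40]),
  ([40,40], [40,40]),
  ([40,39], [30,40,30,31,15,40]),
  ([40,32], [15,32,29,40]),
  ([40,31], [30,40,39,15,29,40]),
  ([40,30], [39,40,31,9,40]),
  ([40,15], [39,40,31,32,40]),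
  ([40,29], [39,40,15,31,32,9,15,40]),
  ([40,9], [32,29,15,40]),
  ([39,10], [39,10,39,39,39]),
  ([39,11], [30,15,39]),
  ([39,14], [15,32,9,29,39]),
  ([39,40], [39,40,39,39,39]),
  ([39,39], [39,39]),
  ([39,32], [29,15,39]),
  ([39,31], [15,31,32,9,39]),
  ([39,30], [30,31,29,39]),
  ([39,15], [30,31,9,29,39]),
  ([39,29], [31,32,39]),
  ([39,9], [30,9,15,39]),
  ([32,10], [11,10,39,40,39,39,15,32,29,32]),
  ([32,11], [30,9,15,32]),
  ([32,14], [15,29,32]),
  ([32,40], [40,30,9,29,32]),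
  ([32,39], [39,29,15,32]),
  ([32,32], [32,32]),
  ([32,31], [31,9,32]),
  ([32,30], [9,15,32]),
  ([32,15], [30,9,32]),
  ([32,29], [30,29,15,32]),
  ([32,9], [9,32]),
  ([31,10], [31,10,30,31,9,15,31]),
  ([31,11], [30,9,15,31]),
  ([31,14], [30,29,31]),
  ([31,40], [39,40,39,31,32,29,31]),
  ([31,39], [39,31,32,15,31]),
  ([31,32], [32,9,31]),
  ([31,31], [31,31]),
  ([31,30], [30,9,31]),
  ([31,15], [9,15,31]),
  ([31,29], [30,29,15,31]),
  ([31,9], [9,31]),
  ([30,10], [30,10,30,30]),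
  ([30,11], [30,9,15,30]),
  ([30,14], [29,15,30]),
  ([30,40], [30,40,30,30]),
  ([30,39], [39,30,31,29,30]),
  ([30,32], [15,32,15,30]),
  ([30,31], [31,9,30]),
  ([30,30], [30,30]),
  ([30,15], [15,30]),
  ([30,29], [9,29,30]),
  ([30,9], [9,30]),
  ([15,10], [15,10,15,15]),
  ([15,11], [30,9,15,15]),
  ([15,14], [29,15,15]),
  ([15,40], [30,40,32,9,15,15]),
  ([15,39], [39,30,31,9,29,15]),
  ([15,32], [15,32,15,15]),
  ([15,31], [31,9,15]),
  ([15,30], [30,15]),
  ([15,15], [15,15]),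
  ([15,29], [9,29,15]),
  ([15,9], [9,15]),
  ([29,10], [29,10,9,29,29]),
  ([29,11], [30,9,15,29]),
  ([29,14], [29,15,29]),
  ([29,40], [30,40,15,32,15,29,29]),
  ([29,39], [39,15,31,32,15,29]),
  ([29,32], [15,32,15,29]),
  ([29,31], [30,31,15,29]),
  ([29,30], [30,9,29]),
  ([29,15], [9,15,29]),
  ([29,29], [29,29]),
  ([29,9], [9,29]),
  ([9,10], [39,10,39,30,9,15,9]),
  ([9,11], [30,9,15,9]),
  ([9,14], [15,29,9]),
  ([9,40], [40,32,15,29,9]),
  ([9,39], [39,30,9,15,9]),
  ([9,32], [32,9]),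
  ([9,31], [31,9]),
  ([9,30], [30,9]),
  ([9,15], [15,9]),
  ([9,29], [29,9]),
  ([9,9], [9,9])]
theorem rRn : ∀ e ∈ Rn, evw (vL LS) e.1 = evw (vL LS) e.2 := of_relP base hLS (by decide +kernel)
end H88.SuzEnd
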