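import Cfsg.Agent.H88.ThD
/-! Kernel checks. -/
set_option maxRecDepth 1000000
set_option Elab.async false
set_option linter.unusedVariables false
namespace H88.ThT
open H73
open H71 (Tr nth evw linv gen maskL winv mkRule Sat)
theorem c_env : envOK (mul2 24) (ones (Nat.succ 24) 24) 576 CV (2 * 3) 11 = true := by decide +kernel
theorem c_relC : relsOne (mul2 24) (ones (Nat.succ 24) 24) 576 CV (maskL LL) (Ths.R.take 27) = true := by decide +kernel
theorem c_wa : wordsL (mul2 24) (ones (Nat.succ 24) 24) 576 CV (maskL LL) PA wa = true := by decide +kernel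
theorem c_wb : wordsL (mul2 24) (ones (Nat.succ 24) 24) 576 CV (maskL LL) PB wb = true := by decide +kernel
theorem c_inv : band (beqL (mkRule 6 RR 221186) (4 :: ([8,6] ++ 4 :: []))) (band (inM (maskL LL) []) (inM (maskL LL) [8,6])) = true := by decide +kernel
theorem c_wa0 : wordsL (mul2 24) (ones (Nat.succ 24) 24) 576 CV (maskL LL) PA (wa.take 6) = true := by decide +kernel
theorem c_conj : conjW 6 4 (wa.take 6) wb (([229380,237572,245764,278532,286738,262154] : List ℕ).map (mkRule 6 RR)) = true := by decide +kernel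
theorem c_slpA0 : slpT (mul2 24) (ones (Nat.succ 24) 24) 576 PA 498 18 PR 7 491 = true := by decide +kernel
theorem c_slpB0 : slpT (mul2 24) (ones (Nat.succ 24) 24) 576 PB 498 18 PR 7 491 = true := by decide +kernel
theorem c_sorted : sortedOK (canM (mul2 24) (ones (Nat.succ 24) 24)) 24 T 17199 = true := by decide +kernel
theorem c_chain : chainOK (relR (mul2 24)) 576 PA 498 24 T 17199 1 KC [] = true := by decide +kernel
theorem c_kfix : fixOK (relR (mul2 24)) 576 PA 7 be 4 KF = true := by decide +kernel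
theorem c_rw : wordsL (mul2 24) (ones (Nat.succ 24) 24) 576 CV (maskL LL) RT RW = true := by decide +kernel
theorem c_rfix : fixOK (relR (mul2 24)) 576 RT 1 be 4 RF = true := by decide +kernel
theorem c_valid : validOK (mul2 24) (ones (Nat.succ 24) 24) 576 CV (maskL LL) dd.kA dd.VT dd.nv vw = true := by decide +kernel
theorem c_defs : defsOK (mul2 24) (ones (Nat.succ 24) 24) 576 CV (maskL LL) 4 dd.VT dd.defs dw uw = true := by decide +kernel
theorem c_rels : relsOK (mul2 24) (spl (mul2 24) (ones (Nat.succ 24) 24) 576 CV 4 5 (evL (mul2 24) (ones (Nat.succ 24) 24) 576 CV []) (evL (mul2 24) (ones (Nat.succ 24) 24) 576 CV [8,6])) (maskL (4 :: 5 :: LL)) (([221191,294920,270354,294928,253972,311340,311316,294915,253962,270340,294923,311304,270386,253958,270372,253968] : List ℕ).map (mkRule 6 RR)) dd.rels = true := by decide +kernel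
theorem c_subs : subsOK (spl (mul2 24) (ones (Nat.succ 24) 24) 576 CV 4 5 (evL (mul2 24) (ones (Nat.succ 24) 24) 576 CV []) (evL (mul2 24) (ones (Nat.succ 24) 24) 576 CV [8,6])) (maskL (4 :: 5 :: LL)) subW dd.subs = true := by decide +kernel
theorem c_dce0 : dd.chkRange TJ 0 1413 = true := by decide +kernel
theorem c_dce1 : dd.chkRange TJ 1413 1029 = true := by decide +kernel
theorem c_dce2 : dd.chkRange TJ 2442 965 = true := by decide +kernel
theorem c_dce3 : dd.chkRange TJ 3407 1048 = true := by decide +kernel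
theorem c_dce4 : dd.chkRange TJ 4455 916 = true := by decide +kernel
theorem c_for0_0 : forestOK (relR (mul2 24)) (labE 576 F ML0) (rIdx 11 RI0 17199) 24 T 21 Rc0 5 1 17199 20 1 0 538 = true := by decide +kernel
theorem c_lab0 : labsOK F 5371 (fld LV 0) ML0 5 = true := by decide +kernel
theorem c_root0_0 : rootsOK (relR (mul2 24)) (mul2 24) 576 F 5371 (fld LV 0) LV 11 be 24 T 17199 RT 1 11 RI0 1 ET0 0 1 = true := by decide +kernel
theorem c_tot0 : Nat.beq (rowTot (eCol 1 ET0 1 11) 1 4398046511104 21 Rc0 5 1 17199 20) (nth tots 0 0) = true := by decide +kernel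
theorem c_for1_0 : forestOK (relR (mul2 24)) (labE 576 F ML1) (rIdx 14 RI1 17199) 24 T 23 Rc1 2 1 17199 16 12 0 538 = true := by decide +kernel
theorem c_lab1 : labsOK F 5371 (fld LV 1) ML1 2 = true := by decide +kernel
theorem c_root1_0 : rootsOK (relR (mul2 24)) (mul2 24) 576 F 5371 (fld LV 1) LV 11 be 24 T 17199 RT 1 14 RI1 13 ET1 0 12 = true := by decide +kernel
theorem c_tot1 : Nat.beq (rowTot (eCol 13 ET1 1 11) 1 4398046511104 23 Rc1 2 1 17199 16) (nth tots 0 1) = true := by decide +kernel
theorem c_for2_0 : forestOK (relR (mul2 24)) (labE 576 F ML2) (rIdx 14 RI2 17199) 24 T 23 Rc2 2 1 17199 18 9 0 538 = true := by decide +kernel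
theorem c_lab2 : labsOK F 5371 (fld LV 2) ML2 2 = true := by decide +kernel
theorem c_root2_0 : rootsOK (relR (mul2 24)) (mul2 24) 576 F 5371 (fld LV 2) LV 11 be 24 T 17199 RT 1 14 RI2 16 ET2 0 9 = true := by decide +kernel
theorem c_tot2 : Nat.beq (rowTot (eCol 16 ET2 1 11) 1 4398046511104 23 Rc2 2 1 17199 18) (nth tots 0 2) = true := by decide +kernel
end H88.ThT
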