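import Cfsg.Agent.H88.ThD
/-! Kernel checks. -/
set_option maxRecDepth 1000000
set_option Elab.async false
set_option linter.unusedVariables false
namespace H88.ThT
open H73
open H71 (Tr nth evw linv gen maskL winv mkRule Sat)
theorem c_for3_0 : forestOK (relR (mul2 24)) (labE 576 F ML3) (rIdx 15 RI3 17199) 24 T 26 Rc3 3 1 17199 11 97 0 538 = true := by decide +kernel
theorem c_lab3 : labsOK F 5371 (fld LV 3) ML3 3 = true := by decide +kernel
theorem c_root3_0 : rootsOK (relR (mul2 24)) (mul2 24) 576 F 5371 (fld LV 3) LV 11 be 24 T 17199 RT 1 15 RI3 16 ET3 0 97 = true := by decide +kernel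
theorem c_tot3 : Nat.beq (rowTot (eCol 16 ET3 1 11) 1 4398046511104 26 Rc3 3 1 17199 11) (nth tots 0 3) = true := by decide +kernel
theorem c_for4_0 : forestOK (relR (mul2 24)) (labE 576 F ML4) (rIdx 15 RI4 17199) 24 T 25 Rc4 3 1 17199 9 53 0 538 = true := by decide +kernel
theorem c_lab4 : labsOK F 5371 (fld LV 4) ML4 3 = true := by decide +kernel
theorem c_root4_0 : rootsOK (relR (mul2 24)) (mul2 24) 576 F 5371 (fld LV 4) LV 11 be 24 T 17199 RT 1 15 RI4 16 ET4 0 53 = true := by decide +kernel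
theorem c_tot4 : Nat.beq (rowTot (eCol 16 ET4 1 11) 1 4398046511104 25 Rc4 3 1 17199 9) (nth tots 0 4) = true := by decide +kernel
theorem c_for5_0 : forestOK (relR (mul2 24)) (labE 576 F ML5) (rIdx 15 RI5 17199) 24 T 27 Rc5 2 1 17199 9 358 0 538 = true := by decide +kernel
theorem c_lab5 : labsOK F 5371 (fld LV 5) ML5 2 = true := by decide +kernel
theorem c_root5_0 : rootsOK (relR (mul2 24)) (mul2 24) 576 F 5371 (fld LV 5) LV 11 be 24 T 17199 RT 1 15 RI5 16 ET5 0 358 = true := by decide +kernel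
theorem c_tot5 : Nat.beq (rowTot (eCol 16 ET5 1 11) 1 4398046511104 27 Rc5 2 1 17199 9) (nth tots 0 5) = true := by decide +kernel
theorem c_for6_0 : forestOK (relR (mul2 24)) (labE 576 F ML6) (rIdx 15 RI6 17199) 24 T 29 Rc6 2 1 17199 3 2975 0 538 = true := by decide +kernel
theorem c_lab6 : labsOK F 5371 (fld LV 6) ML6 2 = true := by decide +kernel
theorem c_root6_0 : rootsOK (relR (mul2 24)) (mul2 24) 576 F 5371 (fld LV 6) LV 11 be 24 T 17199 RT 1 15 RI6 16 ET6 0 2975 = true := by decide +kernel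
theorem c_tot6 : Nat.beq (rowTot (eCol 16 ET6 1 11) 1 4398046511104 29 Rc6 2 1 17199 3) (nth tots 0 6) = true := by decide +kernel
theorem c_for7_0 : forestOK (relR (mul2 24)) (labE 576 F ML7) (rIdx 15 RI7 17199) 24 T 27 Rc7 3 1 17199 11 158 0 538 = true := by decide +kernel
theorem c_lab7 : labsOK F 5371 (fld LV 7) ML7 3 = true := by decide +kernel
theorem c_root7_0 : rootsOK (relR (mul2 24)) (mul2 24) 576 F 5371 (fld LV 7) LV 11 be 24 T 17199 RT 1 15 RI7 16 ET7 0 158 = true := by decide +kernel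
theorem c_tot7 : Nat.beq (rowTot (eCol 16 ET7 1 11) 1 4398046511104 27 Rc7 3 1 17199 11) (nth tots 0 7) = true := by decide +kernel
theorem c_for8_0 : forestOK (relR (mul2 24)) (labE 576 F ML8) (rIdx 15 RI8 17199) 24 T 27 Rc8 2 1 17199 11 253 0 538 = true := by decide +kernel
theorem c_lab8 : labsOK F 5371 (fld LV 8) ML8 2 = true := by decide +kernel
theorem c_root8_0 : rootsOK (relR (mul2 24)) (mul2 24) 576 F 5371 (fld LV 8) LV 11 be 24 T 17199 RT 1 15 RI8 16 ET8 0 253 = true := by decide +kernel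
theorem c_tot8 : Nat.beq (rowTot (eCol 16 ET8 1 11) 1 4398046511104 27 Rc8 2 1 17199 11) (nth tots 0 8) = true := by decide +kernel
theorem c_for9_0 : forestOK (relR (mul2 24)) (labE 576 F ML9) (rIdx 15 RI9 17199) 24 T 23 Rc9 2 1 17199 18 13 0 538 = true := by decide +kernel
theorem c_lab9 : labsOK F 5371 (fld LV 9) ML9 2 = true := by decide +kernel
theorem c_root9_0 : rootsOK (relR (mul2 24)) (mul2 24) 576 F 5371 (fld LV 9) LV 11 be 24 T 17199 RT 1 15 RI9 16 ET9 0 13 = true := by decide +kernel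
theorem c_tot9 : Nat.beq (rowTot (eCol 16 ET9 1 11) 1 4398046511104 23 Rc9 2 1 17199 18) (nth tots 0 9) = true := by decide +kernel
theorem c_for10_0 : forestOK (relR (mul2 24)) (labE 576 F ML10) (rIdx 15 RI10 17199) 24 T 27 Rc10 3 1 17199 8 259 0 538 = true := by decide +kernel
theorem c_lab10 : labsOK F 5371 (fld LV 10) ML10 3 = true := by decide +kernel
theorem c_root10_0 : rootsOK (relR (mul2 24)) (mul2 24) 576 F 5371 (fld LV 10) LV 11 be 24 T 17199 RT 1 15 RI10 16 ET10 0 259 = true := by decide +kernel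
theorem c_tot10 : Nat.beq (rowTot (eCol 16 ET10 1 11) 1 4398046511104 27 Rc10 3 1 17199 8) (nth tots 0 10) = true := by decide +kernel
theorem c_lab : labW (mul2 24) (ones (Nat.succ 24) 24) 576 CV (maskL LL) (labE 576 F ML0) lab0 = true := by decide +kernel
theorem c_beta : Nat.beq (get2 24 T (rIdx 11 RI0 17199 0)) be = true := by decide +kernel
theorem c_stat : statOK 11 (17199 * 1) 4398046511104 (nth ns 0) (nth tots 0) = true := by decide +kernel
theorem c_sub : subsetOK 143127000 (nth ns 0) 10 1 = true := by decide +kernel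
end H88.ThT
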