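import Cfsg.Agent.H88.ThC0
import Cfsg.Agent.H88.ThC1
import Cfsg.Agent.H88.ThY
import Cfsg.Agent.H71.GiantThC
/-! The double coset table of Th. -/
set_option maxRecDepth 1000000
set_option Elab.async false
set_option linter.unusedVariables false
namespace H88.ThT
open H73
open H71 (Tr nth evw linv gen maskL winv mkRule Sat)
theorem  hJ : Ths.JobC := H71.GiantThC.jobC
noncomputable abbrev S := (sys2 24 (by decide))
noncomputable abbrev Q := (ptsR S)
noncomputable def cv := (exists_env S (fun _ => rfl) c_env).choose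
theorem hcv : ∀ l < 11, S.R (get2 576 CV l) (cv l) := (exists_env S (fun _ => rfl) c_env).choose_spec.1
theorem hcL : ∀ l ∈ LL, S.R (get2 576 CV l) (cv l) := fun l hl => hcv l ((by decide : ∀ l ∈ LL, l < 11) l hl)
theorem satC : Sat 6 11 (Ths.R.take 27) cv := ⟨(exists_env S (fun _ => rfl) c_env).choose_spec.2.2,
  (exists_env S (fun _ => rfl) c_env).choose_spec.2.1 11 le_rfl, relsOne_spec hcL c_relC⟩
def dR : List (List ℕ) := []
theorem dR_sub : ∀ r ∈ dR, r ∈ Ths.R.take 27 := by decide +kernel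
noncomputable abbrev H := gen cv LG
noncomputable instance : Fintype H := Fintype.ofFinite _
noncomputable abbrev K := tgen S 576 PA 7
theorem letIn : LetIn S H 576 CV LL := letIn_of_mem hcv (ext_mem satC.hv (fun r hr => satC.hR r (dR_sub r hr))
  (fun l hl => H71.mem_gen cv hl) (by decide +kernel)) (by decide +kernel)
theorem KH : TabIn S 576 PA 7 H := wordsL_in letIn c_wa
theorem PAK : TabIn S 576 PA 498 K := (KH.self.step c_slpA0 (hi := 498) rfl)
theorem for0 : Forest Q.rel (labE 576 F ML0) (rIdx 11 RI0 17199) 24 T 21 Rc0 5 1 17199 20 1 0 17216 := (forestOK_spec c_for0_0)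
theorem for1 : Forest Q.rel (labE 576 F ML1) (rIdx 14 RI1 17199) 24 T 23 Rc1 2 1 17199 16 12 0 17216 := (forestOK_spec c_for1_0)
theorem for2 : Forest Q.rel (labE 576 F ML2) (rIdx 14 RI2 17199) 24 T 23 Rc2 2 1 17199 18 9 0 17216 := (forestOK_spec c_for2_0)
theorem for3 : Forest Q.rel (labE 576 F ML3) (rIdx 15 RI3 17199) 24 T 26 Rc3 3 1 17199 11 97 0 17216 := (forestOK_spec c_for3_0)
theorem for4 : Forest Q.rel (labE 576 F ML4) (rIdx 15 RI4 17199) 24 T 25 Rc4 3 1 17199 9 53 0 17216 := (forestOK_spec c_for4_0)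
theorem for5 : Forest Q.rel (labE 576 F ML5) (rIdx 15 RI5 17199) 24 T 27 Rc5 2 1 17199 9 358 0 17216 := (forestOK_spec c_for5_0)
theorem for6 : Forest Q.rel (labE 576 F ML6) (rIdx 15 RI6 17199) 24 T 29 Rc6 2 1 17199 3 2975 0 17216 := (forestOK_spec c_for6_0)
theorem for7 : Forest Q.rel (labE 576 F ML7) (rIdx 15 RI7 17199) 24 T 27 Rc7 3 1 17199 11 158 0 17216 := (forestOK_spec c_for7_0)
theorem for8 : Forest Q.rel (labE 576 F ML8) (rIdx 15 RI8 17199) 24 T 27 Rc8 2 1 17199 11 253 0 17216 := (forestOK_spec c_for8_0)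
theorem for9 : Forest Q.rel (labE 576 F ML9) (rIdx 15 RI9 17199) 24 T 23 Rc9 2 1 17199 18 13 0 17216 := (forestOK_spec c_for9_0)
theorem for10 : Forest Q.rel (labE 576 F ML10) (rIdx 15 RI10 17199) 24 T 27 Rc10 3 1 17199 8 259 0 17216 := (forestOK_spec c_for10_0)
theorem low : LowH Q H K be 17199 24 T 576 RT 1 36864 :=
  ⟨for0.reach1 Q (by decide) (by decide) (labW_spec letIn c_lab) c_beta, sortedOK_spec Q c_sorted, fixOK_spec Q KH c_kfix,
   fixT_spec Q (wordsL_in letIn c_rw) c_rfix, SepC.one, lowK_of_chain Q PAK (sortedOK_spec Q c_sorted) c_chain (by decide)⟩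
theorem satS : Sat 6 11 (Ths.R.take 27) (H71.pairVal Ths.val cv) := (Ths.sat.mono fun r hr => List.mem_of_mem_take hr).pair satC
theorem exφ : Nat.card H = 634023936 ∧ ∃ φ : H →* Cfsg.Spor.Th, (∀ l (h : l ∈ LG), φ ⟨cv l, H71.mem_gen cv h⟩ = Ths.val l) ∧ φ.range = gen Ths.val LG :=
  (exists_hom_of_bound Ths.val cv LG (hJ satS) low.card).2
noncomputable def φ : H →* Cfsg.Spor.Th := exφ.2.choose
theorem range_φ : φ.range = gen Ths.val LG := exφ.2.choose_spec.2
theorem lets : Lets S φ Ths.val 576 CV LL := lets_of_graph hcv (by decide) fun l hl =>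
  ext_mem (A := graphS φ) (L := LG) satS.hv (fun r hr => satS.hR r (dR_sub r hr)) (fun l hl => ⟨⟨cv l, H71.mem_gen cv hl⟩, Prod.ext (exφ.2.choose_spec.1 l hl) rfl⟩)
    (by decide +kernel) l ((by decide +kernel : ∀ l ∈ LL, l ∈ extL 6 dR LG) l hl)
theorem hRR : ∀ r ∈ RR, evw Ths.val r = 1 := fun r hr => Ths.sat.hR r (by simpa [RR] using hr)
theorem hinv0 : ∃ b0 b1 : H, S.R (evL S.mul S.one 576 CV []) b0 ∧ S.R (evL S.mul S.one 576 CV [8,6]) b1 ∧
  (Ths.val 4)⁻¹ = φ b1 * Ths.val 4 * φ b0 := inv_rel lets (H71.evw_mkRule Ths.hv hRR _) c_inv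
theorem Y.pairs : PTab S (pairSub φ (Ths.val 4)) 576 Y.PA Y.PB 103 :=
  (PTab.init lets Y.c_wa Y.c_wb rfl (conjW_spec Ths.hv (H71.evw_rules Ths.hv hRR _) Y.c_conj)).step Y.c_slpA Y.c_slpB rfl
theorem Y.thyp : THyp S φ (Ths.val 4) (ptW Ths.val Y.uw (1 : Cfsg.Spor.Th)) Y.dd :=
  thyp_mk lets (Ths.hv 4) hinv0 Y.dd rfl rfl rfl (kapT_spec (o := 7) (n := 96) (offs := []) Y.pairs (by decide)) Y.c_valid Y.c_defs
    (H71.evw_rules Ths.hv hRR _) Y.c_rels
theorem pair0 : PTab S (pairSub φ (Ths.val 4)) 576 PA PB 7 :=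
  pairs_two (PTab.init lets c_wa0 c_wb rfl (conjW_spec Ths.hv (H71.evw_rules Ths.hv hRR _) c_conj))
    (chkRange2_spec Y.thyp holds2_zero Y.c_dce (hi := 82) rfl)
    (by show evw _ (Y.uw.getD 1 []) • _ = _; rw [show Y.uw.getD 1 [] = [4] from rfl]; simp) Y.c_pairs rfl
theorem pairs : PTab S (pairSub φ (Ths.val 4)) 576 PA PB 498 := (pair0.step c_slpA0 c_slpB0 (hi := 498) rfl)
theorem hinv : ∃ b0 b1 : H, S.R (evL S.mul S.one 576 CV []) b0 ∧ S.R (evL S.mul S.one 576 CV [8,6]) b1 ∧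
  (Ths.val 4)⁻¹ = φ b1 * Ths.val 4 * φ b0 := inv_rel lets (H71.evw_mkRule Ths.hv hRR _) c_inv
theorem dhyp : DHyp S φ (Ths.val 4) (om Ths.val uw φ.range) dd :=
  dhyp_mk lets (Ht := φ.range) (fun c => ⟨c, rfl⟩) (Ths.hv 4) hinv dd rfl rfl rfl (kapT_spec (o := 9) (n := 384) (offs := [(402,96)]) pairs (by decide)) c_valid c_defs
    (H71.evw_rules Ths.hv hRR _) c_rels (fun w hw => absurd hw List.not_mem_nil) c_subs
theorem holds : ∀ i < 5371, Holds S φ (Ths.val 4) (om Ths.val uw φ.range) 576 (F i) := (chkRange_spec dhyp (chkRange_spec dhyp (chkRange_spec dhyp (chkRange_spec dhyp (chkRange_spec dhyp holds_zero c_dce0 (hi := 1413) rfl) c_dce1 (hi := 2442) rfl) c_dce2 (hi := 3407) rfl) c_dce3 (hi := 4455) rfl) c_dce4 (hi := 5371) rfl)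
theorem exa : SubOrb Q H K be 17199 24 T 576 RT 1 ∧ Nat.card K = 36864 ∧ ∀ A, A ≤ K → (∀ g ∈ H, ∀ n ∈ A, g * n * g⁻¹ ∈ A) → A = ⊥ := low.exact (by rw [exφ.1])
theorem RTH : TabIn S 576 RT 1 H := wordsL_in letIn c_rw
theorem row0 : RowA φ 11 (fun a => om Ths.val uw φ.range (fld LV a)) (Ths.val 4) (Nat.card K) (17199 * 1) 4398046511104 0 (nth tots 0 0) :=
  rowA_of_facts exa.1 pair0.conj holds (by decide) for0 (by decide) (by decide) c_lab0 (Roots.step holds RTH (by decide) (Roots.zero Q) c_root0_0 (hi := 1) rfl) c_tot0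
theorem row1 : RowA φ 11 (fun a => om Ths.val uw φ.range (fld LV a)) (Ths.val 4) (Nat.card K) (17199 * 1) 4398046511104 1 (nth tots 0 1) :=
  rowA_of_facts exa.1 pair0.conj holds (by decide) for1 (by decide) (by decide) c_lab1 (Roots.step holds RTH (by decide) (Roots.zero Q) c_root1_0 (hi := 12) rfl) c_tot1
theorem row2 : RowA φ 11 (fun a => om Ths.val uw φ.range (fld LV a)) (Ths.val 4) (Nat.card K) (17199 * 1) 4398046511104 2 (nth tots 0 2) :=
  rowA_of_facts exa.1 pair0.conj holds (by decide) for2 (by decide) (by decide) c_lab2 (Roots.step holds RTH (by decide) (Roots.zero Q) c_root2_0 (hi := 9) rfl) c_tot2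
theorem row3 : RowA φ 11 (fun a => om Ths.val uw φ.range (fld LV a)) (Ths.val 4) (Nat.card K) (17199 * 1) 4398046511104 3 (nth tots 0 3) :=
  rowA_of_facts exa.1 pair0.conj holds (by decide) for3 (by decide) (by decide) c_lab3 (Roots.step holds RTH (by decide) (Roots.zero Q) c_root3_0 (hi := 97) rfl) c_tot3
theorem row4 : RowA φ 11 (fun a => om Ths.val uw φ.range (fld LV a)) (Ths.val 4) (Nat.card K) (17199 * 1) 4398046511104 4 (nth tots 0 4) :=
  rowA_of_facts exa.1 pair0.conj holds (by decide) for4 (by decide) (by decide) c_lab4 (Roots.step holds RTH (by decide) (Roots.zero Q) c_root4_0 (hi := 53) rfl) c_tot4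
theorem row5 : RowA φ 11 (fun a => om Ths.val uw φ.range (fld LV a)) (Ths.val 4) (Nat.card K) (17199 * 1) 4398046511104 5 (nth tots 0 5) :=
  rowA_of_facts exa.1 pair0.conj holds (by decide) for5 (by decide) (by decide) c_lab5 (Roots.step holds RTH (by decide) (Roots.zero Q) c_root5_0 (hi := 358) rfl) c_tot5
theorem row6 : RowA φ 11 (fun a => om Ths.val uw φ.range (fld LV a)) (Ths.val 4) (Nat.card K) (17199 * 1) 4398046511104 6 (nth tots 0 6) :=
  rowA_of_facts exa.1 pair0.conj holds (by decide) for6 (by decide) (by decide) c_lab6 (Roots.step holds RTH (by decide) (Roots.zero Q) c_root6_0 (hi := 2975) rfl) c_tot6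
theorem row7 : RowA φ 11 (fun a => om Ths.val uw φ.range (fld LV a)) (Ths.val 4) (Nat.card K) (17199 * 1) 4398046511104 7 (nth tots 0 7) :=
  rowA_of_facts exa.1 pair0.conj holds (by decide) for7 (by decide) (by decide) c_lab7 (Roots.step holds RTH (by decide) (Roots.zero Q) c_root7_0 (hi := 158) rfl) c_tot7
theorem row8 : RowA φ 11 (fun a => om Ths.val uw φ.range (fld LV a)) (Ths.val 4) (Nat.card K) (17199 * 1) 4398046511104 8 (nth tots 0 8) :=
  rowA_of_facts exa.1 pair0.conj holds (by decide) for8 (by decide) (by decide) c_lab8 (Roots.step holds RTH (by decide) (Roots.zero Q) c_root8_0 (hi := 253) rfl) c_tot8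
theorem row9 : RowA φ 11 (fun a => om Ths.val uw φ.range (fld LV a)) (Ths.val 4) (Nat.card K) (17199 * 1) 4398046511104 9 (nth tots 0 9) :=
  rowA_of_facts exa.1 pair0.conj holds (by decide) for9 (by decide) (by decide) c_lab9 (Roots.step holds RTH (by decide) (Roots.zero Q) c_root9_0 (hi := 13) rfl) c_tot9
theorem row10 : RowA φ 11 (fun a => om Ths.val uw φ.range (fld LV a)) (Ths.val 4) (Nat.card K) (17199 * 1) 4398046511104 10 (nth tots 0 10) :=
  rowA_of_facts exa.1 pair0.conj holds (by decide) for10 (by decide) (by decide) c_lab10 (Roots.step holds RTH (by decide) (Roots.zero Q) c_root10_0 (hi := 259) rfl) c_tot10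
theorem rows : ∀ a < 11, RowA φ 11 (fun a => om Ths.val uw φ.range (fld LV a)) (Ths.val 4) (Nat.card K) (17199 * 1) 4398046511104 a (nth tots 0 a) := by
  intro a ha
  interval_cases a
  exacts [row0, row1, row2, row3, row4, row5, row6, row7, row8, row9, row10]
theorem htop (A : Subgroup Cfsg.Spor.Th) (h1 : ∀ c, φ c ∈ A) (h2 : Ths.val 4 ∈ A) : A = ⊤ := by
  rw [eq_top_iff, ← Ths.top]
  refine H71.gen_le fun l hl => ?_
  rcases (by decide : ∀ l ∈ [0,2,4,6,7,8,9,10], l = 4 ∨ l ∈ LL) l hl with rfl | h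
  · exact h2
  · obtain ⟨c, -, e⟩ := lets l h
    exact e ▸ h1 c
end H88.ThT
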